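import Cfsg.Agent.H8.PiHom
import Cfsg.Agent.H16.QNil
import Cfsg.Agent.H1.FTLib

/-! `π`-homogeneous groups: inheritance and reduction to simple groups. -/

set_option autoImplicit false
set_option linter.unusedSectionVars false

open Subgroup Cfsg H1 H16

namespace H17.Ho

universe u

/-- `π'`-elements normalizing a `p`-subgroup, `p ∈ π`, centralize it -/
def PH (π : Set ℕ) (G : Type*) [Group G] : Prop :=
  ∀ p : ℕ, p.Prime → p ∈ π → ∀ P : Subgroup G, IsPGroup p P → ∀ x : G, IsPiNat πᶜ (orderOf x) →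
    x ∈ N[P] → x ∈ C[P]

variable {G : Type*} [Group G] [Finite G] {π : Set ℕ}

theorem cent_of_hom (h : ∀ H : Subgroup G, H ≠ ⊥ → IsPiNat π (Nat.card H) → IsPiNat π (C[H].relIndex N[H]))
    {H : Subgroup G} (hH : IsPiNat π (Nat.card H)) {x : G} (hx : IsPiNat πᶜ (orderOf x)) (hn : x ∈ N[H]) :
    x ∈ C[H] := by
  by_cases hb : H = ⊥
  · rw [hb, cent_bot]; trivial
  have h3 := H8.eq_one_of_pi (π := π) (y := QuotientGroup.mk' (C[H].subgroupOf N[H]) ⟨x, hn⟩)
    ((h H hb hH).of_dvd (orderOf_dvd_natCard _))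
    (hx.of_dvd ((orderOf_map_dvd _ _).trans (by rw [← orderOf_coe])))
  exact (QuotientGroup.eq_one_iff (⟨x, hn⟩ : N[H])).1 h3

theorem ph_of_hom (h : ∀ H : Subgroup G, H ≠ ⊥ → IsPiNat π (Nat.card H) → IsPiNat π (C[H].relIndex N[H])) :
    PH π G := fun p hp hπ P hP x hx hn => by
  have := Fact.mk hp
  exact cent_of_hom h ((isPiNat_card_singleton_iff.2 hP).mono (Set.singleton_subset_iff.2 hπ)) hx hn

theorem PH.inj (h : PH π G) {X : Type*} [Group X] (f : X →* G) (hf : Function.Injective f) : PH π X :=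
  fun p hp hπ P hP x hx hn => fun y hy => hf (by
    rw [map_mul, map_mul]
    exact h p hp hπ (P.map f) (hP.map f) (f x) (by rwa [orderOf_injective f hf])
      (le_normalizer_map f ⟨x, hn, rfl⟩) _ ⟨y, hy, rfl⟩)

theorem PH.sub (h : PH π G) (H : Subgroup G) : PH π H := h.inj H.subtype H.subtype_injective

theorem exists_lift_mem {X : Type*} [Group X] (f : G →* X) {H : Subgroup G} {x : G} (hx : x ∈ H) :
    ∃ y ∈ H, f y = f x ∧ ∀ q : ℕ, q.Prime → q ∣ orderOf y → q ∣ orderOf (f x) := by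
  obtain ⟨y, h1, h2⟩ := H8.exists_lift_coprime (f.comp H.subtype).rangeRestrict
    (MonoidHom.rangeRestrict_surjective _) ⟨f x, ⟨x, hx⟩, rfl⟩
  exact ⟨y, y.2, congrArg Subtype.val h1, fun q hq hd => by
    simpa [← orderOf_coe] using h2 q hq (by rwa [← orderOf_coe])⟩

theorem PH.surj (h : PH π G) {X : Type*} [Group X] (f : G →* X) (hf : Function.Surjective f) : PH π X := by
  intro p hp hπ P hP x hx hn
  have := Fact.mk hp
  have : Finite X := Finite.of_surjective f hf
  obtain ⟨g, rfl⟩ := hf x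
  obtain ⟨Q, hQ⟩ := sy_exists p (P.comap f)
  have hg : g ∈ N[P.comap f] := le_normalizer_comap f hn
  have hm : Q.map f = P := by
    have := H1.IsPiHallOf.map hQ f
    rw [map_comap_eq_self_of_surjective hf] at this
    exact hl_eq_self this (pg_iff.2 hP)
  have hK : f.ker ⊔ Q = P.comap f := by rw [← hm, comap_map_eq, sup_comm]
  obtain ⟨k, hk, n, h1, rfl⟩ := sy_frattini hQ hg
  rw [← hK, mem_sup_l (le_normalizer_of_normal)] at hk
  obtain ⟨k, hk, a, ha, rfl⟩ := hk
  obtain ⟨y, h2, h3, h4⟩ := exists_lift_mem f (mul_mem (le_norm Q ha) h1)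
  have e : f (k * a * n) = f (a * n) := by rw [mul_assoc, map_mul, MonoidHom.mem_ker.1 hk, one_mul]
  rw [e] at hx ⊢
  have h5 := h p hp hπ Q (sy_pg hQ) y (fun q hq hd => hx q hq (h4 q hq hd)) h2
  rw [← h3, ← hm]
  rintro _ ⟨z, hz, rfl⟩
  rw [← map_mul, ← map_mul, h5 z hz]

/-- a `π`-subgroup of a quotient is the image of a `π`-subgroup -/
theorem exists_lift_pi {X : Type*} [Group X] (f : G →* X) (hf : Function.Surjective f) {U : Subgroup X}
    (hU : Pi[π] U) : ∃ V : Subgroup G, Pi[π] V ∧ V.map f = U := by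
  obtain ⟨V, -, h1, h2⟩ := exists_min_of (C := fun V : Subgroup G => V.map f = U)
    (map_comap_eq_self_of_surjective hf U)
  refine ⟨V, fun q hq hd => by_contra fun hπ => ?_, h1⟩
  have := Fact.mk hq
  have : Finite X := Finite.of_surjective f hf
  obtain ⟨Q, hQ⟩ := sy_exists q V
  have h3 : Q ≤ f.ker := by
    have := H1.IsPiHallOf.map hQ f
    rw [h1] at this
    exact (Subgroup.map_eq_bot_iff _).1 (hl_eq_bot this fun r hr hd e => hπ (by
      rw [Set.mem_singleton_iff.1 e] at hd; exact hU q hq hd))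
  have key : ∀ K W : Subgroup G, K ≤ f.ker → K ⊔ W = V → W = V := fun K W a b =>
    h2 W (by rw [← h1, ← b, Subgroup.map_sup, (Subgroup.map_eq_bot_iff _).2 a, bot_sup_eq]) (b ▸ le_sup_right)
  have h4 := key _ _ inf_le_right (sy_frattini_sup (hl_of_le hQ (le_inf hQ.1 h3) inf_le_left) inf_le_left
    (norm_inf (le_norm V) le_normalizer_of_normal))
  obtain ⟨W, hW⟩ := (piSep_of_relIndex hQ.1 (h4.ge.trans inf_le_right) (piSep_of_isPiNat (hl_pi hQ))
    (Or.inr (hl_idx hQ))).compl.hallOK'.exists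
  exact hl_pi hW q hq ((key _ _ h3 (hl_sup_compl hQ hW)).symm ▸ hd) rfl

/-- reduction to simple groups -/
theorem piSep_ind (T : ∀ (X : Type u) [Group X], Prop)
    (h1 : ∀ (X : Type u) [Group X] [Finite X] (N : Subgroup X) [N.Normal], T X → T N ∧ T (X ⧸ N))
    (h2 : ∀ (X : Type u) [Group X] [Finite X], IsSimpleGroup X → ¬ IsMulCommutative X → T X →
      IsPiNat π (Nat.card X) ∨ IsPiNat πᶜ (Nat.card X))
    (X : Type u) [Group X] [Finite X] (h : T X) : PiSep π X := by
  induction hn : Nat.card X using Nat.strong_induction_on generalizing X with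
  | _ n ih =>
  subst hn
  by_cases hc : IsMulCommutative X
  · exact piSep_of_isSolvable π (Group.isSolvable_of_comm hc.1.1)
  by_cases hs : IsSimpleGroup X
  · exact (h2 X hs hc h).elim piSep_of_isPiNat piSep_of_isPiNat_compl
  have : Nontrivial X := by
    by_contra e
    rw [not_nontrivial_iff_subsingleton] at e
    exact hc ⟨⟨fun a b => Subsingleton.elim _ _⟩⟩
  obtain ⟨N, hN, a, b⟩ : ∃ N : Subgroup X, N.Normal ∧ N ≠ ⊥ ∧ N ≠ ⊤ := by
    by_contra! e
    exact hs ⟨fun N hN => or_iff_not_imp_left.2 (e N hN)⟩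
  refine PiSep.of_normal_quotient N (ih _ ?_ N (h1 X N h).1 rfl) (ih _ ?_ _ (h1 X N h).2 rfl)
  · simpa using card_lt (lt_top_iff_ne_top.2 b)
  · rw [card_eq_card_quotient_mul_card_subgroup N]
    exact lt_mul_of_one_lt_right Nat.card_pos ((one_lt_card_iff_ne_bot N).2 a)

theorem closed {G : Type*} [Group G] [Finite G] (hs : PiSep π G)
    (h : ∀ H : Subgroup G, H ≠ ⊥ → IsPiNat π (Nat.card H) → IsPiNat π (C[H].relIndex N[H])) :
    ∃ K : Subgroup G, ∀ x : G, x ∈ K ↔ IsPiNat πᶜ (orderOf x) :=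
  H8.closed_of_hom hs.compl (by rwa [compl_compl])

/-- an element of prime order in `π` is not inverted by an involution if `2 ∉ π` -/
theorem PH.not_inv (h : PH π G) (h2 : 2 ∉ π) {p : ℕ} (hp : p.Prime) (hπ : p ∈ π) {y t : G} (hy : orderOf y = p)
    (ht : t * t = 1) (e : t * y * t⁻¹ = y⁻¹) : False := by
  have := Fact.mk hp
  have h1 := h p hp hπ (zpowers y) (IsPGroup.of_card (n := 1) (by simp [hy])) t
    (fun q hq hd a => h2 (by
      have := (Nat.prime_dvd_prime_iff_eq hq Nat.prime_two).1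
        (hd.trans (orderOf_dvd_of_pow_eq_one (by rw [sq, ht])))
      rwa [← this]))
    (cj_eq_self_iff.1 (by rw [← zpowers_cj, e, zpowers_inv])) y (mem_zpowers y)
  rw [← h1, mul_inv_cancel_right, eq_inv_iff_mul_eq_one, ← sq] at e
  have := (Nat.prime_dvd_prime_iff_eq hp Nat.prime_two).1 (hy ▸ orderOf_dvd_of_pow_eq_one e)
  exact h2 (this ▸ hπ)

end H17.Ho
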