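import Cfsg.Agent.H17.T3
import Cfsg.Agent.H17.PH
import Cfsg.Agent.H26.SzSol
import Cfsg.Agent.H26.SzInst

/-! Facts on Suzuki groups for `π`-homogeneity. -/

set_option autoImplicit false

open Cfsg Subgroup H1 H16 H26

namespace H17.T3

universe u

variable {G : Type*} [Group G]

theorem exists_model (h : Lie.IsoSuzuki G) :
    ∃ (F : Type) (_ : Field F) (_ : Fintype F) (m : ℕ), Nonempty (SzModel G F m) := by
  obtain ⟨F, _, _, m, h1, h2, ⟨e⟩⟩ := h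
  exact ⟨F, _, _, m, ⟨(Sz.lieModel h1 h2).ofEquiv e⟩⟩

variable {F : Type*} [Field F] [Fintype F] {m : ℕ}

theorem real (M : SzModel G F m) {y : G} (h1 : y ≠ 1) (ho : Odd (orderOf y)) :
    ∃ t : G, t * t = 1 ∧ t * y * t⁻¹ = y⁻¹ := by
  have := M.finite
  rcases M.cent_cases h1 ho with h | ⟨k, h, -⟩
  · obtain ⟨t, h2, h3⟩ := exists_orderOf (H := N[C1[y]]) Nat.prime_two
      (by rw [h.card_normalizer]; exact Dvd.dvd.mul_right (by norm_num) _)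
    have h4 : t * t = 1 := by rw [← sq, ← h3, pow_orderOf_eq_one]
    obtain ⟨k, hk⟩ := M.exists_mem_conj_Q_of_sq h4
    exact ⟨t, h4, (M.conj k).YY_inv ((M.conj k).Z_le_Q hk) (by rintro rfl; simp at h3) ⟨h1, ho, h2⟩ h4⟩
  · exact ⟨_, (M.conj k).w_mul_w, by rw [SzModel.w_inv]; exact (M.conj k).w_conj_of_mem_H h⟩

theorem pi_compl_of_ph [Finite G] {π : Set ℕ} (h : Ho.PH π G) (h2 : 2 ∉ π) (hG : Lie.IsoSuzuki G) :
    IsPiNat πᶜ (Nat.card G) := fun p hp hd hπ => by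
  obtain ⟨F, _, _, m, ⟨M⟩⟩ := exists_model hG
  have := Fact.mk hp
  obtain ⟨y, hy⟩ := exists_prime_orderOf_dvd_card' p hd
  obtain ⟨t, h3, h4⟩ := real M (y := y) (by rintro rfl; exact hp.one_lt.ne (by simpa using hy))
    (hy ▸ hp.odd_of_ne_two fun e => h2 (e ▸ hπ))
  exact h.not_inv h2 hp hπ hy h3 h4

theorem piSep_odd {G : Type u} [Group G] [Finite G] {π : Set ℕ} (h : Ho.PH π G) (h2 : 2 ∉ π)
    (h3 : ¬ 3 ∣ Nat.card G) : PiSep π G :=
  Ho.piSep_ind (fun X _ => Ho.PH π X ∧ ¬ 3 ∣ Nat.card X) (fun _ _ _ N _ h =>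
    ⟨⟨h.1.sub N, fun e => h.2 (e.trans (card_subgroup_dvd_card N))⟩,
      h.1.surj _ (QuotientGroup.mk'_surjective N), fun e => h.2 (e.trans (card_quotient_dvd_card N))⟩)
    (fun _ _ _ a b h => Or.inr (pi_compl_of_ph h.1 h2 (isoSuzuki a b h.2))) G ⟨h, h3⟩

theorem pi_H {π : Set ℕ} (M : SzModel G F m) (h : Ho.PH π G) (h2 : 2 ∈ π) : Pi[π] M.H := fun q hq hd => by
  have := M.finite
  by_contra hπ
  obtain ⟨x, h1, h3⟩ := exists_orderOf hq hd
  have h4 := h 2 Nat.prime_two h2 M.Q M.isPGroup_Q x (fun r hr e => by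
    rwa [(Nat.prime_dvd_prime_iff_eq hr hq).1 (h3 ▸ e)]) (M.normalizer_Q ▸ M.H_le_B h1)
  have h5 := M.mem_Q_of_comm (M.u_mem_Q 0 1) (by simp [M.u_eq_one_iff]) (h4 _ (M.u_mem_Q 0 1)).symm
  rw [eq_one_of_mem_bot M.Q_inf_H ⟨h5, h1⟩, orderOf_one] at h3
  exact hq.one_lt.ne h3

theorem pg_invol {t : G} (ht : t * t = 1) : Pg[2] (zpowers t) := fun q hq hd =>
  (Nat.prime_dvd_prime_iff_eq hq Nat.prime_two).1
    (hd.trans (by rw [card_zpowers]; exact orderOf_dvd_of_pow_eq_one (by rw [sq, ht])))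

theorem pi_dih {π : Set ℕ} (M : SzModel G F m) (h : Ho.PH π G) (h2 : 2 ∈ π) : Pi[π] (M.H ⊔ zpowers M.w) :=
  (IsPiNat.mul (pi_H M h h2) (IsPiNat.mono (pg_invol M.w_mul_w) (Set.singleton_subset_iff.2 h2))).of_dvd
    (card_sup_dvd (Or.inr (zpowers_le.2 (M.mem_normalizer_H.2 (Or.inr (M.w_mul_w ▸ one_mem _))))))

/-- an odd order element inverted by an involution, inside a `2`-closed group, is trivial -/
theorem eq_one_of_closed [Finite G] {P K : Subgroup G} (hP : Sy[2] P K) (hn : K ≤ N[P]) {k t : G} (hk : k ∈ K)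
    (htK : t ∈ K) (ht : t * t = 1) (e : t * k * t⁻¹ = k⁻¹) (ho : Odd (orderOf k)) : k = 1 := by
  have := Fact.mk Nat.prime_two
  have h1 : t ∈ P := le_hl_normal hP hn (zpowers_le.2 htK) (pg_invol ht) (mem_zpowers t)
  have h2 : k ^ 2 ∈ P := by
    have := mul_mem (conj_mem (hn hk) h1) (inv_mem h1)
    rwa [show k * t * k⁻¹ * t⁻¹ = k * (t * k * t⁻¹)⁻¹ by group, e, inv_inv, ← sq] at this
  have h3 : k ∈ P := by
    obtain ⟨j, hj⟩ := ho
    have : k = ((k ^ 2) ^ j)⁻¹ := by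
      rw [eq_inv_iff_mul_eq_one, ← pow_mul, ← pow_succ', ← hj, pow_orderOf_eq_one]
    exact this ▸ inv_mem (pow_mem h2 j)
  exact H8.eq_one_of_pi (π := {2}) (IsPiNat.of_dvd (hl_pi hP) (orderOf_dvd_card h3))
    ((isPiNat_compl_singleton_iff Nat.prime_two).2 (Nat.coprime_two_right.2 ho))

/-- every `π`-subgroup lies in a `π`-subgroup of odd index -/
def E2 (π : Set ℕ) (X : Type*) [Group X] : Prop :=
  ∀ U : Subgroup X, Pi[π] U → ∃ H : Subgroup X, Pi[π] H ∧ U ≤ H ∧ ¬ 2 ∣ H.index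

theorem pi_of_E2 [Finite G] {π : Set ℕ} (h : Ho.PH π G) (h2 : 2 ∈ π) (hE : E2 π G) (hG : Lie.IsoSuzuki G) :
    IsPiNat π (Nat.card G) := by
  obtain ⟨F, _, _, m, ⟨M⟩⟩ := exists_model hG
  have := Fact.mk Nat.prime_two
  obtain ⟨H, h1, h3, h4⟩ := hE _ (pi_dih M h h2)
  obtain ⟨P, hP⟩ := sy_exists 2 H
  have hP' : Sy[2] P ⊤ := hl_of_idx hP le_top (by
    rw [relIndex_top_right, isPiNat_compl_singleton_iff Nat.prime_two]
    exact ((Nat.Prime.coprime_iff_not_dvd Nat.prime_two).2 h4).symm)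
  obtain ⟨S, rfl⟩ := sylow_of_sy_top hP'
  obtain ⟨M', hM⟩ := M.exists_model_Q S
  by_cases hB : H ≤ M'.B
  · obtain ⟨k, hk, k1⟩ := M.exists_mem_H_ne_one
    exact (k1 (eq_one_of_closed hP (by rwa [hM, M'.normalizer_Q]) (h3 (mem_sup_left hk))
      (h3 (mem_sup_right (mem_zpowers _))) M.w_mul_w (by rw [M.w_inv]; exact M.w_conj_of_mem_H hk)
      (M.odd_orderOf_of_mem_H hk))).elim
  · rw [M'.eq_top_of_Q_le (hM ▸ hP.1) hB] at h1
    exact card_top (G := G) ▸ h1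

theorem piSep_two {G : Type u} [Group G] [Finite G] {π : Set ℕ} (h : Ho.PH π G) (h2 : 2 ∈ π) (hE : E2 π G)
    (h3 : ¬ 3 ∣ Nat.card G) : PiSep π G := by
  refine Ho.piSep_ind (fun X _ => Ho.PH π X ∧ ¬ 3 ∣ Nat.card X ∧ E2 π X) (fun X _ _ N _ h =>
    ⟨⟨h.1.sub N, fun e => h.2.1 (e.trans (card_subgroup_dvd_card N)), fun U hU => ?_⟩,
      h.1.surj _ (QuotientGroup.mk'_surjective N), fun e => h.2.1 (e.trans (card_quotient_dvd_card N)),
      fun U hU => ?_⟩)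
    (fun _ _ _ a b h => Or.inl (pi_of_E2 h.1 h2 h.2.2 (isoSuzuki a b h.2.1))) G ⟨h, h3, hE⟩
  · obtain ⟨H, a, b, c⟩ := h.2.2 (U.map N.subtype) (by
      unfold IsPiSubgroup; rwa [card_map_of_injective N.subtype_injective])
    exact ⟨H.subgroupOf N, IsPiNat.of_dvd a (card_comap_dvd_of_injective _ _ N.subtype_injective),
      map_le_iff_le_comap.1 b, fun e => c (e.trans (H8.relIndex_dvd_index_of_normal' H N))⟩
  · obtain ⟨V, hV, rfl⟩ := Ho.exists_lift_pi _ (QuotientGroup.mk'_surjective N) hU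
    obtain ⟨H, a, b, c⟩ := h.2.2 V hV
    exact ⟨H.map (QuotientGroup.mk' N), IsPiNat.of_dvd a (card_map_dvd _ _), map_mono b,
      fun e => c (e.trans (index_map_dvd _ (QuotientGroup.mk'_surjective N)))⟩

end H17.T3
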