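import Cfsg.Agent.H26.JRx
import Cfsg.Agent.H26.JRz
import Cfsg.Agent.H4.GA1
import Cfsg.Agent.H8.FTc
import Cfsg.Agent.H9.Krek4
import Cfsg.Agent.S0806
import Cfsg.Agent.S0205
import Cfsg.Agent.S0089
import Cfsg.Agent.S3669

/-! Subgroups of `2`-power index in groups with abelian Sylow `2`-subgroups. -/

set_option autoImplicit false
set_option linter.unusedSectionVars false

open Subgroup Cfsg H1 H16

namespace H17.A2

universe u

variable {G : Type u} [Group G] [Finite G]

theorem card_dvd_fact [IsSimpleGroup G] {H : Subgroup G} (h : H ≠ ⊤) : Nat.card G ∣ H.index.factorial := by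
  have h1 : H.normalCore = ⊥ := (IsSimpleGroup.eq_bot_or_eq_top_of_normal _ inferInstance).resolve_right
    fun e => h (top_le_iff.1 (e ▸ H.normalCore_le))
  rw [← index_bot, ← h1, normalCore_eq_ker, index_ker, index_eq_card, ← Nat.card_perm]
  exact card_subgroup_dvd_card _

theorem simple_idx (hs : IsSimpleGroup G) (hn : ¬ IsMulCommutative G) (S : Sylow 2 G)
    (hc : IsMulCommutative S) {H : Subgroup G} {k : ℕ} (h : H.index = 2 ^ k) : H = ⊤ := by
  by_contra h0
  have h1 := card_dvd_fact h0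
  have h2 : 2 ^ k ∣ Nat.card G := h ▸ H.index_dvd_card
  have h3 : H.index ∣ Nat.card S := by
    rw [← S.1.card_mul_index] at h2
    exact h ▸ (((Nat.prime_two.coprime_iff_not_dvd).2 S.not_dvd_index).pow_left k).dvd_of_dvd_mul_right h2
  have hS := H10.isSylowIn_top S
  rcases H26.J.walter hs hn hS (comm_iff.1 hc) with ⟨-, F, _, _, n, a1, a2, ⟨e⟩⟩ | a | ⟨p, n, ρ, τ, f, a⟩
  · have a3 := H4.card_psl (F := F)
    obtain ⟨m, rfl⟩ : ∃ m, n = m + 3 := ⟨n - 3, by omega⟩
    have a4 := (Cfsg.Agent.S0806.result a2 (by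
      simp only [Finset.mem_insert, Finset.mem_singleton, pow_add]; omega)).1
      (H.map e.toMonoidHom) fun k => h0 (by
        rw [← comap_map_eq_self_of_injective (f := e.toMonoidHom) e.injective H, k, comap_top])
    rw [index_map_of_bijective (f := e.toMonoidHom) e.bijective, h] at a4
    rw [← Nat.card_congr e.toEquiv, a2] at a3
    have a5 : 2 ^ k ∣ 2 ^ (m + 3) * ((2 ^ (m + 3)) ^ 2 - 1) := a3 ▸ h2.mul_left _
    have a6 : Nat.Coprime 2 ((2 ^ (m + 3)) ^ 2 - 1) := (Nat.prime_two.coprime_iff_not_dvd).2 (by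
      have : 0 < (2 ^ (m + 3)) ^ 2 := by positivity
      have : 2 ∣ (2 ^ (m + 3)) ^ 2 := dvd_pow (dvd_pow_self 2 (by omega)) (by omega)
      omega)
    have := Nat.le_of_dvd (by positivity) ((a6.pow_left k).dvd_of_dvd_mul_right a5)
    omega
  · rw [(((H16.GD.td_of_l2d (a.of_equiv topEquiv)).of_equiv topEquiv).elab hs hS).2] at h3
    have := Nat.le_of_dvd (by positivity) (h1.trans (Nat.factorial_dvd_factorial (Nat.le_of_dvd (by norm_num) h3)))
    exact hn ⟨⟨IsSimpleGroup.comm_iff_isSolvable.2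
      (Cfsg.Agent.S3669.solv_of_lt (this.trans_lt (by decide)))⟩⟩
  · rw [a.rf.card] at h3
    have a1 := Nat.le_of_dvd (by positivity) (h1.trans (Nat.factorial_dvd_factorial (Nat.le_of_dvd (by norm_num) h3)))
    rw [show Nat.factorial 8 = 40320 by decide] at a1
    obtain ⟨-, ⟨-, -, a2⟩ | ⟨-, -, a2, a3, -⟩⟩ := a.main
    · omega
    · have a4 : 3 ^ 3 ≤ 3 ^ n := Nat.pow_le_pow_right (by norm_num) a2
      have a5 : 27 ^ 3 ≤ (3 ^ n) ^ 3 := Nat.pow_le_pow_left a4 3
      have : 27 ^ 3 * (27 ^ 3 + 1) * 1 ≤ Nat.card G :=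
        a3 ▸ Nat.mul_le_mul (Nat.mul_le_mul a5 (by omega)) (by omega)
      omega

/-- abelian Sylow `2`-subgroups and a Hall `2'`-subgroup -/
def HA (X : Type*) [Group X] : Prop := (∀ P : Subgroup X, IsPGroup 2 P → IsMulCommutative P) ∧
  ∃ H : Subgroup X, ¬ 2 ∣ Nat.card H ∧ ∃ k, H.index = 2 ^ k

theorem comm_inj (h : ∀ P : Subgroup G, IsPGroup 2 P → IsMulCommutative P) {X : Type*} [Group X] (f : X →* G)
    (hf : Function.Injective f) (P : Subgroup X) (hP : IsPGroup 2 P) : IsMulCommutative P :=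
  H5.le_centralizer_map_iff hf |>.1 (comm_iff.1 (h _ (hP.map f))) |> comm_iff.2

theorem comm_surj (h : ∀ P : Subgroup G, IsPGroup 2 P → IsMulCommutative P) {X : Type*} [Group X] (f : G →* X)
    (hf : Function.Surjective f) (P : Subgroup X) (hP : IsPGroup 2 P) : IsMulCommutative P := by
  have := Fact.mk Nat.prime_two
  have := Finite.of_surjective f hf
  obtain ⟨Q, hQ⟩ := hP.exists_le_sylow
  obtain ⟨R, rfl⟩ := Sylow.mapSurjective_surjective hf 2 Q
  have := h R R.2
  have : IsMulCommutative ((R : Subgroup G).map f) := inferInstance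
  exact comm_iff.2 (comm_cent this hQ hQ)

theorem HA.solv (h : HA G) : Group.IsSolvable G := by
  refine H8.isSolvable_of_simple_cases (fun X _ _ => HA X) (fun X _ _ N _ ⟨h, H, h1, k, h2⟩ =>
    ⟨comm_inj h _ N.subtype_injective, H.subgroupOf N, fun e => h1 (e.trans ?_),
      H8.pow_of_dvd_pow Nat.prime_two (H8.relIndex_dvd_index_of_normal' H N) h2⟩)
    (fun X _ _ N _ ⟨h, H, h1, k, h2⟩ => ⟨comm_surj h _ (QuotientGroup.mk'_surjective N),
      H.map (QuotientGroup.mk' N), fun e => h1 (e.trans (card_map_dvd _ _)), H8.pow_of_dvd_pow Nat.prime_two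
        (index_map_dvd _ (QuotientGroup.mk'_surjective N)) h2⟩) (fun X _ _ hs ⟨h, H, h1, k, h2⟩ => ?_) _ G rfl h
  · exact card_comap_dvd_of_injective _ _ N.subtype_injective
  by_contra h0
  have := Fact.mk Nat.prime_two
  obtain ⟨S⟩ : Nonempty (Sylow 2 X) := inferInstance
  rw [simple_idx hs (fun e => h0 (Group.isSolvable_of_comm e.1.1)) S (h S S.2) h2, card_top] at h1
  exact h0 (Cfsg.Agent.S0205.result (Nat.odd_iff.2 (by omega)))

/-- a subgroup of `2`-power index contains a term of the derived series -/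
theorem solv_quot (h : ∀ P : Subgroup G, IsPGroup 2 P → IsMulCommutative P) {H : Subgroup G} {k : ℕ}
    (hk : H.index = 2 ^ k) : Group.IsSolvable (G ⧸ H.normalCore) := by
  have := Fact.mk Nat.prime_two
  have hs := QuotientGroup.mk'_surjective H.normalCore
  refine HA.solv ⟨comm_surj h _ hs, H.map (QuotientGroup.mk' _), fun e => ?_,
    H8.pow_of_dvd_pow Nat.prime_two (index_map_dvd _ hs) hk⟩
  obtain ⟨y, hy⟩ := exists_prime_orderOf_dvd_card' 2 e
  obtain ⟨x, h1, j, h2⟩ := H8.exists_lift_pElt _ ((QuotientGroup.mk' H.normalCore).subgroupMap_surjective H)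
    (q := 2) (k := 1) hy
  obtain ⟨S, hS⟩ := (IsPGroup.of_card (p := 2) (G := zpowers (x : G)) (n := j)
    (by rw [card_zpowers, orderOf_coe, h2])).exists_le_sylow
  have h3 : (x : G) ∈ H.normalCore := fun g => by
    obtain ⟨c, a1, s, a2, rfl⟩ := exists_mul_of_coprime_relIndex (H := H) (L := S) (K := ⊤) (by
      rw [relIndex_top_right, relIndex_top_right, hk]
      exact ((Nat.prime_two.coprime_iff_not_dvd).2 S.not_dvd_index).pow_left k) (mem_top g)
    rw [show c * s * x * (c * s)⁻¹ = c * (s * x * s⁻¹) * c⁻¹ by group,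
      mem_cent.1 (comm_iff.1 (h S S.2) (hS (mem_zpowers _))) s a2.1, mul_inv_cancel_right]
    exact H.mul_mem (H.mul_mem a1.1 x.2) (H.inv_mem a1.1)
  have : y = 1 := by
    rw [← h1]; exact Subtype.ext ((QuotientGroup.eq_one_iff _).2 h3)
  rw [this, orderOf_one] at hy
  omega

theorem main (hA : ∀ (p : ℕ) [Fact p.Prime] (P : Sylow p G), IsMulCommutative (P : Subgroup G))
    {a : ℕ} (hmax : ∀ y : G, ¬ 2 ^ (a + 1) ∣ C1[y].index) {x : G} (hx : C1[x].index = 2 ^ a) :
    Group.IsSolvable G := by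
  have := Fact.mk Nat.prime_two
  have hA' : ∀ p, p.Prime → ∀ P : Subgroup G, IsPGroup p P → IsMulCommutative P := fun p hp P hP => by
    have := Fact.mk hp
    obtain ⟨Q, hQ⟩ := hP.exists_le_sylow
    exact comm_iff.2 (comm_cent (hA p Q) hQ hQ)
  obtain ⟨m, hm⟩ := solv_quot (hA' 2 Nat.prime_two) hx
  obtain ⟨K, ⟨hK, n, hn⟩, hmin⟩ := exists_minimal_of_wellFoundedLT
    (fun K : Subgroup G => K.Normal ∧ ∃ n, derivedSeries G n ≤ K) ⟨⊤, inferInstance, 0, le_top⟩
  have h1 : K ≤ C1[x].normalCore := (hmin (y := K ⊓ C1[x].normalCore) ⟨inferInstance, n + m, le_inf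
    ((derivedSeries_antitone G (Nat.le_add_right n m)).trans hn)
      ((derivedSeries_antitone G (Nat.le_add_left m n)).trans (H9.Krek.ds_quot hm))⟩ inf_le_left).trans inf_le_right
  have h2 : K ≤ ⁅K, K⁆ := hmin ⟨inferInstance, n + 1, commutator_mono hn hn⟩ (commutator_le_left _ _)
  have h3 : center K = ⊥ := by
    have := Cfsg.Agent.S0089.result (G := K) fun p hp P => by
      have := hA' p hp _ (P.2.map K.subtype)
      exact H5.le_centralizer_map_iff K.subtype_injective |>.1 (comm_iff.1 this) |> comm_iff.2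
    rwa [show commutator K = ⊤ from map_injective K.subtype_injective (by
      rw [map_subtype_commutator, ← MonoidHom.range_eq_map, range_subtype]
      exact le_antisymm (commutator_le_left _ _) h2), top_inf_eq] at this
  refine isSolvable_of_normal_quotient K (H8.isSolvable_of_not_four_dvd
    (fun X _ _ => Cfsg.Agent.S0205.result) fun y hy => hmax (x * y) ?_) ⟨n, ?_⟩
  · have h5 : K ≤ C1[x] := h1.trans (normalCore_le _)
    have h4 : C1[x * y] = C1[(y : G)] ⊓ C1[x] := by
      refine le_antisymm (fun g hg => ?_) fun g hg => mem_cent1.2 (by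
        rw [← mul_assoc, mem_cent1.1 hg.2, mul_assoc, mem_cent1.1 hg.1, mul_assoc])
      have a1 : x⁻¹ * (g * x * g⁻¹) = y * (g * y * g⁻¹)⁻¹ := by
        rw [eq_mul_inv_iff_mul_eq, show x⁻¹ * (g * x * g⁻¹) * (g * y * g⁻¹) = x⁻¹ * (g * (x * y)) * g⁻¹ by group,
          mem_cent1.1 hg]; group
      have a2 : x⁻¹ * (g * x * g⁻¹) ∈ K := a1 ▸ K.mul_mem y.2 (K.inv_mem (hK.conj_mem _ y.2 g))
      have a3 : (⟨_, a2⟩ : K) ∈ center K := mem_center_iff.2 fun k => Subtype.ext (mem_cent1.1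
        (cent1_comm.1 (mul_mem (inv_mem (cent1_comm.1 (h5 k.2))) (mem_cent1.2 (by
          have := mem_cent1.1 (h1 k.2 g⁻¹)
          rw [inv_inv] at this
          rw [show g * x * g⁻¹ * k = g * (x * (g⁻¹ * k * g)) * g⁻¹ by group, ← this]; group)))))
      have a4 : x⁻¹ * (g * x * g⁻¹) = 1 := by
        rw [h3, mem_bot] at a3; exact congrArg Subtype.val a3
      refine ⟨mem_cent1.2 ?_, mem_cent1.2 ?_⟩
      · rw [a4, eq_comm, mul_inv_eq_one, eq_mul_inv_iff_mul_eq] at a1; exact a1.symm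
      · rw [inv_mul_eq_one, eq_mul_inv_iff_mul_eq] at a4; exact a4.symm
    rw [h4, ← relIndex_mul_index (inf_le_right (a := C1[(y : G)])), inf_relIndex_right, hx, pow_succ']
    refine Nat.mul_dvd_mul_right ((Dvd.dvd.trans (by norm_num) hy).trans ?_) _
    rw [H8.index_centralizer_coe, ← relIndex_subgroupOf h5]
    exact H8.relIndex_dvd_index_of_normal' _ _
  · rw [eq_bot_iff, ← map_derivedSeries_eq (QuotientGroup.mk'_surjective K), map_le_iff_le_comap,
      MonoidHom.comap_bot, QuotientGroup.ker_mk']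
    exact hn

end H17.A2
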