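import Cfsg.Agent.H17.PH2
import Cfsg.Agent.H17.T3b
import Cfsg.Agent.H17.GB4
import Cfsg.Agent.H4.Tor5
import Cfsg.Agent.H10.PU1
import Cfsg.Agent.H5.GC

/-! `π`-homogeneity in `L₂(q)`; groups all of whose `π`-subgroups are `2`-closed. -/

set_option autoImplicit false
set_option linter.unusedSectionVars false

open Subgroup Cfsg H1 H16 H5.Gd
open scoped MatrixGroups

namespace H17.Ho

universe u

section
variable {F : Type*} [Field F] [Fintype F] {π : Set ℕ}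

theorem psl_real (p : ℕ) [Fact p.Prime] [CharP F p] {x : PSL(2, F)} (h1 : x ≠ 1) (h : ¬ p ∣ orderOf x) :
    ∃ t : PSL(2, F), t * t = 1 ∧ t * x * t⁻¹ = x⁻¹ := by
  obtain ⟨u, rfl⟩ := QuotientGroup.mk_surjective x
  have hd := H4.disc_of_not_dvd p h1 h
  rw [← H4.sl_disc] at hd
  obtain ⟨s, h2, h3⟩ := SetLike.exists_of_lt (lt_of_le_of_ne (H4.sT_le_sN (H4.sgl u)) fun e => by
    have := H4.card_sN hd
    have h0 := card_pos' (H4.sT (H4.sgl u))
    rw [← e] at this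
    omega)
  refine ⟨s, ?_, ?_⟩
  · rw [← QuotientGroup.mk_mul, H4.sN_sq hd h2 h3, H4.psl_neg]; rfl
  · exact congrArg (QuotientGroup.mk' _) (H4.sN_inv hd h2 h3 (H4.mem_sT_self u))

/-- the diagonal torus -/
def dgH (F : Type*) [Field F] : Fˣ →* SL(2, F) where
  toFun a := ⟨!![(a : F), 0; 0, (a⁻¹ : Fˣ)], by simp [Matrix.det_fin_two_of]⟩
  map_one' := by ext i j; fin_cases i <;> fin_cases j <;> simp
  map_mul' a b := by
    apply Subtype.ext
    change !![_, _; _, _] = !![_, _; _, _] * !![_, _; _, _]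
    simp [mul_comm]

theorem psl_tor (p : ℕ) [hp : Fact p.Prime] [CharP F p] (h : PH π PSL(2, F)) (hπ : p ∈ π) {a : Fˣ}
    (ha : IsPiNat πᶜ (orderOf a)) : a ^ 2 = 1 := by
  let U : Subgroup PSL(2, F) := (H12.upU F).map (H10.pmk F)
  have h1 := h p hp.out hπ U (fun ⟨_, u, hu, rfl⟩ => ⟨1, by
    obtain ⟨t, rfl⟩ := H12.mem_upU.1 hu
    ext
    simp [← QuotientGroup.mk_pow, H4.upT_pow, H4.upT_zero]⟩) (H10.pmk F (dgH F a))
    (ha.of_dvd ((orderOf_map_dvd _ _).trans (orderOf_map_dvd _ _))) (le_normalizer_map _ ⟨_, mem_norm_of_cj_le (by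
      rintro _ ⟨u, hu, rfl⟩
      obtain ⟨t, rfl⟩ := H12.mem_upU.1 hu
      exact H12.mem_upU.2 ⟨_, (H10.conj_upT_borel (M := dgH F a) rfl t).symm⟩), rfl⟩) _ ⟨_, H12.upT_mem_upU 1, rfl⟩
  have h2 : H10.pmk F (H4.upT ((a : F) ^ 2 * 1 + -1)) = 1 := by
    rw [H4.upT_add, ← H4.upT_inv]
    erw [← H10.conj_upT_borel (M := dgH F a) rfl 1]
    rw [map_mul, map_mul, map_mul, map_inv, map_inv, ← h1]; group
  have := H10.pmk_upT_eq_one h2
  ext
  rw [Units.val_pow_eq_pow_val, Units.val_one]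
  linear_combination this

theorem psl_real' (p : ℕ) [hp : Fact p.Prime] [CharP F p] {r : ℕ} (hr : r.Prime) (h1 : r ≠ p)
    (h : r ∣ Nat.card PSL(2, F)) : ∃ x t : PSL(2, F), orderOf x = r ∧ t * t = 1 ∧ t * x * t⁻¹ = x⁻¹ := by
  have := Fact.mk hr
  obtain ⟨x, hx⟩ := exists_prime_orderOf_dvd_card' r h
  obtain ⟨t, ht⟩ := psl_real p (x := x) (by rintro rfl; exact hr.one_lt.ne (by simpa using hx))
    (fun e => h1 ((Nat.prime_dvd_prime_iff_eq hp.out hr).1 (hx ▸ e)).symm)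
  exact ⟨x, t, hx, ht⟩

theorem dvd_psl {r : ℕ} (hr : r.Prime) (h2 : r ≠ 2) (h : r ∣ Fintype.card F - 1) : r ∣ Nat.card PSL(2, F) := by
  have h1 : r ∣ Nat.gcd 2 (Fintype.card F - 1) * Nat.card PSL(2, F) := by
    rw [H4.card_psl, show Fintype.card F ^ 2 - 1 = _ from by simpa using Nat.sq_sub_sq (Fintype.card F) 1]
    exact (h.mul_left _).mul_left _
  exact ((Nat.Prime.dvd_mul hr).1 h1).resolve_left fun e =>
    h2 ((Nat.prime_dvd_prime_iff_eq hr Nat.prime_two).1 (e.trans (Nat.gcd_dvd_left _ _)))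

theorem ne_char (p : ℕ) [hp : Fact p.Prime] [CharP F p] {r : ℕ} (h : r ∣ Fintype.card F - 1) : r ≠ p := by
  rintro rfl
  obtain ⟨n, -, e⟩ := FiniteField.card F r
  have h1 : r ∣ Fintype.card F := e ▸ dvd_pow_self r n.ne_zero
  exact hp.out.one_lt.ne' (Nat.dvd_one.1 (by
    simpa [Nat.sub_sub_self Fintype.card_pos] using Nat.dvd_sub h1 h))

/-- if `2 ∉ π` a `π`-homogeneous `L₂(q)` is a `π'`-group -/
theorem psl_compl (h : PH π PSL(2, F)) (h2 : 2 ∉ π) (h3 : 3 < Fintype.card F) :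
    IsPiNat πᶜ (Nat.card PSL(2, F)) := by
  classical
  obtain ⟨p, hp⟩ := CharP.exists F
  have := Fact.mk (CharP.char_is_prime F p)
  have key : ∀ r, r.Prime → r ≠ p → r ∣ Nat.card PSL(2, F) → r ∉ π := fun r hr a b c => by
    obtain ⟨x, t, d, e, f⟩ := psl_real' p hr a b
    exact h.not_inv h2 hr c d e f
  intro r hr hd hπ
  obtain rfl : r = p := by_contra fun e => key r hr e hd hπ
  obtain ⟨a, ha⟩ := IsCyclic.exists_ofOrder_eq_natCard (α := Fˣ)
  rw [Nat.card_eq_fintype_card, Fintype.card_units] at ha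
  have h4 := orderOf_dvd_of_pow_eq_one (psl_tor r h hπ (a := a) fun s hs e => by
    rw [ha] at e
    by_cases e2 : s = 2
    · exact e2 ▸ h2
    · exact key s hs (ne_char r e) (dvd_psl hs e2 e))
  have := Nat.le_of_dvd two_pos h4
  omega

end

variable {G : Type u} [Group G] [Finite G] {π : Set ℕ}

theorem three_mem (h : PH π G) (h2 : 2 ∈ π) (hG : TD G) : 3 ∈ π := by
  have := Fact.mk Nat.prime_two
  obtain ⟨S⟩ : Nonempty (Sylow 2 G) := inferInstance
  have hS := H10.isSylowIn_top S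
  obtain ⟨h3, h4⟩ := hG.elab hG.simple hS
  have h5 : C[(S : Subgroup G)].relIndex N[(S : Subgroup G)] ∣ 24 := by
    rw [relIndex, ← normalizerMonoidHom_ker, index_ker]
    refine (card_subgroup_dvd_card _).trans ((card_dvd_of_injective (MulAut.toPerm _)
      fun a b e => MulEquiv.toEquiv_injective e).trans ?_)
    rw [Nat.card_perm, h4]; rfl
  have h6 : ¬ 2 ∣ C[(S : Subgroup G)].relIndex N[(S : Subgroup G)] := fun e =>
    sy_not_dvd (hl_of_le (sy_top_of_sylow S) (le_norm _) le_top) Nat.prime_two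
      (e.trans (relIndex_dvd_of_le_left _ (H10.elab_le_CC h3)))
  have h7 : C[(S : Subgroup G)].relIndex N[(S : Subgroup G)] ≠ 1 := fun e => by
    have := H10.solv_of_burnside hS (inf_le_right.trans (relIndex_eq_one.1 e))
    have : Group.IsSolvable G := Group.isSolvable_of_surjective (f := (⊤ : Subgroup G).subtype)
      fun x => ⟨⟨x, trivial⟩, rfl⟩
    have := hG.simple
    exact hG.nab ⟨⟨IsSimpleGroup.comm_iff_isSolvable.2 inferInstance⟩⟩
  refine h.hom S (IsPiNat.mono (hl_pi (sy_top_of_sylow S)) (Set.singleton_subset_iff.2 h2)) 3 Nat.prime_three ?_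
  have := Nat.le_of_dvd (by norm_num) h5
  generalize C[(S : Subgroup G)].relIndex N[(S : Subgroup G)] = n at *
  interval_cases n <;> omega

/-- an odd prime of `π` with an element inverted by an involution -/
def Inv (π : Set ℕ) (G : Type*) [Group G] : Prop :=
  ∃ r ∈ π, r.Prime ∧ r ≠ 2 ∧ ∃ x t : G, orderOf x = r ∧ t * t = 1 ∧ t * x * t⁻¹ = x⁻¹

theorem Inv.inj {X : Type*} [Group X] (h : Inv π X) (f : X →* G) (hf : Function.Injective f) : Inv π G := by
  obtain ⟨r, a, b, c, x, t, d, e, g⟩ := h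
  exact ⟨r, a, b, c, f x, f t, by rwa [orderOf_injective f hf], by rw [← map_mul, e, map_one],
    by rw [← map_inv, ← map_mul, ← map_mul, g, map_inv]⟩

theorem inv_td (h : PH π G) (h2 : 2 ∈ π) (hG : TD G) : Inv π G := by
  classical
  have h3 := three_mem h h2 hG
  obtain ⟨h8, F, _, _, ho, h4, ⟨e⟩⟩ := hG
  refine Inv.inj ?_ e.symm.toMonoidHom e.symm.injective
  have h := h.inj e.symm.toMonoidHom e.symm.injective
  rw [Nat.card_congr e.toEquiv] at h8
  obtain ⟨p, hp⟩ := CharP.exists F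
  have := Fact.mk (CharP.char_is_prime F p)
  by_cases e3 : 3 = p
  swap
  · exact ⟨3, h3, Nat.prime_three, by norm_num, psl_real' p Nat.prime_three e3 (T3.three_dvd_psl2 F)⟩
  subst e3
  obtain ⟨r, hr, r2, hd⟩ := H4.exists_odd_prime_dvd (n := Fintype.card F - 1) (by omega) (by
    rintro ⟨k, hk⟩
    have h5 := H4.card_psl (F := F)
    obtain ⟨n, -, e⟩ := FiniteField.card F 3
    have h6 : 3 ∣ Fintype.card F := e ▸ dvd_pow_self 3 n.ne_zero
    have h7 : 8 ∣ Fintype.card F - 1 := by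
      rw [hk]
      refine (pow_dvd_pow 2 (?_ : 3 ≤ k))
      by_contra! c
      interval_cases k <;> omega
    rw [Nat.gcd_eq_left (Dvd.dvd.trans (by norm_num) h7),
      show Fintype.card F ^ 2 - 1 = _ from by simpa using Nat.sq_sub_sq (Fintype.card F) 1] at h5
    have h9 : 2 * 8 ∣ 2 * Nat.card PSL(2, F) := h5 ▸ (mul_dvd_mul ho.add_one.two_dvd h7).mul_left _
    exact h8 (Nat.dvd_of_mul_dvd_mul_left two_pos h9))
  refine ⟨r, by_contra fun c => ?_, hr, r2, psl_real' 3 hr (ne_char 3 hd) (dvd_psl hr r2 hd)⟩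
  have := Fact.mk hr
  obtain ⟨a, ha⟩ := exists_prime_orderOf_dvd_card' (G := Fˣ) r
    (by rwa [Nat.card_eq_fintype_card, Fintype.card_units])
  have h5 := orderOf_dvd_of_pow_eq_one (psl_tor 3 h h3 (a := a) fun s hs e => by
    rwa [(Nat.prime_dvd_prime_iff_eq hs hr).1 (ha ▸ e)])
  exact r2 ((Nat.prime_dvd_prime_iff_eq hr Nat.prime_two).1 (ha ▸ h5))

theorem inv_se (h : PH π G) (h2 : 2 ∈ π) (hs : IsSimpleGroup G) (hn : ¬ IsMulCommutative G) (hG : SE G) :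
    Inv π G := by
  have := Fact.mk Nat.prime_two
  obtain ⟨M, hM⟩ := hG
  obtain ⟨Q, hQ⟩ := sy_exists 2 (⊤ : Subgroup G)
  obtain ⟨V, K, W, t, b⟩ := exists_bf_top hM hn hQ
  obtain ⟨r, hr, hd⟩ := exists_prime_dvd b.K_ne
  obtain ⟨k, hk, e⟩ := exists_orderOf hr hd
  refine ⟨r, by_contra fun c => ?_, hr, fun c => ?_, k, t, e, b.tt, by rw [b.t_inv]; exact b.tK k hk⟩
  · obtain ⟨x, hx, x1⟩ := H16.exists_ne_one b.Q_ne
    rw [b.K_eq_one hk hx x1 (h 2 Nat.prime_two h2 Q b.pg k (fun s hs d => by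
      rwa [(Nat.prime_dvd_prime_iff_eq hs hr).1 (e ▸ d)]) (b.DN (mem_sup_left hk)) x hx), orderOf_one] at e
    exact hr.one_lt.ne e
  · have := b.odd_ord (mem_sup_left hk)
    rw [e, c] at this
    exact absurd this (by decide)

/-- all `π`-subgroups are `2`-closed -/
def C2 (π : Set ℕ) (X : Type*) [Group X] : Prop :=
  ∀ H : Subgroup X, Pi[π] H → ∀ P, Sy[2] P H → H ≤ N[P]

theorem C2.inj (h : C2 π G) {X : Type*} [Group X] (f : X →* G) (hf : Function.Injective f) : C2 π X :=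
  fun H hH P hP x hx => by
    have : Finite X := Finite.of_injective f hf
    refine mem_norm_of_cj_le ?_
    rintro _ ⟨y, hy, rfl⟩
    obtain ⟨z, hz, e⟩ := conj_mem (h (H.map f) (IsPiNat.of_dvd hH (card_map_dvd _ _)) _
      (H1.IsPiHallOf.map hP f) ⟨x, hx, rfl⟩) ⟨y, hy, rfl⟩
    rw [← map_inv, ← map_mul, ← map_mul] at e
    exact (hf e ▸ hz : x * y * x⁻¹ ∈ P)

theorem C2.surj (h : C2 π G) {X : Type*} [Group X] (f : G →* X) (hf : Function.Surjective f) : C2 π X :=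
  fun H hH P hP => by
    have : Finite X := Finite.of_surjective f hf
    have := Fact.mk Nat.prime_two
    obtain ⟨V, hV, rfl⟩ := exists_lift_pi f hf hH
    obtain ⟨Q, hQ⟩ := sy_exists 2 V
    have h1 : V.map f ≤ N[Q.map f] := (map_mono (h V hV Q hQ)).trans (le_normalizer_map f)
    rwa [hl_eq_of_normal (H1.IsPiHallOf.map hQ f) h1 hP]

theorem C2.not_inv (h : C2 π G) (h2 : 2 ∈ π) : ¬ Inv π G := by
  rintro ⟨r, a, b, c, x, t, d, e, f⟩
  have := Fact.mk Nat.prime_two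
  obtain ⟨P, hP⟩ := sy_exists 2 (zpowers x ⊔ zpowers t)
  have h1 : zpowers t ≤ N[zpowers x] := zpowers_le.2 (cj_eq_self_iff.1 (by rw [← zpowers_cj, f, zpowers_inv]))
  rw [T3.eq_one_of_closed hP (h _ (IsPiNat.of_dvd (IsPiNat.mul (m := Nat.card (zpowers x)) (fun s hs g => by
      rw [card_zpowers, d] at g
      rwa [(Nat.prime_dvd_prime_iff_eq hs b).1 g]) (IsPiNat.mono (T3.pg_invol e) (Set.singleton_subset_iff.2 h2)))
    (card_sup_dvd (Or.inr h1))) P hP) (mem_sup_left (mem_zpowers x)) (mem_sup_right (mem_zpowers t)) e f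
    (d ▸ b.odd_of_ne_two c), orderOf_one] at d
  exact b.one_lt.ne d

theorem C2.trans (hc : C2 π G) (h : PH π G) (h2 : 2 ∈ π) (hN : ∀ D : Subgroup G, D ≠ ⊥ → Pg[2] D → PiSep π N[D])
    (D : Subgroup G) : D ≠ ⊥ → ∀ H K, Sy[2] H ⊤ → Sy[2] K ⊤ → D ≤ H → D ≤ K → ∃ c ∈ C[D], H :^ c = K := by
  have := Fact.mk Nat.prime_two
  have hs : ({2} : Set ℕ) ⊆ π := Set.singleton_subset_iff.2 h2
  induction D using ind_up with
  | h D ih =>
  intro h0 H K hH hK h1 h3
  by_cases e : D = H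
  · exact ⟨1, one_mem _, by rw [cj_one, hl_eq_of_le hH hK (e ▸ h3)]⟩
  have e' : D ≠ K := fun c => e (by rw [c, hl_eq_of_le hK hH (c ▸ h1)])
  have hD : Pg[2] D := IsPiNat.of_dvd (hl_pi hH) (card_dvd h1)
  have hM := hN D h0 hD
  obtain ⟨O, hO, hn⟩ := h.compl hM
  have hC : O ≤ C[D] := fun x hx => h.cent (IsPiNat.mono hD hs) (pi_elt (hl_pi hO) hx) (hO.1 hx)
  have a1 := lt_sy_norm hH (lt_of_le_of_ne h1 e)
  have b1 := lt_sy_norm hK (lt_of_le_of_ne h3 e')
  have a4 : Pg[2] (H ⊓ N[D]) := IsPiNat.of_dvd (hl_pi hH) (card_dvd inf_le_left)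
  have b4 : Pg[2] (K ⊓ N[D]) := IsPiNat.of_dvd (hl_pi hK) (card_dvd inf_le_left)
  obtain ⟨L, hL, h4⟩ := hM.hallOK'.exists_ge inf_le_right (IsPiNat.mono a4 hs)
  obtain ⟨k, hk, h5⟩ : ∃ k ∈ N[D], (K ⊓ N[D]) :^ k ≤ L :=
    hM.hallOK'.exists_conj_le inf_le_right (IsPiNat.mono b4 hs) hL
  rw [← hl_sup_compl hL hO, mem_sup_r (hL.1.trans hn)] at hk
  obtain ⟨l, c, o, d, rfl⟩ := hk
  rw [← cj_cj, cj_le_iff, cj_self (inv_mem c)] at h5
  obtain ⟨T, hT⟩ := sy_exists 2 L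
  obtain ⟨H₃, h6, h7⟩ := sy_exists_ge (M := ⊤) le_top (hl_pi hT)
  have hn' := hc L (hl_pi hL) T hT
  obtain ⟨c₁, e1, e2⟩ := ih _ a1 (ne_bot_of_le h0 a1.le) H H₃ hH h6 inf_le_left
    ((le_hl_normal hT hn' h4 a4).trans h7)
  have b5 : D < (K ⊓ N[D]) :^ o := by
    conv_lhs => rw [← cj_cent (hC d)]
    exact cj_lt_cj.2 b1
  obtain ⟨c₂, e3, e4⟩ := ih _ b5 (ne_bot_of_le h0 b5.le) H₃ (K :^ o) h6 (hl_cj_top hK o)
    ((le_hl_normal hT hn' h5 (by unfold IsPiSubgroup; rwa [card_cj])).trans h7) (cj_mono o inf_le_left)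
  exact ⟨o⁻¹ * (c₂ * c₁), mul_mem (inv_mem (hC d)) (mul_mem (cent_anti b5.le e3) (cent_anti a1.le e1)),
    by rw [← cj_cj, ← cj_cj, e2, e4, cj_cj_inv]⟩

theorem sylow_ne_bot (hs : IsSimpleGroup G) (hn : ¬ IsMulCommutative G) (S : Sylow 2 G) : (S : Subgroup G) ≠ ⊥ :=
  fun e => by
    have := Fact.mk Nat.prime_two
    have h5 := S.not_dvd_index
    rw [e, index_bot] at h5
    have := H6.isSolvable_of_odd_card (H := (⊤ : Subgroup G)) (by rw [card_top]; exact Nat.odd_iff.2 (by omega))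
    have : Group.IsSolvable G := Group.isSolvable_of_surjective (f := (⊤ : Subgroup G).subtype)
      fun x => ⟨⟨x, trivial⟩, rfl⟩
    exact hn ⟨⟨IsSimpleGroup.comm_iff_isSolvable.2 this⟩⟩

theorem norm_ne_top (hs : IsSimpleGroup G) (hc : ¬ IsMulCommutative G) {p : ℕ} (hp : p.Prime) {D : Subgroup G}
    (h0 : D ≠ ⊥) (hD : Pg[p] D) : N[D] ≠ ⊤ := fun e => by
  have := Fact.mk hp
  obtain rfl := (hs.eq_bot_or_eq_top_of_normal D (normalizer_eq_top_iff.1 e)).resolve_left h0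
  have := ((pg_iff.1 hD).of_equiv topEquiv).isNilpotent
  exact hc ⟨⟨IsSimpleGroup.comm_iff_isSolvable.2 inferInstance⟩⟩

theorem C2.simple (hc : C2 π G) (h : PH π G) (h2 : 2 ∈ π) (hs : IsSimpleGroup G) (hn : ¬ IsMulCommutative G)
    (hM : ∀ M : Subgroup G, M ≠ ⊤ → PiSep π M) : False := by
  have := Fact.mk Nat.prime_two
  obtain ⟨S⟩ : Nonempty (Sylow 2 G) := inferInstance
  have hS := sy_top_of_sylow S
  have hA := sc_of_sylow (H10.isSylowIn_top S) (H10.ZO_le (p := 2) _) (H10.elab_ZO _) fun a ha g _ hg => by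
    by_cases h0 : g * a * g⁻¹ = 1
    · exact h0 ▸ one_mem _
    obtain ⟨c, h3, h4⟩ := hc.trans h h2 (fun D a b => hM _ (norm_ne_top hs hn Nat.prime_two a b)) _
      (zpowers_ne_bot' h0) _ _ (hl_cj_top hS g) hS (zpowers_le.2 (cj_mem (H10.mem_ZO.1 ha).1)) (zpowers_le.2 hg)
    rw [cj_cj, cj_eq_self_iff] at h4
    have e : g * a * g⁻¹ = c * g * a * (c * g)⁻¹ := by
      rw [cent_zpowers, mem_cent1] at h3
      calc _ = c * (g * a * g⁻¹) * c⁻¹ := by rw [h3]; group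
        _ = _ := by group
    rw [e]
    obtain ⟨a1, a2, a3⟩ := H10.mem_ZO.1 ha
    exact H10.mem_ZO.2 ⟨conj_mem h4 a1, conj_mem (norm_cent le_rfl h4) a2, by rw [conj_pow, a3]; simp⟩
  refine hc.not_inv h2 ?_
  obtain ⟨-, e | e | ⟨V, -, -, h8, -, e⟩⟩ := thmS G hs hn _ (H10.ZO_ne_bot S.isPGroup' (sylow_ne_bot hs hn S)) hA
  · exact inv_se h h2 hs hn e.1
  · exact inv_td h h2 e
  · obtain ⟨t, ht⟩ := exists_prime_orderOf_dvd_card' (G := G) 2
      (Dvd.dvd.trans (by rw [h8]; norm_num) (card_subgroup_dvd_card V))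
    obtain ⟨E, L, -, -, -, -, -, e⟩ := e t ht
    exact (inv_td (h.sub L) h2 e).inj L.subtype L.subtype_injective

theorem C2.piSep (h2 : 2 ∈ π) (X : Type u) [Group X] [Finite X] (hc : C2 π X) (h : PH π X) : PiSep π X := by
  induction hn : Nat.card X using Nat.strong_induction_on generalizing X with
  | _ n ih =>
  subst hn
  have hM : ∀ M : Subgroup X, M ≠ ⊤ → PiSep π M := fun M b => ih _ (by simpa using card_lt (lt_top_iff_ne_top.2 b))
    M (hc.inj _ M.subtype_injective) (h.sub M) rfl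
  by_cases hm : IsMulCommutative X
  · exact piSep_of_isSolvable π (Group.isSolvable_of_comm hm.1.1)
  by_cases hs : IsSimpleGroup X
  · exact (hc.simple h h2 hs hm hM).elim
  have : Nontrivial X := by
    by_contra e
    rw [not_nontrivial_iff_subsingleton] at e
    exact hm ⟨⟨fun a b => Subsingleton.elim _ _⟩⟩
  obtain ⟨N, hN, a, b⟩ : ∃ N : Subgroup X, N.Normal ∧ N ≠ ⊥ ∧ N ≠ ⊤ := by
    by_contra! e
    exact hs ⟨fun N hN => or_iff_not_imp_left.2 (e N hN)⟩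
  have hf := QuotientGroup.mk'_surjective N
  refine PiSep.of_normal_quotient N (hM N b) (ih _ ?_ _ (hc.surj _ hf) (h.surj _ hf) rfl)
  rw [card_eq_card_quotient_mul_card_subgroup N]
  exact lt_mul_of_one_lt_right Nat.card_pos ((one_lt_card_iff_ne_bot N).2 a)

end H17.Ho
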