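import Cfsg.Agent.H17.PH3
import Cfsg.Agent.H6.JR
import Cfsg.Agent.H5.GF
import Cfsg.Agent.H8.FTc
import Cfsg.Agent.H10.KSG
import Cfsg.Agent.S0144

/-! Groups all of whose `p'`-subgroups are abelian. -/

set_option autoImplicit false
set_option linter.unusedSectionVars false

open Subgroup Cfsg H1 H16 H5.Gd

namespace H17.Ab

universe u

variable {G : Type u} [Group G] [Finite G] {p : ℕ}

theorem td_three (hG : TD G) (S : Sylow 2 G) : 3 ∣ C[(S : Subgroup G)].relIndex N[(S : Subgroup G)] := by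
  have := Fact.mk Nat.prime_two
  have hS := H10.isSylowIn_top S
  obtain ⟨h3, h4⟩ := hG.elab hG.simple hS
  have h5 : C[(S : Subgroup G)].relIndex N[(S : Subgroup G)] ∣ 24 := by
    rw [relIndex, ← normalizerMonoidHom_ker, index_ker]
    refine (card_subgroup_dvd_card _).trans ((card_dvd_of_injective (MulAut.toPerm _)
      fun a b e => MulEquiv.toEquiv_injective e).trans ?_)
    rw [Nat.card_perm, h4]; rfl
  have h6 : ¬ 2 ∣ C[(S : Subgroup G)].relIndex N[(S : Subgroup G)] := fun e =>
    sy_not_dvd (hl_of_le (sy_top_of_sylow S) (le_norm _) le_top) Nat.prime_two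
      (e.trans (relIndex_dvd_of_le_left _ (H10.elab_le_CC h3)))
  have h7 : C[(S : Subgroup G)].relIndex N[(S : Subgroup G)] ≠ 1 := fun e => by
    have := H10.solv_of_burnside hS (inf_le_right.trans (relIndex_eq_one.1 e))
    have : Group.IsSolvable G := Group.isSolvable_of_surjective (f := (⊤ : Subgroup G).subtype)
      fun x => ⟨⟨x, trivial⟩, rfl⟩
    have := hG.simple
    exact hG.nab ⟨⟨IsSimpleGroup.comm_iff_isSolvable.2 inferInstance⟩⟩
  have := Nat.le_of_dvd (by norm_num) h5
  generalize C[(S : Subgroup G)].relIndex N[(S : Subgroup G)] = n at *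
  interval_cases n <;> omega

/-- all `p'`-subgroups are abelian -/
def AB (p : ℕ) (X : Type*) [Group X] : Prop := ∀ H : Subgroup X, Pg'[p] H → IsMulCommutative H

theorem AB.inj (h : AB p G) {X : Type*} [Group X] (f : X →* G) (hf : Function.Injective f) : AB p X := fun _ hH =>
  H5.le_centralizer_map_iff hf |>.1 (comm_iff.1 (h _ (H15.Cfsg.IsPiSubgroup.map hH f))) |> comm_iff.2

theorem AB.surj (h : AB p G) {X : Type*} [Group X] (f : G →* X) (hf : Function.Surjective f) : AB p X := fun H hH => by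
  obtain ⟨V, h1, rfl⟩ := Ho.exists_lift_pi f hf hH
  have := h V h1
  infer_instance

theorem AB.not_td (h : AB p G) (h2 : p ≠ 2) (h3 : p ≠ 3) : ¬ TD G := fun hG => by
  have := Fact.mk Nat.prime_two
  have := Fact.mk Nat.prime_three
  obtain ⟨S⟩ : Nonempty (Sylow 2 G) := inferInstance
  obtain ⟨R, hR⟩ := sy_exists 3 N[(S : Subgroup G)]
  exact sy_not_dvd hR Nat.prime_three ((td_three hG S).trans (relIndex_dvd_of_le_left _
    (comm_cent (h (R ⊔ S) (H15.Cfsg.IsPiSubgroup.sup_of_le_norm
      (IsPiNat.mono (hl_pi hR) (by simpa using h3))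
      (IsPiNat.mono (hl_pi (sy_top_of_sylow S)) (by simpa using h2)) hR.1)) le_sup_left le_sup_right)))

theorem AB.solv (h : AB p G) (h2 : p ≠ 2) (h3 : p ≠ 3) : Group.IsSolvable G := by
  refine H8.isSolvable_of_simple_cases (fun X _ _ => AB p X) (fun X _ _ N _ h => h.inj _ N.subtype_injective)
    (fun X _ _ N _ h => h.surj _ (QuotientGroup.mk'_surjective N)) (fun X _ _ hs h => ?_) _ G rfl h
  by_contra h0
  have hn : ¬ IsMulCommutative X := fun e => h0 (Group.isSolvable_of_comm e.1.1)
  have := Fact.mk Nat.prime_two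
  have k : ∀ H : Subgroup X, IsPGroup 2 H → IsMulCommutative H := fun H hH =>
    h H (IsPiNat.mono (pg_iff.2 hH) (by simpa using h2))
  obtain ⟨S⟩ : Nonempty (Sylow 2 X) := inferInstance
  rcases H6.JR.types hs hn (thmS X hs hn) S (k S S.2) with ⟨⟨M, hM⟩, -⟩ | h4 | ⟨V, -, h4, h5, -, h6⟩
  · obtain ⟨F, _, _, m, ⟨M⟩⟩ := T3.exists_model (H10.tri_sz (Be.bender_simple hM hn).1 fun ⟨K, φ, _, hφ⟩ => by
      have := ((h.inj _ K.subtype_injective).surj φ hφ ⊤ fun q hq hd e => by
        rw [card_top, Nat.card_perm, Nat.card_fin] at hd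
        rcases (hq.dvd_mul (m := 3) (n := 2)).1 hd with d | d
        · exact h3 (e.symm.trans ((Nat.prime_dvd_prime_iff_eq hq Nat.prime_three).1 d))
        · exact h2 (e.symm.trans ((Nat.prime_dvd_prime_iff_eq hq Nat.prime_two).1 d)))
      exact absurd (comm_iff.1 this (mem_top (Equiv.swap 0 1)) (Equiv.swap 1 2) trivial) (by decide))
    obtain ⟨c, hc⟩ := M.exists_σ_ne
    exact hc (by simpa using (M.u_comm_iff.1 (comm_iff.1 (k _ M.isPGroup_Q) (M.u_mem_Q 1 0) _ (M.u_mem_Q c 0))))
  · exact h.not_td h2 h3 h4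
  · obtain ⟨t, h7, h8⟩ := exists_orderOf (H := V) Nat.prime_two (by rw [h5]; norm_num)
    obtain ⟨E, L, -, -, -, -, -, h9⟩ := h6 t h8
    exact (h.inj _ L.subtype_injective).not_td h2 h3 h9

theorem main (hp : p.Prime) (h : ∀ H : Subgroup G, (Nat.card H).Coprime p →
    IsMulCommutative H ∧ ∀ x ∈ H, x ^ (p - 1) = 1) : Group.IsSolvable G := by
  by_cases h3 : p ≤ 3
  · refine Cfsg.Agent.S0144.result p 2 ((Nat.card G).factorization p) (if p = 2 then 0 else (Nat.card G).factorization 2)
      hp Nat.prime_two ?_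
    have k : ∀ q, q.Prime → q ∣ Nat.card G → q = p ∨ q = 2 := fun q hq hd => or_iff_not_imp_left.2 fun e => by
      have := Fact.mk hq
      obtain ⟨x, hx⟩ := exists_prime_orderOf_dvd_card' q hd
      have := Nat.le_of_dvd (by have := hp.two_le; omega) (hx ▸ orderOf_dvd_of_pow_eq_one ((h (zpowers x) (by
        rw [card_zpowers, hx]; exact (Nat.coprime_primes hq hp).2 e)).2 x (mem_zpowers x)))
      have := hq.two_le
      omega
    refine Nat.eq_of_factorization_eq Nat.card_pos.ne' (by have := hp.pos; positivity) fun q => ?_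
    rw [Nat.factorization_mul (pow_ne_zero _ hp.ne_zero) (by positivity), hp.factorization_pow,
      Nat.prime_two.factorization_pow, Finsupp.add_apply, Finsupp.single_apply, Finsupp.single_apply]
    by_cases h0 : q.Prime ∧ q ∣ Nat.card G
    · by_cases e : p = 2
      · subst e; obtain rfl : q = 2 := by simpa using k q h0.1 h0.2
        simp
      · rcases k q h0.1 h0.2 with rfl | rfl <;> simp [e, Ne.symm e]
    · have : (Nat.card G).factorization q = 0 := by
        rw [Nat.factorization_eq_zero_iff]; tauto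
      split_ifs <;> simp_all
  exact AB.solv (fun H hH => (h H ((isPiNat_compl_singleton_iff hp).1 hH)).1) (by omega) (by omega)

end H17.Ab
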