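import Cfsg.Agent.H6.Act
import Cfsg.Agent.S0496
import Cfsg.Agent.S0497

set_option autoImplicit false
set_option linter.style.haveILetI false

open Subgroup MulAction

namespace H17.Cf

section
variable {G : Type*} [Group G] [Finite G]

theorem conj_dvd (U : Subgroup G) (d : ℕ) (S : Set G) (hS : ∀ u ∈ U, ∀ y ∈ S, u * y * u⁻¹ ∈ S)
    (hd : ∀ y ∈ S, d ∣ (centralizer ({y} : Set G)).relIndex U) : d ∣ S.ncard := by
  refine @H6.dvd_ncard_of_relIndex G G _ (MulAction.compHom G (MulAut.conj (G := G))) U d S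
    (Set.toFinite _) hS (fun b hb => ?_)
  have : @stabilizer G G _ (MulAction.compHom G (MulAut.conj (G := G))) b =
      centralizer ({b} : Set G) := by
    ext g
    rw [@mem_stabilizer_iff, mem_centralizer_singleton_iff]
    change g * b * g⁻¹ = b ↔ _
    rw [mul_inv_eq_iff_eq_mul]
  rw [this]; exact hd b hb

/-- an element of prime order normalising `K` without fixed points -/
theorem fpf_dvd {p : ℕ} (hp : p.Prime) {x : G} (hx : orderOf x = p) {K : Subgroup G}
    (hn : x ∈ normalizer (K : Set G)) (hf : ∀ y ∈ K, Commute y x → y = 1) :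
    p ∣ Nat.card K - 1 := by
  have h := conj_dvd (zpowers x) p ((K : Set G) \ {1}) ?_ ?_
  · rwa [Set.ncard_sdiff_singleton_of_mem (K.one_mem : (1 : G) ∈ (K : Set G)),
      ← Nat.card_coe_set_eq] at h
  · intro u hu y hy
    have hu' : u ∈ normalizer (K : Set G) := (zpowers_le.2 hn) hu
    refine ⟨(mem_normalizer_iff.1 hu' y).1 hy.1, fun e => hy.2 ?_⟩
    simpa using e
  · intro y hy
    have h1 : (centralizer ({y} : Set G)).relIndex (zpowers x) ∣ p := by
      have := relIndex_dvd_card (centralizer ({y} : Set G)) (zpowers x)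
      rwa [Nat.card_zpowers, hx] at this
    rcases (Nat.dvd_prime hp).1 h1 with h | h
    · exfalso
      rw [relIndex_eq_one] at h
      have := mem_centralizer_singleton_iff.1 (h (mem_zpowers x))
      exact hy.2 (hf y hy.1 this.symm)
    · rw [h]

omit [Finite G] in
theorem mem_of_cop (K : Subgroup G) [K.Normal] {g : G} (h : (orderOf g).Coprime K.index) :
    g ∈ K := by
  rw [← QuotientGroup.eq_one_iff, ← orderOf_eq_one_iff]
  have h1 : orderOf (g : G ⧸ K) ∣ orderOf g := orderOf_map_dvd (QuotientGroup.mk' K) g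
  have h2 : orderOf (g : G ⧸ K) ∣ K.index := orderOf_dvd_natCard _
  exact Nat.eq_one_of_dvd_coprimes h h1 h2

theorem ex_ord {p : ℕ} (hp : p.Prime) {K : Subgroup G} (h : p ∣ Nat.card K) :
    ∃ x ∈ K, orderOf x = p := by
  haveI := Fact.mk hp
  obtain ⟨x, hx⟩ := exists_prime_orderOf_dvd_card' p h
  exact ⟨x, x.2, by rw [← hx, orderOf_coe]⟩

/-- Frattini, numerically -/
theorem frat (K : Subgroup G) [K.Normal] {p : ℕ} [Fact p.Prime] (Q : Sylow p K) :
    K.index ∣ Nat.card (normalizer (((Q : Subgroup K).map K.subtype : Subgroup G) : Set G)) := by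
  have h := Q.normalizer_sup_eq_top
  rw [← relIndex_top_right, ← h, relIndex_sup_right]
  exact relIndex_dvd_card _ _

/-- the hypothesis: elements of order five are self-centralising -/
def SC (G : Type*) [Group G] : Prop := ∀ x g : G, orderOf x = 5 → Commute g x → g ^ 5 = 1

omit [Finite G] in
theorem SC.sub (h : SC G) (K : Subgroup G) : SC K := fun x g hx hc =>
  Subtype.ext (h x g (by rw [orderOf_coe, hx]) (congrArg Subtype.val hc))

theorem SC.a1 (h : SC G) {x : G} (hx : orderOf x = 5) {K : Subgroup G}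
    (hn : x ∈ normalizer (K : Set G)) (h5 : ¬ 5 ∣ Nat.card K) : 5 ∣ Nat.card K - 1 := by
  refine fpf_dvd Nat.prime_five hx hn fun y hy hc => ?_
  have h1 := orderOf_dvd_of_pow_eq_one (h x y hx hc)
  rcases (Nat.dvd_prime Nat.prime_five).1 h1 with e | e
  · exact orderOf_eq_one_iff.1 e
  · exact absurd (e ▸ K.orderOf_dvd_natCard hy) h5

theorem SC.a0 (h : SC G) {Q : Subgroup G} (hQ : Nat.card Q = 5) :
    ¬ 3 ∣ Nat.card (normalizer (Q : Set G)) := by
  intro h3
  obtain ⟨y, hy, oy⟩ := ex_ord Nat.prime_three h3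
  have := fpf_dvd Nat.prime_three oy hy fun z hz hc => by
    have h1 : orderOf z ∣ 5 := hQ ▸ Q.orderOf_dvd_natCard hz
    rcases (Nat.dvd_prime Nat.prime_five).1 h1 with e | e
    · exact orderOf_eq_one_iff.1 e
    · have := orderOf_dvd_of_pow_eq_one (h z y e hc.symm)
      rw [oy] at this; norm_num at this
  rw [hQ] at this; norm_num at this

theorem SC.a0' (h : SC G) (hG : ¬ 25 ∣ Nat.card G) (K : Subgroup G) [K.Normal]
    (h5 : 5 ∣ Nat.card K) : ¬ 3 ∣ K.index := by
  haveI := Fact.mk Nat.prime_five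
  obtain ⟨Q⟩ : Nonempty (Sylow 5 K) := inferInstance
  intro h3
  refine h.a0 (Q := (Q : Subgroup K).map K.subtype) ?_ (h3.trans (frat K Q))
  rw [card_map_of_injective K.subtype_injective]
  obtain ⟨k, hk⟩ := Q.isPGroup'.exists_card_eq
  have h1 : 5 ∣ Nat.card Q := by
    have := (Q : Subgroup K).card_mul_index
    exact ((Nat.Prime.dvd_mul Nat.prime_five).1 (this ▸ h5)).resolve_right Q.not_dvd_index
  have h2 : ¬ 25 ∣ Nat.card Q := fun e =>
    hG (e.trans ((card_subgroup_dvd_card _).trans (card_subgroup_dvd_card K)))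
  rw [hk] at h1 h2 ⊢
  rcases k with _ | _ | k
  · norm_num at h1
  · rfl
  · exact absurd ⟨5 ^ k, by ring⟩ h2

theorem SC.a2 (h : SC G) (hG : Nat.card G ∣ 720) (h5 : 5 ∣ Nat.card G) (K : Subgroup G)
    [K.Normal] (hK : ¬ 5 ∣ Nat.card K) : Nat.card K = 1 ∨ Nat.card K = 16 := by
  haveI := Fact.mk Nat.prime_three
  have hi : 5 ∣ K.index :=
    ((Nat.Prime.dvd_mul Nat.prime_five).1 (K.card_mul_index ▸ h5)).resolve_left hK
  have hd : Nat.card K ∣ 720 := (card_subgroup_dvd_card K).trans hG
  have h3 : ¬ 3 ∣ Nat.card K := by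
    intro h3
    obtain ⟨Q⟩ : Nonempty (Sylow 3 K) := inferInstance
    obtain ⟨x, hx, ox⟩ := ex_ord Nat.prime_five (hi.trans (frat K Q))
    obtain ⟨k, hk⟩ := Q.isPGroup'.exists_card_eq
    have h1 : 3 ∣ Nat.card Q := by
      have := (Q : Subgroup K).card_mul_index
      exact ((Nat.Prime.dvd_mul Nat.prime_three).1 (this ▸ h3)).resolve_right Q.not_dvd_index
    have h2 : Nat.card Q ∣ 720 := (card_subgroup_dvd_card _).trans hd
    have h4 := h.a1 ox hx
    rw [card_map_of_injective K.subtype_injective] at h4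
    rw [hk] at h1 h2 h4
    rcases k with _ | _ | _ | k
    · norm_num at h1
    · norm_num at h4
    · norm_num at h4
    · have : 27 ∣ 720 := Dvd.dvd.trans ⟨3 ^ k, by ring⟩ h2
      norm_num at this
  obtain ⟨x, -, ox⟩ := ex_ord (K := (⊤ : Subgroup G)) Nat.prime_five (by rwa [card_top])
  have h4 := h.a1 ox (K := K) (by rw [normalizer_eq_top]; trivial) hK
  have h6 := Nat.le_of_dvd (by norm_num) hd
  have h16 : Nat.card K ∣ 16 := by
    have c3 : (Nat.card K).Coprime 45 :=
      Nat.Coprime.mul_right (m := 3 ^ 2) (n := 5)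
        (((Nat.Prime.coprime_iff_not_dvd Nat.prime_three).2 h3).symm.pow_right 2)
        ((Nat.Prime.coprime_iff_not_dvd Nat.prime_five).2 hK).symm
    exact c3.dvd_of_dvd_mul_right hd
  have h7 := Nat.le_of_dvd (by norm_num) h16
  generalize Nat.card K = n at *
  interval_cases n <;> simp_all

theorem SC.a3 (h : SC G) (hG : Nat.card G = 720) (K : Subgroup G) [K.Normal]
    (hK : ¬ 5 ∣ Nat.card K) : K = ⊥ := by
  haveI := Fact.mk Nat.prime_five
  rcases h.a2 (by rw [hG]) (by rw [hG]; norm_num) K hK with e | e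
  · exact card_eq_one.1 e
  exfalso
  have hq : Nat.card (G ⧸ K) = 45 := by
    have := K.card_mul_index
    rw [e, hG] at this
    rw [← index_eq_card]; omega
  obtain ⟨Q⟩ : Nonempty (Sylow 5 (G ⧸ K)) := inferInstance
  have hQ : Nat.card Q = 5 := by
    rw [Q.card_eq_multiplicity, hq, show (45 : ℕ) = 5 * 9 from rfl,
      Nat.factorization_mul (by norm_num) (by norm_num)]
    simp [Nat.Prime.factorization Nat.prime_five, Nat.factorization_eq_zero_of_not_dvd]
  have hi : (Q : Subgroup (G ⧸ K)).index = 9 := by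
    have := (Q : Subgroup (G ⧸ K)).card_mul_index
    rw [hQ, hq] at this; omega
  have hn : Nat.card (Sylow 5 (G ⧸ K)) = 1 := by
    have h1 := Q.card_dvd_index
    have h2 := card_sylow_modEq_one 5 (G ⧸ K)
    rw [hi] at h1
    have := Nat.le_of_dvd (by norm_num) h1
    generalize Nat.card (Sylow 5 (G ⧸ K)) = n at *
    interval_cases n <;> simp_all [Nat.ModEq]
  haveI : Subsingleton (Sylow 5 (G ⧸ K)) := (Nat.card_eq_one_iff_unique.1 hn).1
  haveI : (Q : Subgroup (G ⧸ K)).Normal := Q.normal_of_subsingleton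
  have hi' : ((Q : Subgroup (G ⧸ K)).comap (QuotientGroup.mk' K)).index = 9 := by
    rw [index_comap_of_surjective _ (QuotientGroup.mk'_surjective K), hi]
  refine h.a0' (by rw [hG]; norm_num) ((Q : Subgroup (G ⧸ K)).comap (QuotientGroup.mk' K)) ?_
    (by rw [hi']; norm_num)
  have := ((Q : Subgroup (G ⧸ K)).comap (QuotientGroup.mk' K)).card_mul_index
  rw [hi', hG] at this
  omega

theorem a6no : ∀ g : Equiv.Perm (Fin 6), Equiv.Perm.sign g = 1 → g ^ 6 = 1 →
    g ^ 2 = 1 ∨ g ^ 3 = 1 := by decide +kernel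

theorem SC.a4 (h : SC G) (hG : Nat.card G = 720) :
    ∃ M : Subgroup G, M.Normal ∧ M.index = 2 ∧ ∀ g ∈ M, orderOf g ≠ 6 := by
  obtain ⟨x, -, ox⟩ := ex_ord (K := (⊤ : Subgroup G)) Nat.prime_five
    (by rw [card_top, hG]; norm_num)
  set M := normalClosure ({x} : Set G) with hM
  have xM : x ∈ M := subset_normalClosure rfl
  have h5 : 5 ∣ Nat.card M := ox ▸ M.orderOf_dvd_natCard xM
  have hd : Nat.card M ∣ 720 := hG ▸ card_subgroup_dvd_card M
  have h9 : 9 ∣ Nat.card M := by
    have h1 := h.a0' (by rw [hG]; norm_num) M h5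
    have h2 := M.card_mul_index
    rw [hG] at h2
    exact (((Nat.Prime.coprime_iff_not_dvd Nat.prime_three).2 h1).pow_left 2).dvd_of_dvd_mul_right
      (h2 ▸ by norm_num)
  haveI : Nontrivial M := by
    rw [← Finite.one_lt_card_iff_nontrivial]
    have := Nat.le_of_dvd Nat.card_pos h9
    omega
  haveI : IsSimpleGroup M := ⟨fun K hK => by
    have hc := K.card_mul_index
    by_cases k5 : 5 ∣ Nat.card K
    · right
      have hi : ¬ 5 ∣ K.index := fun e => by
        have : 25 ∣ 720 := ((Nat.mul_dvd_mul k5 e).trans (hc ▸ dvd_rfl)).trans hd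
        norm_num at this
      have : M ≤ K.map M.subtype := by
        refine (closure_le _).2 fun y hy => ?_
        have yM : y ∈ M := conjugatesOfSet_subset_normalClosure hy
        obtain ⟨a, ha, c, hc⟩ := Group.mem_conjugatesOfSet_iff.1 hy
        have oy : orderOf y = 5 := by
          rw [Set.mem_singleton_iff.1 ha] at hc
          rw [← ox, hc.orderOf_eq]
        refine ⟨⟨y, yM⟩, mem_of_cop K ?_, rfl⟩
        rw [← orderOf_coe, oy]
        exact (Nat.Prime.coprime_iff_not_dvd Nat.prime_five).2 hi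
      rw [eq_top_iff]
      intro y _
      obtain ⟨z, hz, e⟩ := this y.2
      rwa [← Subtype.ext e]
    · left
      rcases (h.sub M).a2 hd h5 K k5 with e | e
      · exact card_eq_one.1 e
      have hi : ¬ 2 ∣ K.index := fun e2 => by
        have : 32 ∣ 720 := ((Nat.mul_dvd_mul (e ▸ dvd_rfl : 16 ∣ Nat.card K) e2).trans
          (hc ▸ dvd_rfl)).trans hd
        norm_num at this
      haveI : (K.map M.subtype).Normal := ⟨by
        rintro _ ⟨k, hk, rfl⟩ g
        have m : g * (k : G) * g⁻¹ ∈ M := (inferInstance : M.Normal).conj_mem _ k.2 g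
        refine ⟨⟨_, m⟩, mem_of_cop K ?_, rfl⟩
        have o1 : orderOf (⟨_, m⟩ : M) ∣ 16 := by
          rw [← orderOf_coe, ← e]
          have : orderOf (g * (k : G) * g⁻¹) = orderOf (k : G) := by
            exact (SemiconjBy.orderOf_eq g (by simp [SemiconjBy])).symm
          simp only
          rw [this, orderOf_coe]
          exact K.orderOf_dvd_natCard hk
        exact Nat.Coprime.coprime_dvd_left o1
          (((Nat.Prime.coprime_iff_not_dvd Nat.prime_two).2 hi).pow_left 4)⟩
      have := h.a3 hG (K.map M.subtype) (by rwa [card_map_of_injective M.subtype_injective])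
      exact (map_eq_bot_iff_of_injective _ M.subtype_injective).1 this⟩
  have hnc : ¬ IsMulCommutative M := fun hc => by
    obtain ⟨y, hy, oy⟩ := ex_ord Nat.prime_three ((by norm_num : 3 ∣ 9).trans h9)
    have := orderOf_dvd_of_pow_eq_one (h x y ox
      (congrArg Subtype.val (hc.1.1 (⟨y, hy⟩ : M) ⟨x, xM⟩)))
    rw [oy] at this; norm_num at this
  have h360 : Nat.card M = 360 := by
    have := Cfsg.Agent.S0496.result hnc ((Nat.le_of_dvd (by norm_num) hd).trans (by norm_num))
    omega
  obtain ⟨e⟩ := Cfsg.Agent.S0497.result h360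
  refine ⟨M, inferInstance, ?_, fun g hg o6 => ?_⟩
  · have := M.card_mul_index
    rw [h360, hG] at this; omega
  · have o : orderOf ((e ⟨g, hg⟩ : alternatingGroup (Fin 6)) : Equiv.Perm (Fin 6)) = 6 := by
      rw [orderOf_coe, e.orderOf_eq, ← orderOf_coe, o6]
    have o1 := pow_orderOf_eq_one ((e ⟨g, hg⟩ : alternatingGroup (Fin 6)) : Equiv.Perm (Fin 6))
    rw [o] at o1
    rcases a6no _ (e ⟨g, hg⟩).2 o1 with h1 | h1 <;>
    · have := orderOf_dvd_of_pow_eq_one h1
      rw [o] at this; norm_num at this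

end

end H17.Cf
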