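import Cfsg.Agent.H17.Cf1

set_option autoImplicit false
set_option linter.style.haveILetI false
set_option linter.unusedSectionVars false

open Subgroup MulAction

namespace H17.Cf

section
variable {G : Type*} [Group G] [Finite G]

theorem card_sub {A B : Subgroup G} (h : A ≤ B) : Nat.card (A.subgroupOf B) = Nat.card A :=
  Nat.card_congr (subgroupOfEquivOfLe h).toEquiv

theorem le_norm2 {A P : Subgroup G} (hP : P ≤ A) (h : Nat.card A ∣ 2 * Nat.card P) :
    A ≤ normalizer (P : Set G) := by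
  rw [← normal_subgroupOf_iff_le_normalizer hP]
  have h1 := (P.subgroupOf A).card_mul_index
  rw [card_sub hP] at h1
  rw [← h1, mul_comm 2] at h
  rcases (Nat.dvd_prime Nat.prime_two).1 (Nat.dvd_of_mul_dvd_mul_left Nat.card_pos h) with e | e
  · exact normal_of_index_eq_one e
  · exact normal_of_index_eq_two e

theorem le_syl {p : ℕ} {Q : Subgroup G} (hQ : IsPGroup p Q) (P : Sylow p G)
    (h : Q ≤ normalizer ((P : Subgroup G) : Set G)) : Q ≤ P := by
  have := hQ.inf_normalizer_sylow P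
  rw [← P.coe_coe, inf_eq_left.2 h] at this
  exact this ▸ inf_le_right

theorem syl_uniq {p : ℕ} {A : Subgroup G} (P Q : Sylow p G) (hP : (P : Subgroup G) ≤ A)
    (hQ : (Q : Subgroup G) ≤ A) (h : Nat.card A ∣ 2 * Nat.card P) : P = Q :=
  Sylow.ext (Q.is_maximal' P.isPGroup' (le_syl Q.isPGroup' P (hQ.trans (le_norm2 hP h))))

theorem dvd_of_not {n : ℕ} (h : n ∣ 720) (h2 : ¬ 2 ∣ n) (h5 : ¬ 5 ∣ n) : n ∣ 9 := by
  have c : n.Coprime (2 ^ 4 * 5) :=
    Nat.Coprime.mul_right (((Nat.Prime.coprime_iff_not_dvd Nat.prime_two).2 h2).symm.pow_right 4)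
      ((Nat.Prime.coprime_iff_not_dvd Nat.prime_five).2 h5).symm
  exact c.dvd_of_dvd_mul_left h

theorem SC.a5 (h : SC G) (hG : Nat.card G = 720) {y : G} (hy : orderOf y = 3) :
    Nat.card (centralizer ({y} : Set G)) ∣ 18 := by
  obtain ⟨M, hM, hi, h6⟩ := h.a4 hG
  set C := centralizer ({y} : Set G)
  have h1 := (M.subgroupOf C).card_mul_index
  have h2 : (M.subgroupOf C).index ∣ 2 := hi ▸ relIndex_dvd_index_of_normal M C
  have yM : y ∈ M := mem_of_cop M (by rw [hy, hi]; norm_num)
  have h3 : Nat.card (M.subgroupOf C) ∣ 9 := by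
    refine dvd_of_not (hG ▸ (card_subgroup_dvd_card _).trans (card_subgroup_dvd_card C)) ?_ ?_
    · intro e
      obtain ⟨u, hu, ou⟩ := ex_ord Nat.prime_two e
      have c : Commute (u : G) y := mem_centralizer_singleton_iff.1 u.2
      refine h6 ((u : G) * y) (M.mul_mem hu yM) ?_
      have ou' : orderOf (u : G) = 2 := by rw [orderOf_coe, ou]
      rw [c.orderOf_mul_eq_mul_orderOf_of_coprime (by rw [ou', hy]; norm_num), ou', hy]
    · intro e
      obtain ⟨u, hu, ou⟩ := ex_ord Nat.prime_five e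
      have c : Commute (u : G) y := mem_centralizer_singleton_iff.1 u.2
      have := orderOf_dvd_of_pow_eq_one (h u y (by rw [orderOf_coe, ou]) c.symm)
      rw [hy] at this; norm_num at this
  rw [← h1]
  exact Nat.mul_dvd_mul h3 h2

theorem card_syl {p a m : ℕ} [hp : Fact p.Prime] (hG : Nat.card G = p ^ a * m) (hm : ¬ p ∣ m)
    (P : Sylow p G) : Nat.card P = p ^ a := by
  have m0 : m ≠ 0 := by rintro rfl; exact hm (dvd_zero p)
  rw [P.card_eq_multiplicity, hG, Nat.factorization_mul (pow_ne_zero _ hp.out.ne_zero) m0]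
  simp [Nat.Prime.factorization hp.out, Nat.factorization_eq_zero_of_not_dvd hm]

theorem comm9 {E : Subgroup G} (hE : Nat.card E = 9) {a b : G} (ha : a ∈ E) (hb : b ∈ E) :
    Commute a b := by
  haveI := Fact.mk Nat.prime_three
  have := IsPGroup.isMulCommutative_of_card_eq_prime_sq (p := 3) (G := E) hE
  exact congrArg Subtype.val (this.1.1 (⟨a, ha⟩ : E) ⟨b, hb⟩)

theorem num10 {n : ℕ} (h1 : n ∣ 80) (h3 : 5 ∣ n) (h9 : 9 ∣ n - 1) : n = 10 := by
  have := Nat.le_of_dvd (by norm_num) h1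
  interval_cases n <;> simp_all

theorem SC.main (h : SC G) (hG : Nat.card G = 720) [Fact (Nat.Prime 3)] (E : Sylow 3 G) :
    Nat.card (normalizer ((E : Subgroup G) : Set G)) = 72 ∧
      Nat.card (centralizer ((E : Subgroup G) : Set G)) ∣ 9 := by
  haveI := Fact.mk Nat.prime_two
  have c9 : ∀ P : Sylow 3 G, Nat.card P = 9 := fun P =>
    card_syl (a := 2) (m := 80) hG (by norm_num) P
  set B : Set (Sylow 3 G) := {E}ᶜ with hB
  have hinv : ∀ e ∈ normalizer ((E : Subgroup G) : Set G), ∀ b ∈ B, e • b ∈ B := by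
    intro e he b hb e1
    rw [E.coe_coe, ← Sylow.smul_eq_iff_mem_normalizer] at he
    exact hb (smul_left_cancel e ((Set.mem_singleton_iff.1 e1).trans he.symm))
  have hfree : ∀ e ∈ (E : Subgroup G), ∀ b ∈ B, e • b = b → e = 1 := by
    intro e he b hb e1
    by_contra e0
    rw [Sylow.smul_eq_iff_mem_normalizer] at e1
    have m : e ∈ (E : Subgroup G) ⊓ b := by
      rw [← E.isPGroup'.inf_normalizer_sylow b]; exact ⟨he, e1⟩
    have d9 : Nat.card ↥((E : Subgroup G) ⊓ b) ∣ 3 ^ 2 :=
      (card_dvd_of_le inf_le_left).trans (c9 E).dvd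
    have d3 : 3 ∣ Nat.card ↥((E : Subgroup G) ⊓ b) := by
      obtain ⟨k, -, hk⟩ := (Nat.dvd_prime_pow Nat.prime_three).1 d9
      rcases k with _ | k
      · rw [pow_zero, card_eq_one] at hk
        rw [hk] at m; exact absurd m e0
      · rw [hk]; exact ⟨3 ^ k, by ring⟩
    obtain ⟨y, hy, oy⟩ := ex_ord Nat.prime_three d3
    refine hb (syl_uniq (A := centralizer ({y} : Set G)) b E ?_ ?_ ?_)
    · exact fun a ha => mem_centralizer_singleton_iff.2 (comm9 (c9 b) ha hy.2)
    · exact fun a ha => mem_centralizer_singleton_iff.2 (comm9 (c9 E) ha hy.1)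
    · rw [c9]; exact h.a5 hG oy
  have hBn : B.ncard = Nat.card (Sylow 3 G) - 1 := by
    rw [hB, Set.ncard_compl, Set.ncard_singleton]
  have h9 : 9 ∣ B.ncard := c9 E ▸ H6.card_dvd_ncard_of_free (E : Subgroup G) B (Set.toFinite _)
    (fun e he => hinv e (le_normalizer he)) hfree
  have n5 : ¬ 5 ∣ Nat.card (normalizer ((E : Subgroup G) : Set G)) := fun e => by
    obtain ⟨x, hx, ox⟩ := ex_ord Nat.prime_five e
    have := h.a1 ox hx (by rw [c9]; norm_num)
    rw [c9] at this; norm_num at this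
  have hN := (normalizer ((E : Subgroup G) : Set G)).card_mul_index
  have hn : (normalizer ((E : Subgroup G) : Set G)).index = Nat.card (Sylow 3 G) := by
    rw [E.card_eq_index_normalizer, E.coe_coe]
  rw [hn, hG] at hN
  have n10 : Nat.card (Sylow 3 G) = 10 := by
    have h1 := E.card_dvd_index
    have h2 := (E : Subgroup G).card_mul_index
    rw [c9, hG] at h2
    rw [show (E : Subgroup G).index = 80 by omega] at h1
    have h3 : 5 ∣ Nat.card (Sylow 3 G) :=
      ((Nat.Prime.dvd_mul Nat.prime_five).1 (hN ▸ by norm_num)).resolve_left n5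
    rw [hBn] at h9
    exact num10 h1 h3 h9
  rw [n10] at hN hBn
  have hCN : centralizer ((E : Subgroup G) : Set G) ≤ normalizer ((E : Subgroup G) : Set G) :=
    centralizer_le_normalizer _
  refine ⟨by omega, dvd_of_not (hG ▸ card_subgroup_dvd_card _) (fun e => ?_)
    fun e => n5 (e.trans (card_dvd_of_le hCN))⟩
  obtain ⟨u, hu, ou⟩ := ex_ord Nat.prime_two e
  have h1 := H6.ncard_modEq_fixedBy (p := 2) (k := 1) (g := u)
    (by rw [pow_one, ← ou, pow_orderOf_eq_one]) B (Set.toFinite _) (hinv u (hCN hu))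
  have h2 : 9 ∣ (B \ fixedBy (Sylow 3 G) u).ncard :=
    c9 E ▸ H6.card_dvd_ncard_of_free (E : Subgroup G) _ (Set.toFinite _)
      (fun e he b hb => ⟨hinv e (le_normalizer he) b hb.1, fun e1 => hb.2 (by
        have := H6.smul_mem_fixedBy (x := e⁻¹) (y := u)
          (hu _ ((E : Subgroup G).inv_mem he)) e1
        rwa [inv_smul_smul] at this)⟩) fun e he b hb => hfree e he b hb.1
  have h3 := Set.ncard_inter_add_ncard_sdiff_eq_ncard B (fixedBy (Sylow 3 G) u)
  have h4 : (B \ fixedBy (Sylow 3 G) u).ncard = 0 := by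
    rw [hBn] at h1 h3
    unfold Nat.ModEq at h1
    omega
  rw [Set.ncard_eq_zero, Set.sdiff_eq_empty] at h4
  have hK := h.a3 hG (toPermHom G (Sylow 3 G)).ker fun e => n5 (e.trans (card_dvd_of_le
    fun g hg => by
      rw [E.coe_coe, ← Sylow.smul_eq_iff_mem_normalizer]
      exact DFunLike.congr_fun (MonoidHom.mem_ker.1 hg) E))
  have : u ∈ (toPermHom G (Sylow 3 G)).ker := by
    rw [MonoidHom.mem_ker]
    ext1 b
    by_cases hb : b = E
    · have := hCN hu
      rw [E.coe_coe, ← Sylow.smul_eq_iff_mem_normalizer] at this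
      rw [hb]; exact this
    · exact h4 hb
  rw [hK, mem_bot] at this
  rw [this, orderOf_one] at ou
  norm_num at ou

theorem odd_eq {t : G} (ht : orderOf t = 2) (hz : ∀ g, Commute g t) {a b : G} {n : ℕ}
    (hn : n.Coprime 2) (ha : a ^ n = 1) (hb : b ^ n = 1)
    (h : (a : G ⧸ zpowers t) = b) : a = b := by
  have m := QuotientGroup.eq.1 h
  have c : Commute a (a⁻¹ * b) := by
    obtain ⟨k, hk⟩ := m
    rw [← hk]; exact (hz a).zpow_right k
  have h1 : (a⁻¹ * b) ^ n = 1 := by
    have := c.mul_pow n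
    rw [mul_inv_cancel_left, hb, ha, one_mul] at this
    exact this.symm
  have h2 : orderOf (a⁻¹ * b) ∣ 2 := by
    have := (zpowers t).orderOf_dvd_natCard m
    rwa [Nat.card_zpowers, ht] at this
  have := Nat.eq_one_of_dvd_coprimes hn (orderOf_dvd_of_pow_eq_one h1) h2
  rw [orderOf_eq_one_iff] at this
  exact inv_mul_eq_one.1 this

theorem partC (hG : Nat.card G = 1440) {t : G} (ht : orderOf t = 2) (hz : ∀ g, Commute g t)
    (h5 : ∀ x : G, orderOf x = 5 → Nat.card (centralizer ({x} : Set G)) ∣ 10) :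
    ∃ E U : Subgroup G, Nat.card E = 9 ∧ Nat.card U = 16 ∧ U ≤ normalizer (E : Set G) ∧
      Nat.card (centralizer (E : Set G)) ∣ 18 := by
  haveI := Fact.mk Nat.prime_three
  haveI := Fact.mk Nat.prime_two
  haveI : (zpowers t).Normal := ⟨by
    rintro _ ⟨k, rfl⟩ g
    rw [((hz g).zpow_right k).eq, mul_inv_cancel_right]; exact ⟨k, rfl⟩⟩
  have cZ : Nat.card (zpowers t) = 2 := by rw [Nat.card_zpowers, ht]
  set φ := QuotientGroup.mk' (zpowers t) with hφ
  have hs : Function.Surjective φ := QuotientGroup.mk'_surjective _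
  have cc : ∀ A : Subgroup (G ⧸ zpowers t), Nat.card (A.comap φ) = 2 * Nat.card A := fun A =>
    cZ ▸ QuotientGroup.card_preimage_mk (zpowers t) (A : Set (G ⧸ zpowers t))
  have hH : Nat.card (G ⧸ zpowers t) = 720 := by
    have := (zpowers t).card_mul_index
    rw [cZ, hG] at this
    rw [← index_eq_card]; omega
  have t2 : ∀ z ∈ zpowers t, z ^ 2 = 1 := fun z hz => by
    have := (zpowers t).orderOf_dvd_natCard hz
    rw [cZ] at this; exact orderOf_dvd_iff_pow_eq_one.1 this
  have sc : SC (G ⧸ zpowers t) := by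
    intro xb g ox hc
    obtain ⟨x0, rfl⟩ := hs xb
    have x5 : φ x0 ^ 5 = 1 := ox ▸ pow_orderOf_eq_one _
    have x10 : (x0 ^ 5) ^ 2 = 1 := t2 _ (by
      rw [← QuotientGroup.eq_one_iff]; exact (map_pow φ x0 5).trans x5)
    have e6 : φ (x0 ^ 6) = φ x0 := by rw [map_pow, pow_succ, x5, one_mul]
    have p5 : (x0 ^ 6) ^ 5 = 1 := by
      rw [← pow_mul, show 6 * 5 = 5 * 2 * 3 from rfl, pow_mul, pow_mul, x10, one_pow]
    have o5 : orderOf (x0 ^ 6) = 5 := by
      rcases (Nat.dvd_prime Nat.prime_five).1 (orderOf_dvd_of_pow_eq_one p5) with e | e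
      · rw [orderOf_eq_one_iff] at e
        rw [← e6, e, map_one, orderOf_one] at ox; norm_num at ox
      · exact e
    have hle : (centralizer ({φ x0} : Set (G ⧸ zpowers t))).comap φ ≤
        centralizer ({x0 ^ 6} : Set G) := by
      intro a ha
      rw [mem_comap, mem_centralizer_singleton_iff, ← e6] at ha
      rw [mem_centralizer_singleton_iff, ← mul_inv_eq_iff_eq_mul]
      refine odd_eq ht hz (n := 5) (by norm_num) (by rw [conj_pow, p5]; simp) p5 ?_
      change φ _ = φ _
      rw [map_mul, map_mul, ha, map_inv, mul_inv_cancel_right]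
    have d := (card_dvd_of_le hle).trans (h5 _ o5)
    rw [cc] at d
    have d5 : Nat.card (centralizer ({φ x0} : Set (G ⧸ zpowers t))) ∣ 5 :=
      Nat.dvd_of_mul_dvd_mul_left (by norm_num : 0 < 2) d
    exact orderOf_dvd_iff_pow_eq_one.1
      ((Subgroup.orderOf_dvd_natCard _ (mem_centralizer_singleton_iff.2 hc)).trans d5)
  obtain ⟨E⟩ : Nonempty (Sylow 3 G) := inferInstance
  have c9 : Nat.card E = 9 := card_syl (a := 2) (m := 160) hG (by norm_num) E
  have e9 : ∀ e ∈ (E : Subgroup G), e ^ 9 = 1 := fun e he =>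
    orderOf_dvd_iff_pow_eq_one.1 (c9 ▸ (E : Subgroup G).orderOf_dvd_natCard he)
  obtain ⟨hN, hC⟩ := sc.main hH (E.mapSurjective hs)
  rw [Sylow.coe_mapSurjective] at hN hC
  have hT := cc (normalizer (((E : Subgroup G).map φ : Subgroup _) : Set (G ⧸ zpowers t)))
  rw [hN] at hT
  obtain ⟨U, hU⟩ := Sylow.exists_subgroup_card_pow_prime (G := (normalizer
    (((E : Subgroup G).map φ : Subgroup _) : Set (G ⧸ zpowers t))).comap φ) 2 (n := 4)
    (by rw [hT]; norm_num)
  refine ⟨E, U.map (Subgroup.subtype _), c9, ?_, ?_, ?_⟩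
  · rw [card_map_of_injective (subtype_injective _), hU]; norm_num
  · rintro _ ⟨⟨g, hg⟩, -, rfl⟩
    refine mem_normalizer_fintype fun e he => ?_
    obtain ⟨e', he', e1⟩ := (mem_normalizer_iff.1 hg (φ e)).1 ⟨e, he, rfl⟩
    have : e' = g * e * g⁻¹ :=
      odd_eq ht hz (n := 9) (by norm_num) (e9 e' he') (by rw [conj_pow, e9 e he]; simp)
        (e1.trans (by rw [← map_inv, ← map_mul, ← map_mul]; rfl))
    exact this ▸ he'
  · have hle : centralizer ((E : Subgroup G) : Set G) ≤ (centralizer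
        (((E : Subgroup G).map φ : Subgroup _) : Set (G ⧸ zpowers t))).comap φ := by
      rintro g hg _ ⟨e, he, rfl⟩
      rw [← map_mul, ← map_mul, hg e he]
    refine (card_dvd_of_le hle).trans ?_
    rw [cc]
    exact Nat.mul_dvd_mul_left 2 hC

theorem partA {t : G} (ht : orderOf t = 2) (hc : Nat.card (centralizer ({t} : Set G)) = 1440)
    (h5 : ∀ x : G, orderOf x = 5 → Nat.card (centralizer ({x} : Set G)) = 10) :
    ∃ E U : Subgroup G, Nat.card E = 9 ∧ E ≤ centralizer ({t} : Set G) ∧ Nat.card U = 16 ∧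
      U ≤ normalizer (E : Set G) ∧
      Nat.card ↥(centralizer (E : Set G) ⊓ centralizer ({t} : Set G)) ∣ 18 := by
  set C := centralizer ({t} : Set G)
  have tC : t ∈ C := mem_centralizer_singleton_iff.2 rfl
  obtain ⟨E, U, hE, hU, hn, hC⟩ := partC (G := C) hc (t := ⟨t, tC⟩) (by rw [← orderOf_coe, ht])
    (fun g => Subtype.ext (mem_centralizer_singleton_iff.1 g.2)) fun x ox => by
      rw [← h5 x (by rw [orderOf_coe, ox]), ← card_map_of_injective C.subtype_injective]
      refine card_dvd_of_le ?_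
      rintro _ ⟨g, hg, rfl⟩
      exact mem_centralizer_singleton_iff.2
        (congrArg Subtype.val (mem_centralizer_singleton_iff.1 hg))
  refine ⟨E.map C.subtype, U.map C.subtype, ?_, map_subtype_le _, ?_,
    (map_mono hn).trans (le_normalizer_map _), ?_⟩
  · rw [card_map_of_injective C.subtype_injective, hE]
  · rw [card_map_of_injective C.subtype_injective, hU]
  · refine Dvd.dvd.trans ?_ hC
    rw [← card_map_of_injective (K := centralizer (E : Set C)) C.subtype_injective]
    refine card_dvd_of_le fun g hg => ⟨⟨g, hg.2⟩, fun e he => Subtype.ext ?_, rfl⟩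
    exact hg.1 e ⟨e, he, rfl⟩

end

end H17.Cf
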