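import Cfsg.Agent.H17.Cf2

set_option autoImplicit false
set_option linter.style.haveILetI false
set_option linter.unusedSectionVars false

open Subgroup MulAction

namespace H17.Cf

section
variable {G : Type*} [Group G] [Finite G]

theorem mid {E A P : Subgroup G} (h1 : E ≤ A) (h2 : A ≤ P) {p : ℕ} (hp : p.Prime)
    (h : Nat.card P = p * Nat.card E) : A = E ∨ A = P := by
  obtain ⟨m, hm⟩ := card_dvd_of_le h1
  have h3 := card_dvd_of_le h2
  rw [hm, h, mul_comm p] at h3
  rcases (Nat.dvd_prime hp).1 (Nat.dvd_of_mul_dvd_mul_left Nat.card_pos h3) with e | e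
  · left; exact (eq_of_le_of_card_ge h1 (by rw [hm, e, mul_one])).symm
  · right; exact eq_of_le_of_card_ge h2 (by rw [hm, e, h, mul_comm])

theorem conj_cent {E : Subgroup G} {g c : G} (hg : g ∈ normalizer (E : Set G))
    (hc : c ∈ centralizer (E : Set G)) : g * c * g⁻¹ ∈ centralizer (E : Set G) := by
  intro e he
  have := hc _ ((mem_normalizer_iff''.1 hg e).1 he)
  calc e * (g * c * g⁻¹) = g * (g⁻¹ * e * g * c) * g⁻¹ := by group
    _ = g * (c * (g⁻¹ * e * g)) * g⁻¹ := by rw [this]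
    _ = _ := by group

theorem mem_smul_syl {p : ℕ} (P : Sylow p G) (g x : G) :
    x ∈ ((g • P : Sylow p G) : Subgroup G) ↔ g⁻¹ * x * g ∈ (P : Subgroup G) := by
  rw [Sylow.coe_subgroup_smul, mem_pointwise_smul_iff_inv_smul_mem]
  simp

theorem card_rel (A P : Subgroup G) : Nat.card ↥(A ⊓ P) * A.relIndex P = Nat.card P := by
  rw [← card_sub (inf_le_right : A ⊓ P ≤ P), inf_subgroupOf_right]
  exact (A.subgroupOf P).card_mul_index

open Classical in
theorem dcount {p : ℕ} [Fact p.Prime] [Fintype G] [Fintype (Sylow p G)] (P : Sylow p G)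
    (D : Finset G) (hD : ∀ g, ∀ y ∈ D, g * y * g⁻¹ ∈ D) :
    ∑ y ∈ D, (Finset.univ.filter fun Q : Sylow p G => y ∈ (Q : Subgroup G)).card =
      Nat.card (Sylow p G) * (D.filter fun y => y ∈ (P : Subgroup G)).card := by
  simp only [Finset.card_filter]
  rw [Finset.sum_comm]
  simp only [← Finset.card_filter]
  rw [Finset.sum_const_nat (m := (D.filter fun y => y ∈ (P : Subgroup G)).card),
    Finset.card_univ, Nat.card_eq_fintype_card]
  intro Q _
  obtain ⟨g, rfl⟩ := exists_smul_eq G P Q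
  refine Finset.card_bij' (fun y _ => g⁻¹ * y * g) (fun y _ => g * y * g⁻¹) ?_ ?_ ?_ ?_
  · intro y hy
    rw [Finset.mem_filter] at hy ⊢
    exact ⟨by simpa using hD g⁻¹ y hy.1, (mem_smul_syl P g y).1 hy.2⟩
  · intro y hy
    rw [Finset.mem_filter] at hy ⊢
    exact ⟨hD g y hy.1, (mem_smul_syl P g _).2 (by simpa [mul_assoc] using hy.2)⟩
  · intro y _; group
  · intro y _; group

theorem cz54 (hG : Nat.card G = 95040)
    (hq : ∀ x y : G, orderOf x = 5 ∨ orderOf x = 11 → Commute y x → orderOf y ∣ 110)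
    {t : G} (ht : orderOf t = 2) (hc : Nat.card (centralizer ({t} : Set G)) = 1440)
    {E : Subgroup G} (hE : Nat.card E = 9) (hEt : E ≤ centralizer ({t} : Set G))
    (h18 : Nat.card ↥(centralizer (E : Set G) ⊓ centralizer ({t} : Set G)) ∣ 18) :
    Nat.card (centralizer (E : Set G)) = 54 := by
  haveI := Fact.mk Nat.prime_three
  haveI := Fact.mk Nat.prime_two
  set Z := centralizer (E : Set G)
  set C := centralizer ({t} : Set G)
  have tZ : t ∈ Z := fun e he => mem_centralizer_singleton_iff.1 (hEt he)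
  have tC : t ∈ C := mem_centralizer_singleton_iff.2 rfl
  have EZ : E ≤ Z := fun a ha b hb => comm9 hE hb ha
  obtain ⟨e, he, oe⟩ := ex_ord (K := E) Nat.prime_three (by rw [hE]; norm_num)
  have n5 : ¬ 5 ∣ Nat.card Z := fun h => by
    obtain ⟨x, hx, ox⟩ := ex_ord Nat.prime_five h
    have := hq x e (Or.inl ox) (hx e he)
    rw [oe] at this; norm_num at this
  have n11 : ¬ 11 ∣ Nat.card Z := fun h => by
    obtain ⟨x, hx, ox⟩ := ex_ord Nat.prime_eleven h
    have := hq x e (Or.inr ox) (hx e he)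
    rw [oe] at this; norm_num at this
  have ot : orderOf (⟨t, tZ⟩ : Z) = 2 := by rw [← orderOf_coe, ht]
  have n4 : ¬ 4 ∣ Nat.card Z := fun h => by
    obtain ⟨K, hK, hle⟩ := Sylow.exists_subgroup_card_pow_prime_le (G := Z) 2 (n := 1) (m := 2) h
      (zpowers ⟨t, tZ⟩) (by rw [Nat.card_zpowers, ot]; rfl) (by norm_num)
    have cm := IsPGroup.isMulCommutative_of_card_eq_prime_sq (p := 2) (G := K) hK
    have : K.map Z.subtype ≤ Z ⊓ C := by
      rintro _ ⟨k, hk, rfl⟩
      exact ⟨k.2, mem_centralizer_singleton_iff.2 (congrArg (fun z : K => ((z : Z) : G))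
        (cm.1.1 (⟨k, hk⟩ : K) ⟨_, hle (mem_zpowers _)⟩))⟩
    have := (card_dvd_of_le this).trans h18
    rw [card_map_of_injective Z.subtype_injective, hK] at this
    norm_num at this
  have d18 : 18 ∣ Nat.card ↥(Z ⊓ C) :=
    Nat.Coprime.mul_dvd_of_dvd_of_dvd (by norm_num : Nat.Coprime 9 2)
      (hE ▸ card_dvd_of_le (le_inf EZ hEt)) (ht ▸ (Z ⊓ C).orderOf_dvd_natCard ⟨tZ, tC⟩)
  have e18 := Nat.dvd_antisymm h18 d18
  obtain ⟨k, hk⟩ := d18.trans (card_dvd_of_le (inf_le_left : Z ⊓ C ≤ Z))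
  have hd : Nat.card Z ∣ 95040 := hG ▸ card_subgroup_dvd_card Z
  have k3 : k ∣ 3 := by
    rw [hk] at hd n4 n5 n11
    have h1 : k ∣ 3 * (2 ^ 5 * (5 * 11)) := Nat.dvd_of_mul_dvd_mul_left (by norm_num : 0 < 18) hd
    refine Nat.Coprime.dvd_of_dvd_mul_right (Nat.Coprime.mul_right (Nat.Coprime.pow_right _ ?_)
      (Nat.Coprime.mul_right ?_ ?_)) h1
    · exact ((Nat.Prime.coprime_iff_not_dvd Nat.prime_two).2 (by omega)).symm
    · exact ((Nat.Prime.coprime_iff_not_dvd Nat.prime_five).2 (by omega)).symm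
    · exact ((Nat.Prime.coprime_iff_not_dvd Nat.prime_eleven).2 (by omega)).symm
  rcases (Nat.dvd_prime Nat.prime_three).1 k3 with rfl | rfl
  swap
  · exact hk
  exfalso
  have ZC : Z ≤ C := inf_eq_left.1 (eq_of_le_of_card_ge inf_le_left (by omega))
  obtain ⟨P, hP, EP⟩ := Sylow.exists_subgroup_card_pow_prime_le (G := G) 3 (n := 2) (m := 3)
    (by rw [hG]; norm_num) E hE (by norm_num)
  have PN : P ≤ normalizer (E : Set G) := by
    rw [← normal_subgroupOf_iff_le_normalizer EP]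
    have := (E.subgroupOf P).card_mul_index
    rw [card_sub EP, hE, hP] at this
    exact normal_of_index_eq_minFac_card (by rw [hP]; norm_num; omega)
  haveI : (zpowers (⟨t, tZ⟩ : Z)).Normal := ⟨by
    rintro _ ⟨k, rfl⟩ g
    have c : Commute g ⟨t, tZ⟩ := Subtype.ext (mem_centralizer_singleton_iff.1 (ZC g.2))
    rw [(c.zpow_right k).eq, mul_inv_cancel_right]; exact ⟨k, rfl⟩⟩
  have hi : (zpowers (⟨t, tZ⟩ : Z)).index = 9 := by
    have := (zpowers (⟨t, tZ⟩ : Z)).card_mul_index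
    rw [Nat.card_zpowers, ot, hk] at this; omega
  have PC : P ≤ C := fun g hg => by
    have o : orderOf (g * t * g⁻¹) = 2 := by
      rw [← ht]; exact (SemiconjBy.orderOf_eq g (by simp [SemiconjBy])).symm
    have m := mem_of_cop (zpowers (⟨t, tZ⟩ : Z)) (g := ⟨_, conj_cent (PN hg) tZ⟩)
      (by rw [← orderOf_coe, hi, o]; norm_num)
    classical
    rw [mem_zpowers_iff_mem_range_orderOf, ot, Finset.mem_image] at m
    obtain ⟨i, hi, e⟩ := m
    have e' : t ^ i = g * t * g⁻¹ := congrArg Subtype.val e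
    rw [Finset.mem_range] at hi
    rw [mem_centralizer_singleton_iff, ← mul_inv_eq_iff_eq_mul]
    interval_cases i
    · rw [← e', pow_zero, orderOf_one] at o; norm_num at o
    · rw [← e', pow_one]
  have := card_dvd_of_le PC
  rw [hP, hc] at this
  norm_num at this

theorem num220 {n k m : ℕ} (h : k * n = 95040) (h1 : 432 ∣ k) (h5 : ¬ 5 ∣ k) (h11 : ¬ 11 ∣ k)
    (h3 : n ≡ 1 [MOD 3]) (hm : m ≤ 26) (h4 : 4400 ≤ n * m) : n = 220 ∧ 20 ≤ m := by
  obtain ⟨j, rfl⟩ := h1
  have h2 : j * n = 220 := by nlinarith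
  have h6 : j ≤ 220 := Nat.le_of_dvd (by norm_num) ⟨n, h2.symm⟩
  have h7 : 170 ≤ n := by nlinarith
  have h8 : j ≤ 1 := by nlinarith
  interval_cases j
  · omega
  · have : n = 220 := by omega
    subst this; omega

theorem partM (hG : Nat.card G = 95040) (h3 : Nat.card {g : G // orderOf g = 3} = 4400)
    [Fact (Nat.Prime 3)] (P : Sylow 3 G) (c27 : ∀ Q : Sylow 3 G, Nat.card Q = 27)
    (ab : ∀ a ∈ (P : Subgroup G), ∀ b ∈ (P : Subgroup G), Commute a b)
    (nq : ∀ q, q = 5 ∨ q = 11 → ¬ q ∣ Nat.card (normalizer ((P : Subgroup G) : Set G)))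
    (d432 : 432 ∣ Nat.card (normalizer ((P : Subgroup G) : Set G))) :
    (∀ a ∈ (P : Subgroup G), a ≠ 1 → orderOf a = 3) ∧ ∃ Q : Sylow 3 G, Q ≠ P ∧
      Nat.card ↥((Q : Subgroup G) ⊓ P) = 9 ∧ ∀ u ∈ normalizer ((P : Subgroup G) : Set G),
        ∀ r ∈ (Q : Subgroup G) ⊓ P, u * r * u⁻¹ ∈ (Q : Subgroup G) ⊓ P := by
  classical
  haveI := Fintype.ofFinite G
  haveI := Fintype.ofFinite (Sylow 3 G)
  set N := normalizer ((P : Subgroup G) : Set G) with hNd
  have hN := N.card_mul_index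
  have hn : N.index = Nat.card (Sylow 3 G) := by
    rw [P.card_eq_index_normalizer, hNd, P.coe_coe]
  rw [hn, hG] at hN
  obtain ⟨Y, hY⟩ : ∃ Y : Finset G, Y = Finset.univ.filter fun g => orderOf g = 3 := ⟨_, rfl⟩
  have cY : Y.card = 4400 := by rw [← h3, Nat.card_eq_fintype_card, Fintype.card_subtype, hY]
  have oc : ∀ g y : G, orderOf (g * y * g⁻¹) = orderOf y := fun g y =>
    (SemiconjBy.orderOf_eq g (by simp [SemiconjBy])).symm
  set n : G → ℕ := fun y =>
    (Finset.univ.filter fun Q : Sylow 3 G => y ∈ (Q : Subgroup G)).card with hnd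
  have nm : ∀ y ∈ Y, n y % 3 = 1 := fun y hy => by
    have oy : orderOf y = 3 := by rw [hY] at hy; exact (Finset.mem_filter.1 hy).2
    have h1 := H6.card_modEq_fixedBy (Ω := Sylow 3 G) (p := 3) (k := 1) (g := y)
      (by rw [pow_one, ← oy, pow_orderOf_eq_one])
    have h2 : fixedBy (Sylow 3 G) y =
        ↑(Finset.univ.filter fun Q : Sylow 3 G => y ∈ (Q : Subgroup G)) := by
      ext Q
      simp only [mem_fixedBy, Finset.coe_filter, Finset.mem_univ, true_and, Set.mem_ofPred_eq]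
      rw [Sylow.smul_eq_iff_mem_normalizer, ← Q.coe_coe]
      exact ⟨fun h => le_syl (IsPGroup.of_card (n := 1) (by rw [Nat.card_zpowers, oy]; rfl)) Q
        (zpowers_le.2 h) (mem_zpowers y), fun h => le_normalizer h⟩
    rw [h2, Set.ncard_coe_finset] at h1
    exact h1.symm.trans (card_sylow_modEq_one 3 G)
  have fin : ∀ A : Subgroup G, (Finset.univ.filter fun g => g ∈ A).card = Nat.card A := fun A => by
    rw [Nat.card_eq_fintype_card, Fintype.card_subtype]
  have hYc : ∀ g, ∀ y ∈ Y, g * y * g⁻¹ ∈ Y := fun g y hy => by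
    rw [hY, Finset.mem_filter] at hy ⊢
    exact ⟨Finset.mem_univ _, (oc g y).trans hy.2⟩
  have s1 := dcount P Y hYc
  have m26 : (Y.filter fun y => y ∈ (P : Subgroup G)).card ≤ 26 := by
    have : (Y.filter fun y => y ∈ (P : Subgroup G)) ⊆
        (Finset.univ.filter fun g => g ∈ (P : Subgroup G)).erase 1 := fun y hy => by
      simp only [hY, Finset.mem_filter, Finset.mem_erase, Finset.mem_univ, true_and] at hy ⊢
      refine ⟨?_, hy.2⟩
      rintro rfl
      simp at hy
    have := Finset.card_le_card this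
    rwa [Finset.card_erase_of_mem (by simp [one_mem]), fin, c27] at this
  have l1 : Y.card ≤ ∑ y ∈ Y, n y := by
    rw [Finset.card_eq_sum_ones]
    exact Finset.sum_le_sum fun y hy => by have := nm y hy; omega
  obtain ⟨n220, m20⟩ := num220 hN d432 (nq 5 (Or.inl rfl)) (nq 11 (Or.inr rfl))
    (card_sylow_modEq_one 3 G) m26 (by rw [← s1, ← cY]; exact l1)
  have el : ∀ a ∈ (P : Subgroup G), a ≠ 1 → orderOf a = 3 := by
    let O : Subgroup G :=
      { carrier := {g | g ∈ (P : Subgroup G) ∧ g ^ 3 = 1}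
        one_mem' := ⟨one_mem _, one_pow _⟩
        mul_mem' := fun {a b} ha hb => ⟨mul_mem ha.1 hb.1, by
          rw [(ab a ha.1 b hb.1).mul_pow, ha.2, hb.2, one_mul]⟩
        inv_mem' := fun {a} ha => ⟨inv_mem ha.1, by rw [inv_pow, ha.2, inv_one]⟩ }
    have OP : O ≤ P := fun g hg => hg.1
    have h1 : (Y.filter fun y => y ∈ (P : Subgroup G)) ⊆ Finset.univ.filter fun g => g ∈ O :=
      fun y hy => by
        simp only [hY, Finset.mem_filter, Finset.mem_univ, true_and] at hy ⊢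
        exact ⟨hy.2, hy.1 ▸ pow_orderOf_eq_one y⟩
    have h2 := Finset.card_le_card h1
    rw [fin] at h2
    obtain ⟨k, hk⟩ := card_dvd_of_le OP
    rw [c27] at hk
    have h4 : k = 1 := by
      rcases k with _ | _ | k
      · omega
      · rfl
      · nlinarith
    have h5 : O = P := eq_of_le_of_card_ge OP (by rw [c27, hk, h4, mul_one])
    intro a ha a1
    rw [← h5] at ha
    exact orderOf_eq_prime ha.2 a1
  obtain ⟨D, hD⟩ : ∃ D : Finset G, D = Y.filter fun y => ∃ Q Q' : Sylow 3 G, Q ≠ Q' ∧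
    y ∈ (Q : Subgroup G) ∧ y ∈ (Q' : Subgroup G) := ⟨_, rfl⟩
  have hDc : ∀ g, ∀ y ∈ D, g * y * g⁻¹ ∈ D := fun g y hy => by
    rw [hD, Finset.mem_filter] at hy ⊢
    obtain ⟨h1, Q, Q', ne, m1, m2⟩ := hy
    exact ⟨hYc g y h1, g • Q, g • Q', fun e => ne (smul_left_cancel g e),
      (mem_smul_syl Q g _).2 (by simpa [mul_assoc] using m1),
      (mem_smul_syl Q' g _).2 (by simpa [mul_assoc] using m2)⟩
  have s2 := dcount P D hDc
  have DY : D ⊆ Y := hD ▸ Finset.filter_subset _ _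
  have l2 : D.card * 4 ≤ ∑ y ∈ D, n y := by
    rw [← smul_eq_mul]
    refine Finset.card_nsmul_le_sum _ _ _ fun y hy => ?_
    have h1 := nm y (DY hy)
    obtain ⟨-, Q, Q', ne, m1, m2⟩ := Finset.mem_filter.1 (hD ▸ hy)
    have : 1 < n y := Finset.one_lt_card.2 ⟨Q, by simpa using m1, Q', by simpa using m2, ne⟩
    omega
  have l3 : (Y \ D).card ≤ ∑ y ∈ Y \ D, n y := by
    rw [Finset.card_eq_sum_ones]
    exact Finset.sum_le_sum fun y hy => by have := nm y (Finset.mem_sdiff.1 hy).1; omega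
  have l4 := Finset.sum_sdiff (f := n) DY
  have l5 := Finset.card_sdiff_add_card_eq_card DY
  change ∑ y ∈ Y, n y = _ at s1
  change ∑ y ∈ D, n y = _ at s2
  rw [n220] at s1 s2
  have d8 : (D.filter fun y => y ∈ (P : Subgroup G)).card ≤ 8 := by omega
  obtain ⟨Q, QP, hR⟩ : ∃ Q : Sylow 3 G, Q ≠ P ∧ Nat.card ↥((Q : Subgroup G) ⊓ P) = 9 := by
    by_contra hcon
    have := H6.dvd_ncard_of_relIndex (P : Subgroup G) 9 ({P}ᶜ : Set (Sylow 3 G)) (Set.toFinite _)
      (fun e he b hb e1 => by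
        have : e • P = P := by
          rw [Sylow.smul_eq_iff_mem_normalizer, ← P.coe_coe]; exact le_normalizer he
        exact hb (smul_left_cancel e ((Set.mem_singleton_iff.1 e1).trans this.symm)))
      fun b hb => by
        have h1 := card_rel (stabilizer G b) P
        rw [inf_comm, b.stabilizer_eq_normalizer, P.isPGroup'.inf_normalizer_sylow,
          ← b.stabilizer_eq_normalizer, c27, inf_comm] at h1
        obtain ⟨k, k3, hk⟩ := (Nat.dvd_prime_pow Nat.prime_three (m := 3)).1 (Dvd.intro _ h1)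
        rw [hk] at h1
        interval_cases k
        · omega
        · omega
        · exact absurd ⟨b, hb, hk⟩ hcon
        · exact absurd (Sylow.ext (b.is_maximal' P.isPGroup' (inf_eq_left.1
            (eq_of_le_of_card_ge inf_le_left (by rw [c27, hk]; norm_num))))).symm hb
    rw [Set.ncard_compl, Set.ncard_singleton, n220] at this
    norm_num at this
  set R := (Q : Subgroup G) ⊓ P with hRd
  have RD : (Finset.univ.filter fun g => g ∈ R).erase 1 =
      D.filter fun y => y ∈ (P : Subgroup G) := by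
    refine Finset.eq_of_subset_of_card_le (fun y hy => ?_) ?_
    · simp only [hD, hY, Finset.mem_filter, Finset.mem_erase, Finset.mem_univ, true_and] at hy ⊢
      exact ⟨⟨el y hy.2.2 hy.1, Q, P, QP, hy.2.1, hy.2.2⟩, hy.2.2⟩
    · rw [Finset.card_erase_of_mem (by simp [one_mem]), fin, hR]; exact d8
  refine ⟨el, Q, QP, hR, fun u hu r hr => ?_⟩
  focus
    by_cases r1 : r = 1
    · simp [r1, one_mem]
    have : r ∈ D.filter fun y => y ∈ (P : Subgroup G) := by
      rw [← RD]; exact Finset.mem_erase.2 ⟨r1, Finset.mem_filter.2 ⟨Finset.mem_univ _, hr⟩⟩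
    rw [Finset.mem_filter] at this
    have h2 : u * r * u⁻¹ ∈ D.filter fun y => y ∈ (P : Subgroup G) :=
      Finset.mem_filter.2 ⟨hDc u r this.1, (mem_normalizer_iff.1 hu r).1 this.2⟩
    rw [← RD] at h2
    exact (Finset.mem_filter.1 (Finset.mem_erase.1 h2).2).2

theorem partB (hG : Nat.card G = 95040) (h3 : Nat.card {g : G // orderOf g = 3} = 4400)
    (hq : ∀ x y : G, orderOf x = 5 ∨ orderOf x = 11 → Commute y x → orderOf y ∣ 110)
    {E U : Subgroup G} (hE : Nat.card E = 9) (hU : Nat.card U = 16)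
    (hUE : U ≤ normalizer (E : Set G)) (hZ : Nat.card (centralizer (E : Set G)) = 54) :
    False := by
  haveI := Fact.mk Nat.prime_three
  set Z := centralizer (E : Set G)
  have c27 : ∀ Q : Sylow 3 G, Nat.card Q = 27 := fun Q =>
    card_syl (a := 3) (m := 3520) hG (by norm_num) Q
  have EZ : E ≤ Z := fun a ha b hb => comm9 hE hb ha
  obtain ⟨P, PZ⟩ : ∃ P : Sylow 3 G, (P : Subgroup G) ≤ Z := by
    obtain ⟨Q, hQ⟩ := Sylow.exists_subgroup_card_pow_prime (G := Z) 3 (n := 3)
      (by rw [hZ]; norm_num)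
    have hQ' : Nat.card (Q.map Z.subtype) = 3 ^ 3 := by
      rw [card_map_of_injective Z.subtype_injective, hQ]
    obtain ⟨P, hP⟩ := (IsPGroup.of_card hQ').exists_le_sylow
    exact ⟨P, eq_of_le_of_card_ge hP (by rw [c27, hQ']; norm_num) ▸ map_subtype_le _⟩
  have uq : ∀ Q : Sylow 3 G, (Q : Subgroup G) ≤ Z → Q = P := fun Q hQ =>
    syl_uniq Q P hQ PZ (by rw [hZ, c27])
  have EP : E ≤ P := le_syl (IsPGroup.of_card (n := 2) hE) P
    (EZ.trans (le_norm2 PZ (by rw [hZ, c27])))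
  have ab : ∀ a ∈ (P : Subgroup G), ∀ b ∈ (P : Subgroup G), Commute a b := by
    intro a ha b hb
    by_cases aE : a ∈ E
    · exact PZ hb a aE
    rcases mid (E := E) (A := centralizer ({a} : Set G) ⊓ P) (P := P)
      (fun e he => ⟨mem_centralizer_singleton_iff.2 (PZ ha e he), EP he⟩) inf_le_right
      Nat.prime_three (by rw [c27, hE]) with e | e
    · exact absurd (e ▸ (⟨mem_centralizer_singleton_iff.2 rfl, ha⟩ :
        a ∈ centralizer ({a} : Set G) ⊓ P)) aE
    · rw [← e] at hb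
      exact (mem_centralizer_singleton_iff.1 hb.1).symm
  have ab' : ∀ Q : Sylow 3 G, ∀ a ∈ (Q : Subgroup G), ∀ b ∈ (Q : Subgroup G), Commute a b := by
    intro Q a ha b hb
    obtain ⟨g, rfl⟩ := exists_smul_eq G P Q
    have := (ab _ ((mem_smul_syl P g a).1 ha) _ ((mem_smul_syl P g b).1 hb)).eq
    calc a * b = g * (g⁻¹ * a * g * (g⁻¹ * b * g)) * g⁻¹ := by group
      _ = g * (g⁻¹ * b * g * (g⁻¹ * a * g)) * g⁻¹ := by rw [this]
      _ = b * a := by group
  set N := normalizer ((P : Subgroup G) : Set G) with hNd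
  have UN : U ≤ N := fun u hu => by
    rw [hNd, P.coe_coe, ← Sylow.smul_eq_iff_mem_normalizer]
    refine uq _ fun x hx => ?_
    have := conj_cent (hUE hu) (PZ ((mem_smul_syl P u x).1 hx))
    simpa [mul_assoc] using this
  have nq : ∀ q, q = 5 ∨ q = 11 → ¬ q ∣ Nat.card N := fun q hq' h => by
    have qp : q.Prime := by rcases hq' with rfl | rfl <;> norm_num
    obtain ⟨x, hx, ox⟩ := ex_ord qp h
    have := fpf_dvd qp ox hx fun y hy hc => by
      have h1 := hq x y (ox ▸ hq') hc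
      have h2 : orderOf y ∣ 27 := c27 P ▸ (P : Subgroup G).orderOf_dvd_natCard hy
      exact orderOf_eq_one_iff.1 (Nat.eq_one_of_dvd_coprimes (by norm_num) h1 h2)
    rw [c27] at this
    rcases hq' with rfl | rfl <;> norm_num at this
  have d432 : 432 ∣ Nat.card N :=
    Nat.Coprime.mul_dvd_of_dvd_of_dvd (by norm_num : Nat.Coprime 16 27)
      (hU ▸ card_dvd_of_le UN) (c27 P ▸ card_dvd_of_le le_normalizer)
  obtain ⟨el, Q, QP, hR, UR'⟩ := partM hG h3 P c27 ab nq d432
  set R := (Q : Subgroup G) ⊓ P with hRd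
  have UR : ∀ u ∈ U, ∀ r ∈ R, u * r * u⁻¹ ∈ R := fun u hu => UR' u (UN hu)
  have c3 : Nat.card ↥(E ⊓ R) = 3 := by
    have h1 := card_rel E R
    have h2 := card_rel E P
    rw [inf_eq_left.2 EP, hE, c27] at h2
    have h4 : E.relIndex R ≤ E.relIndex P := relIndex_le_of_le_right inf_le_right (by omega)
    rw [hR] at h1
    obtain ⟨k, k3, hk⟩ := (Nat.dvd_prime_pow Nat.prime_three (m := 2)).1 (Dvd.intro _ h1)
    rw [hk] at h1
    interval_cases k
    · omega
    · exact hk
    · have ER : E ≤ R := inf_eq_left.1 (eq_of_le_of_card_ge inf_le_left (by rw [hE, hk]; norm_num))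
      exact absurd (uq Q fun x hx e he => ab' Q e (ER he).1 x hx) QP
  have key : ∀ S : Set G, (∀ u ∈ U, ∀ y ∈ S, u * y * u⁻¹ ∈ S) → ¬ 4 ∣ S.ncard →
      ∃ y ∈ S, (centralizer ({y} : Set G)).relIndex U ≤ 2 := fun S hS h4 => by
    by_contra hcon
    refine h4 (conj_dvd U 4 S hS fun y hy => ?_)
    have h1 : (centralizer ({y} : Set G)).relIndex U ∣ 2 ^ 4 := by
      have := relIndex_dvd_card (centralizer ({y} : Set G)) U
      rwa [hU] at this
    obtain ⟨k, k4, hk⟩ := (Nat.dvd_prime_pow Nat.prime_two).1 h1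
    have : ¬ (centralizer ({y} : Set G)).relIndex U ≤ 2 := fun e => hcon ⟨y, hy, e⟩
    rw [hk] at this ⊢
    interval_cases k <;> simp_all
  have UL : ∀ u ∈ U, ∀ y, y ∈ E ⊓ R → u * y * u⁻¹ ∈ E ⊓ R := fun u hu y hy =>
    ⟨(mem_normalizer_iff.1 (hUE hu) y).1 hy.1, UR u hu y hy.2⟩
  obtain ⟨a, ha, ra⟩ := key (((E ⊓ R : Subgroup G) : Set G) \ {1})
    (fun u hu y hy => ⟨UL u hu y hy.1, fun e => hy.2 (by simpa using e)⟩) (by
      rw [Set.ncard_sdiff_singleton_of_mem ((E ⊓ R).one_mem : (1 : G) ∈ ((E ⊓ R : Subgroup G) : Set G)),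
        ← Nat.card_coe_set_eq]
      change ¬ 4 ∣ Nat.card ↥(E ⊓ R) - 1
      rw [c3]; norm_num)
  obtain ⟨b, hb, rb⟩ := key ((E : Set G) \ ((E ⊓ R : Subgroup G) : Set G))
    (fun u hu y hy => ⟨(mem_normalizer_iff.1 (hUE hu) y).1 hy.1, fun e => hy.2 (by
      have := UL u⁻¹ (U.inv_mem hu) _ e
      simpa [mul_assoc] using this)⟩) (by
      rw [Set.ncard_sdiff (fun x hx => hx.1), ← Nat.card_coe_set_eq, ← Nat.card_coe_set_eq]
      change ¬ 4 ∣ Nat.card E - Nat.card ↥(E ⊓ R)
      rw [c3, hE]; norm_num)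
  set W := centralizer ({a} : Set G) ⊓ centralizer ({b} : Set G) with hW
  have r4 : W.relIndex U ≤ 4 := relIndex_inf_le.trans (Nat.mul_le_mul ra rb)
  have h1 := card_rel W U
  rw [hU] at h1
  have WZ : W ⊓ U ≤ Z := fun g hg => by
    have oa := el a (EP ha.1.1) ha.2
    have g1 := mem_centralizer_singleton_iff.1 hg.1.1
    have g2 := mem_centralizer_singleton_iff.1 hg.1.2
    rcases mid (E := zpowers a) (A := centralizer ({g} : Set G) ⊓ E) (P := E)
      (zpowers_le.2 ⟨mem_centralizer_singleton_iff.2 g1.symm, ha.1.1⟩) inf_le_right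
      Nat.prime_three (by rw [Nat.card_zpowers, oa, hE]) with e | e
    · have : b ∈ zpowers a := e ▸ (⟨mem_centralizer_singleton_iff.2 g2.symm, hb.1⟩ :
        b ∈ centralizer ({g} : Set G) ⊓ E)
      exact absurd (zpowers_le.2 ha.1 this) hb.2
    · intro x hx
      have : x ∈ centralizer ({g} : Set G) ⊓ E := e.symm ▸ hx
      exact mem_centralizer_singleton_iff.1 this.1
  have h2 := card_dvd_of_le WZ
  rw [hZ] at h2
  have h4 : Nat.card ↥(W ⊓ U) ∣ 2 := Nat.dvd_gcd (Dvd.intro _ h1) h2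
  have := Nat.le_of_dvd (by norm_num) h4
  nlinarith

end

theorem no1440' {G : Type*} [Group G] [Finite G] (hG : Nat.card G = 95040)
    (h3 : Nat.card {g : G // orderOf g = 3} = 4400)
    (h5 : ∀ x : G, orderOf x = 5 → Nat.card (centralizer ({x} : Set G)) = 10)
    (h11 : ∀ x : G, orderOf x = 11 → Nat.card (centralizer ({x} : Set G)) = 11)
    {t : G} (ht : orderOf t = 2) (hc : Nat.card (centralizer ({t} : Set G)) = 1440) : False := by
  have hq : ∀ x y : G, orderOf x = 5 ∨ orderOf x = 11 → Commute y x → orderOf y ∣ 110 := by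
    intro x y hx hc
    have := Subgroup.orderOf_dvd_natCard _ (mem_centralizer_singleton_iff.2 hc)
    rcases hx with e | e
    · rw [h5 x e] at this; exact this.trans (by norm_num)
    · rw [h11 x e] at this; exact this.trans (by norm_num)
  obtain ⟨E, U, hE, hEt, hU, hUE, h18⟩ := partA ht hc h5
  exact partB hG h3 hq hE hU hUE (cz54 hG hq ht hc hE hEt h18)

theorem no1440 {G : Type*} [Group G] [Finite G] (hG : Nat.card G = 95040)
    (h3 : Nat.card {g : G // orderOf g = 3} = 4400)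
    (h5 : ∀ x : G, orderOf x = 5 → Nat.card (centralizer ({x} : Set G)) = 10)
    (_n5 : Nat.card (Sylow 5 G) = 2376)
    (h11 : ∀ x : G, orderOf x = 11 → Nat.card (centralizer ({x} : Set G)) = 11)
    {t : G} (ht : orderOf t = 2) (hc : Nat.card (centralizer ({t} : Set G)) = 1440) : False :=
  no1440' hG h3 h5 h11 ht hc

end H17.Cf
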