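import Cfsg.Agent.H17.Cs
import Cfsg.Agent.H3.Cs
import Cfsg.Agent.H1.SylNum
import Cfsg.Agent.H1.HallTop
import Cfsg.Agent.H16.QNil
import Cfsg.Agent.S4035
import Cfsg.Agent.S3922

/-! Groups with class sizes `1, m, m n`: general lemmas. -/

set_option autoImplicit false
set_option linter.unusedSectionVars false

open Subgroup Cfsg H1 H16 H16.H11
open scoped commutatorElement

namespace H17.Cm

variable {G : Type*} [Group G] [Finite G] {p q : ℕ}

theorem pn_pow (_hp : p.Prime) {k : ℕ} (hk : k ≠ 0) (h : IsPiNat {p} k) : ∃ j, k = p ^ j :=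
  ⟨_, Nat.eq_prime_pow_of_unique_prime_dvd hk fun hd h1 => h _ hd h1⟩

theorem pe_pow (hp : p.Prime) {x : G} (h : PE[{p}] x) : ∃ j, orderOf x = p ^ j :=
  pn_pow hp (orderOf_pos x).ne' h

theorem pn_of_pow (hp : p.Prime) (j : ℕ) : IsPiNat {p} (p ^ j) := fun _ hr h =>
  (Nat.prime_dvd_prime_iff_eq hr hp).1 (hr.dvd_of_dvd_pow h)

theorem pe_of_pow (hp : p.Prime) {x : G} {j : ℕ} (h : orderOf x = p ^ j) : PE[{p}] x :=
  h ▸ pn_of_pow hp j

theorem pn'_iff (hp : p.Prime) {k : ℕ} : IsPiNat ({p} : Set ℕ)ᶜ k ↔ k.Coprime p :=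
  ⟨fun h => ((pn_of_pow hp 1).coprime h).symm.coprime_dvd_right (by simp), fun h r hr h1 h2 =>
    hr.one_lt.ne' (Nat.eq_one_of_dvd_coprimes h h1 (by rw [Set.mem_singleton_iff.1 h2]))⟩

theorem pe_pg [Fact p.Prime] {x : G} (h : PE[{p}] x) : IsPGroup p (zpowers x) :=
  H15.Cfsg.IsPiSubgroup.isPGroup (pe_zpowers h)

theorem pe_map {G' : Type*} [Group G'] (f : G →* G') {π : Set ℕ} {x : G} (h : PE[π] x) :
    PE[π] (f x) := h.of_dvd (orderOf_map_dvd f x)

theorem pe_of_pg [Fact p.Prime] {P : Subgroup G} (h : IsPGroup p P) {x : G} (hx : x ∈ P) :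
    PE[{p}] x := pe_of_mem (H15.IsPGroup.isPi h) hx

theorem pe'_of_cop (hp : p.Prime) {K : Subgroup G} (h : (Nat.card K).Coprime p) {x : G} (hx : x ∈ K) :
    PE[({p} : Set ℕ)ᶜ] x := (pn'_iff hp).2 (h.coprime_dvd_left (H16.orderOf_dvd_card hx))

/-- `p`-regular class sizes prime to `p` inside `C`. -/
theorem s35 (hp : p.Prime) {C : Subgroup G}
    (h : ∀ x ∈ C, PE[({p} : Set ℕ)ᶜ] x → ¬ p ∣ C1[x].relIndex C) {a b : G} (ha : a ∈ C) (hb : b ∈ C)
    (pa : PE[{p}] a) (pb : PE[({p} : Set ℕ)ᶜ] b) : a ∈ C1[b] := by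
  have : Fact p.Prime := ⟨hp⟩
  obtain ⟨P⟩ : Nonempty (Sylow p C) := inferInstance
  obtain ⟨h1, H, h2, h3, h4, h5⟩ := Cfsg.Agent.S4035.result (G := C) (p := p) (fun x hx => by
    rw [H8.ncard_carrier_mk, H8.index_centralizer_coe]
    exact h x x.2 ((pn'_iff hp).2 (by rwa [orderOf_coe]))) P
  have e1 : (⟨a, ha⟩ : C) ∈ (P : Subgroup C) :=
    H8.mem_sylow_of_mem_normalizer P (by rw [normalizer_eq_top]; trivial)
      (pe_pg (by rwa [← orderOf_coe]))
  have e2 : (⟨b, hb⟩ : C) ∈ H := by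
    obtain ⟨k, hk⟩ := P.isPGroup'.exists_card_eq
    have : H.index ∣ p ^ k := by
      rw [← relIndex_top_right, ← h5, relIndex_sup_right, ← hk]; exact relIndex_dvd_card _ _
    refine H9.mem_of_pow_mem_of_coprime (H.pow_index_mem _) (by rw [pow_orderOf_eq_one]; exact one_mem _) ?_
    rw [← orderOf_coe]
    exact (((pn_of_pow hp k).coprime pb).coprime_dvd_left this)
  have := commute_of_normal_of_disjoint _ _ h1 h2 (disjoint_iff.2 h4) _ _ e1 e2
  exact mem_cent1.2 (congrArg Subtype.val this)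

/-- Thompson's `P × Q` lemma modulo a normal `q'`-subgroup. -/
theorem l4 (hq : q.Prime) {N : Subgroup G} [N.Normal] (hN : (Nat.card N).Coprime q)
    (U : Subgroup (G ⧸ N)) [U.Normal] (hU : IsPGroup q U) {y u : G} (py : PE[{q}] y)
    (pu : PE[({q} : Set ℕ)ᶜ] u) (hc : ∀ c ∈ C1[y], PE[{q}] c → c ∈ C1[u]) :
    (u : G ⧸ N) ∈ C[U] := by
  have : Fact q.Prime := ⟨hq⟩
  let f := QuotientGroup.mk' N
  have key : ∀ c ∈ C1[y], PE[{q}] (f c) → f c ∈ C[zpowers (f u)] := fun c hc1 pc => by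
    obtain ⟨a, ha, b, hb, e, h1, h2⟩ := exists_pi_part {q} c
    have hb1 : f b = 1 := eq_one_of_pe (pe_of_mem_zpowers pc (by
      rw [← MonoidHom.map_zpowers]; exact mem_map_of_mem _ hb)) (pe_map f h2)
    have := mem_cent1.1 (hc a (zpowers_le.2 hc1 ha) h1)
    rw [cent_zpowers, mem_cent1, ← e, map_mul, hb1, mul_one, ← map_mul, this, map_mul]
  have h := thompson_PQ (p := q) (P := zpowers (f y)) (Q := zpowers (f u)) (pe_pg (pe_map f py))
    (by rw [H16.card_zpowers]; exact (pn'_iff hq).1 (pe_map f pu))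
    (zpowers_le.2 (key y (mem_cent1.2 rfl) (pe_map f py))) U hU
    (by rw [normalizer_eq_top]; exact le_top) (by rw [normalizer_eq_top]; exact le_top) (by
      rintro x ⟨hx1, hx2⟩
      rw [← MonoidHom.map_zpowers, ← H1.map_centralizer_mk' N (by
        obtain ⟨j, hj⟩ := pe_pow hq py
        rw [H16.card_zpowers, hj]; exact (hN.symm.pow_left j)) (Or.inl inferInstance)] at hx2
      obtain ⟨c, hc1, rfl⟩ := hx2
      exact key c (by rwa [← cent_zpowers]) (pe_of_pg hU hx1))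
  exact h (mem_zpowers _)

theorem l4' (hq : q.Prime) (U : Subgroup G) [U.Normal] (hU : IsPGroup q U) {y u : G} (py : PE[{q}] y)
    (pu : PE[({q} : Set ℕ)ᶜ] u) (hc : ∀ c ∈ C1[y], PE[{q}] c → c ∈ C1[u]) : u ∈ C[U] := by
  have : Fact q.Prime := ⟨hq⟩
  have h := thompson_PQ (p := q) (P := zpowers y) (Q := zpowers u) (pe_pg py)
    (by rw [H16.card_zpowers]; exact (pn'_iff hq).1 pu)
    (zpowers_le.2 (by rw [cent_zpowers]; exact hc y (mem_cent1.2 rfl) py)) U hU
    (by rw [normalizer_eq_top]; exact le_top) (by rw [normalizer_eq_top]; exact le_top) (by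
      rintro x ⟨hx1, hx2⟩
      rw [cent_zpowers] at hx2 ⊢
      exact hc x hx2 (pe_of_pg hU hx1))
  exact h (mem_zpowers _)

structure Hy (G : Type*) [Group G] (m n : ℕ) : Prop where
  hm : 1 < m
  hn : 1 < n
  cop : m.Coprime n
  cs : ∀ x : G, C1[x].index = 1 ∨ C1[x].index = m ∨ C1[x].index = m * n
  ex1 : ∃ x : G, C1[x].index = m
  ex2 : ∃ x : G, C1[x].index = m * n

variable {m n : ℕ}

namespace Hy

theorem solv (h : Hy G m n) : Group.IsSolvable G :=
  Cfsg.Agent.S3922.result (m * n) m (by have := h.hm; have := h.hn; nlinarith) h.hm h.cs h.ex2 h.ex1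

theorem nc (h : Hy G m n) {x : G} (hx : x ∉ center G) : C1[x].index = m ∨ C1[x].index = m * n :=
  (h.cs x).resolve_left fun e => hx (H8.index_centralizer_eq_one_iff.1 e)

theorem nc1 (h : Hy G m n) {x : G} (hx : C1[x].index = m) : x ∉ center G := fun e =>
  h.hm.ne' (hx.symm.trans (H8.index_centralizer_eq_one_iff.2 e))

theorem nc2 (h : Hy G m n) {x : G} (hx : C1[x].index = m * n) : x ∉ center G := fun e => by
  have := hx.symm.trans (H8.index_centralizer_eq_one_iff.2 e)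
  have := h.hm; have := h.hn; nlinarith

theorem mn (h : Hy G m n) : ¬ m * n ∣ m := fun e => by
  have := Nat.le_of_dvd (by have := h.hm; omega) e
  have := h.hm; have := h.hn; nlinarith

theorem lg (h : Hy G m n) {x : G} (hx : x ∉ center G) (hd : C1[x].index ∣ m) : C1[x].index = m :=
  (h.nc hx).resolve_right fun e => h.mn (e ▸ hd)

theorem mx (h : Hy G m n) {x g : G} (hg : C1[g].index = m * n) (hle : C1[x] ≤ C1[g]) :
    C1[x] = C1[g] := by
  refine H3.Pt.eq_of_index hle ?_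
  have h1 := index_dvd_of_le hle
  rw [hg] at h1 ⊢
  rcases h.cs x with e | e | e
  · exact (h.mn ((e ▸ h1).trans (one_dvd _))).elim
  · exact (h.mn (e ▸ h1)).elim
  · exact e

theorem l1 (h : Hy G m n) {g x : G} (hg : C1[g].index = m * n) (hx : x ∈ C1[g])
    (hc : (orderOf x).Coprime (orderOf g)) : C1[g] ≤ C1[x] := by
  have e := cent1_mul hx hc
  exact (h.mx hg (e.le.trans inf_le_right)).ge.trans (e.le.trans inf_le_left)

theorem rel (h : Hy G m n) {u x : G} (hu : u ∉ center G) (hle : C1[x] ≤ C1[u]) :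
    C1[x].relIndex C1[u] ∣ n := by
  rcases h.nc hu with e | e
  · have h1 := relIndex_mul_index hle
    have hm : 0 < m := by have := h.hm; omega
    rw [e] at h1
    rcases h.cs x with e1 | e1 | e1 <;> rw [e1] at h1
    · exact (h.hm.ne' (Nat.eq_one_of_mul_eq_one_left h1)).elim
    · rw [Nat.eq_of_mul_eq_mul_right hm (h1.trans (one_mul m).symm)]; exact one_dvd _
    · rw [Nat.eq_of_mul_eq_mul_right hm (h1.trans (mul_comm m n))]
  · rw [h.mx e hle, relIndex_self]; exact one_dvd _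

theorem exp (h : Hy G m n) (hp : p.Prime) (hd : p ∣ m) : ∃ v : G, v ∉ center G ∧ PE[{p}] v := by
  obtain ⟨x, hx⟩ := h.ex1
  obtain ⟨v, h1, j, h2⟩ := H3.Pt.exists_nc (G := G) hp
    (hd.trans (hx ▸ index_dvd_of_le (H3.Pt.center_le_C₁ x)))
  exact ⟨v, h1, pe_of_pow hp h2⟩

theorem l2 (h : Hy G m n) (hp : p.Prime) (hd : p ∣ m) {g : G} (hg : g ∉ center G) :
    ∃ v ∈ C1[g], v ∉ center G ∧ PE[{p}] v := by
  obtain ⟨y, hy, py⟩ := h.exp hp hd
  obtain ⟨j, hj⟩ := pe_pow hp py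
  have hc : n.Coprime p := h.cop.symm.coprime_dvd_right hd
  have : ∃ a, C1[g].index * a = C1[y].index * n := by
    rcases h.nc hg with e | e <;> rcases h.nc hy with e' | e' <;> rw [e, e']
    exacts [⟨n, rfl⟩, ⟨n * n, by ring⟩, ⟨1, by ring⟩, ⟨n, rfl⟩]
  obtain ⟨a, ha⟩ := this
  obtain ⟨v, h1, h2, i, h3⟩ := H3.Pt.exists_nc_of_index hp hy hj hc ha
  exact ⟨v, h1, h2, pe_of_pow hp h3⟩

theorem l3 (h : Hy G m n) (hp : p.Prime) (hd : p ∣ m) {u a b : G} (hu : u ∉ center G)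
    (pu : PE[{p}] u) (ha : a ∈ C1[u]) (hb : b ∈ C1[u]) (pa : PE[{p}] a)
    (pb : PE[({p} : Set ℕ)ᶜ] b) : a ∈ C1[b] := by
  refine s35 hp (fun x hx px h1 => ?_) ha hb pa pb
  have e := cent1_mul hx (pu.coprime px).symm
  have := h.rel hu (e.le.trans inf_le_right)
  rw [e, inf_relIndex_right] at this
  exact hp.one_lt.ne' (Nat.eq_one_of_dvd_coprimes h.cop hd (h1.trans this))

theorem l5 (h : Hy G m n) (hp : p.Prime) (hd : p ∣ m) {g : G} (pg : PE[({p} : Set ℕ)ᶜ] g) :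
    g ∈ pPrimeCore p G := by
  have : Fact p.Prime := ⟨hp⟩
  have := h.solv
  have h1 : (g : G ⧸ pPrimeCore p G) ∈ C[pCore p (G ⧸ pPrimeCore p G)] := by
    by_cases hg : g ∈ center G
    · intro x _
      obtain ⟨y, rfl⟩ := QuotientGroup.mk_surjective x
      rw [← QuotientGroup.mk_mul, mem_center_iff.1 hg y, QuotientGroup.mk_mul]
    · obtain ⟨v, h1, h2, h3⟩ := h.l2 hp hd hg
      exact l4 hp (coprime_card_pPrimeCore p) _ (isPGroup_pCore p) h3 pg
        fun c hc pc => h.l3 hp hd h2 h3 hc (cent1_comm.1 h1) pc pg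
  have h2 := H1.centralizer_pCore_le (pPrimeCore_quotient_pPrimeCore p) h1
  exact (QuotientGroup.eq_one_iff g).1
    (eq_one_of_pe (pe_of_pg (isPGroup_pCore p) h2) (pe_map (QuotientGroup.mk' _) pg))

theorem kiff (h : Hy G m n) (hp : p.Prime) (hd : p ∣ m) (g : G) :
    g ∈ pPrimeCore p G ↔ PE[({p} : Set ℕ)ᶜ] g :=
  ⟨pe'_of_cop hp (coprime_card_pPrimeCore p), h.l5 hp hd⟩

theorem kidx (h : Hy G m n) (hp : p.Prime) (hd : p ∣ m) : IsPiNat {p} (pPrimeCore p G).index := by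
  intro r hr h1
  by_contra h2
  obtain ⟨x, -, h3, j, h4⟩ := H3.Pt.exists_noncentral (A := ⊤) (N := pPrimeCore p G) hr (by simpa using h1)
  exact h3 (h.l5 hp hd (pe_mono (pe_of_pow hr h4) fun s _ hs => by
    rw [Set.mem_singleton_iff.1 hs]; exact h2))

theorem mp (h : Hy G m n) (hp : p.Prime) (hd : p ∣ m) : IsPiNat {p} m := by
  intro r hr h1
  by_contra h2
  have : Fact r.Prime := ⟨hr⟩
  obtain ⟨x, hx, px⟩ := h.exp hp hd
  obtain ⟨j, hj⟩ := pe_pow hp px
  obtain ⟨R, hR, hn⟩ := exists_invariant_sylowOf (A := zpowers x) (K := pPrimeCore p G) r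
    (by rw [normalizer_eq_top]; exact le_top)
    (by rw [H16.card_zpowers, hj]; exact (coprime_card_pPrimeCore p).symm.pow_left j)
    (Or.inl inferInstance)
  have hx' : x ∈ pPrimeCore r G := h.l5 hr h1 (pe_mono px fun s _ hs h3 => h2 (by
    rw [← Set.mem_singleton_iff.1 h3]; exact hs))
  have h3 : R ≤ C1[x] := fun a ha => by
    have h4 : a * x * a⁻¹ * x⁻¹ ∈ pPrimeCore r G :=
      mul_mem ((inferInstance : (pPrimeCore r G).Normal).conj_mem x hx' a) (inv_mem hx')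
    have h5 : a * x * a⁻¹ * x⁻¹ ∈ R := by
      rw [show a * x * a⁻¹ * x⁻¹ = a * (x * a⁻¹ * x⁻¹) by group]
      exact mul_mem ha ((mem_normalizer_iff.1 (hn (mem_zpowers x)) _).1 (inv_mem ha))
    have := eq_one_of_pe (pe_of_mem (hl_pi hR) h5) ((h.kiff hr h1 _).1 h4)
    exact mem_cent1.2 (mul_inv_eq_iff_eq_mul.1 (mul_inv_eq_one.1 this))
  have h4 : r ∣ R.index := h1.trans (Dvd.dvd.trans (by
    rcases h.nc hx with e | e <;> rw [e]; exact dvd_mul_right _ _) (index_dvd_of_le h3))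
  rw [← relIndex_mul_index hR.1] at h4
  rcases (Nat.Prime.dvd_mul hr).1 h4 with h5 | h5
  · exact hl_idx hR r hr h5 rfl
  · exact h2 (h.kidx hp hd r hr h5)

end Hy

end H17.Cm
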