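import Cfsg.Agent.H17.Cm1
import Cfsg.Agent.H4.Comm

/-! Groups with class sizes `1, m, m n`: existence of a `p`-element of class size `m`. -/

set_option autoImplicit false
set_option linter.unusedSectionVars false

open Subgroup Cfsg H1 H16 H16.H11
open scoped commutatorElement

namespace H17.Cm

variable {G : Type*} [Group G] [Finite G] {p q : ℕ} {m n : ℕ}

theorem eq_of_rel {A B K : Subgroup G} (h : A ⊓ K ≤ B) (e : A.relIndex K = B.relIndex K) :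
    B ⊓ K ≤ A := by
  have h1 : A ⊓ K = B ⊓ K := H3.Pt.eq_of_index (le_inf h inf_le_right) (by
    rw [← relIndex_mul_index (inf_le_right : A ⊓ K ≤ K), ← relIndex_mul_index (inf_le_right : B ⊓ K ≤ K),
      inf_relIndex_right, inf_relIndex_right, e])
  exact h1.ge.trans inf_le_left

theorem pZ (hp : p.Prime) {x : G} (hx : x ∈ pPrimeCore p G ⊔ center G) (px : PE[{p}] x) :
    x ∈ center G := by
  obtain ⟨k, hk, z, hz, rfl⟩ := mem_sup_of_normal_left.1 hx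
  refine H9.mem_of_pow_mem_of_coprime (m := orderOf k) (n := orderOf (k * z)) ?_
    (by rw [pow_orderOf_eq_one]; exact one_mem _)
    (px.coprime (pe'_of_cop hp (coprime_card_pPrimeCore p) hk)).symm
  rw [(show Commute k z from mem_center_iff.1 hz k).mul_pow, pow_orderOf_eq_one, one_mul]
  exact pow_mem hz _

theorem zle (x : G) : center G ≤ C1[x] := H3.Pt.center_le_C₁ x

namespace Hy

variable (h : Hy G m n) (hp : p.Prime) (hd : p ∣ m)
include h hp hd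

theorem kcop : (Nat.card (pPrimeCore p G)).Coprime m :=
  ((h.mp hp hd).coprime ((pn'_iff hp).2 (coprime_card_pPrimeCore p))).symm

theorem rk {g : G} (hg : C1[g].index ∣ m) : pPrimeCore p G ≤ C1[g] :=
  Cs.le_c1 ((h.kcop hp hd).coprime_dvd_right hg)

theorem rk0 (g : G) :
    C1[g].relIndex (pPrimeCore p G) * (C1[g] ⊔ pPrimeCore p G).index = C1[g].index := by
  rw [← H8.relIndex_sup_normal_eq, relIndex_mul_index le_sup_left]

theorem rk2 {g : G} (hg : C1[g].index = m * n) : C1[g].relIndex (pPrimeCore p G) = n := by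
  have h1 := h.rk0 hp hd g
  rw [hg] at h1
  apply Nat.dvd_antisymm
  · exact ((h.kcop hp hd).coprime_dvd_left (relIndex_dvd_card _ _)).dvd_of_dvd_mul_left ⟨_, h1.symm⟩
  · refine Nat.Coprime.dvd_of_dvd_mul_right ?_ (h1 ▸ dvd_mul_left n m)
    exact (((h.kidx hp hd).of_dvd (index_dvd_of_le le_sup_right)).coprime
      ((pn'_iff hp).2 (h.cop.symm.coprime_dvd_right hd))).symm

theorem rk3 {g : G} (hg : g ∉ center G) (hk : pPrimeCore p G ≤ C1[g]) : C1[g].index = m :=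
  (h.nc hg).resolve_right fun e => h.hn.ne' ((h.rk2 hp hd e).symm.trans (relIndex_eq_one.2 hk))

theorem ix {g : G} (hg : g ∉ center G) : (C1[g] ⊔ pPrimeCore p G).index = m := by
  rcases h.nc hg with e | e
  · rw [sup_of_le_left (h.rk hp hd e.dvd), e]
  · have h1 := h.rk0 hp hd g
    rw [h.rk2 hp hd e, e, mul_comm m] at h1
    exact Nat.eq_of_mul_eq_mul_left (by have := h.hn; omega) h1

theorem cw (N : Subgroup G) [N.Normal] {u : G} (hu : u ∈ N) (h1 : u ∉ center G) (pu : PE[{p}] u) :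
    ∃ w ∈ N, w ∉ center G ∧ PE[{p}] w ∧ ∀ g, w * g * w⁻¹ * g⁻¹ ∈ pPrimeCore p G ⊔ center G := by
  have : Fact p.Prime := ⟨hp⟩
  let f := QuotientGroup.mk' (pPrimeCore p G ⊔ center G)
  have hQ : IsPGroup p (G ⧸ (pPrimeCore p G ⊔ center G)) := by
    obtain ⟨j, hj⟩ := pn_pow hp FiniteIndex.index_ne_zero
      ((h.kidx hp hd).of_dvd (index_dvd_of_le (le_sup_left : _ ≤ pPrimeCore p G ⊔ center G)))
    exact IsPGroup.of_card hj
  have := hQ.isNilpotent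
  have : (N.map f).Normal := Normal.map inferInstance _ (QuotientGroup.mk'_surjective _)
  obtain ⟨⟨y, ⟨x, hx, rfl⟩, h3⟩, h4⟩ := ne_bot_iff_exists_ne_one.1 (H1.inf_center_ne_bot (N.map f) fun e =>
    h1 (pZ hp ((QuotientGroup.eq_one_iff u).1 (mem_bot.1 (e ▸ mem_map_of_mem f hu))) pu))
  obtain ⟨a, ha, b, hb, e, h5, h6⟩ := exists_pi_part {p} x
  have h7 : f a = f x := by
    rw [← e, map_mul, show f b = 1 from (QuotientGroup.eq_one_iff b).2 (mem_sup_left (h.l5 hp hd h6)),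
      mul_one]
  refine ⟨a, zpowers_le.2 hx ha, fun h8 => h4 (Subtype.ext ?_), h5, fun g => ?_⟩
  · exact h7.symm.trans ((QuotientGroup.eq_one_iff a).2 (mem_sup_right h8))
  · refine (QuotientGroup.eq_one_iff _).1 (?_ : f _ = 1)
    simp only [map_mul, map_inv]
    rw [h7, ← mem_center_iff.1 h3]; group

theorem vA (hs : ∀ u : G, PE[{p}] u → C1[u].index ≠ m) :
    ∃ x ∈ pPrimeCore p G ⊓ C[pPrimeCore p G], x ∉ center G ∧ ∃ s, s.Prime ∧ PE[{s}] x := by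
  obtain ⟨x, hx⟩ := h.ex1
  obtain ⟨a, ha, b, hb, e, h1, h2⟩ := exists_pi_part {p} x
  have h3 : a ∈ center G := by
    by_contra h3
    exact hs a h1 (h.lg h3 (hx ▸ H8.index_centralizer_dvd_of_mem_zpowers ha))
  have h4 : C1[b] = C1[x] := by rw [← e, Cs.c1_mul h3]
  have h5 : b ∉ center G := h.nc1 (h4 ▸ hx)
  obtain ⟨k, s, j, hs, h6, h7⟩ := H3.Pt.exists_prim h5
  exact ⟨b ^ k, pow_mem (show b ∈ pPrimeCore p G ⊓ C[pPrimeCore p G] from
    ⟨h.l5 hp hd h2, le_cent1.1 (h.rk hp hd (h4 ▸ hx.dvd))⟩) k, h7, s, hs, pe_of_pow hs h6⟩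

theorem vB (hs : ∀ u : G, PE[{p}] u → C1[u].index ≠ m) {u : G} (hu : u ∉ center G) (pu : PE[{p}] u) :
    ∃ d ∈ pPrimeCore p G ⊓ C1[u], d ∉ center G ∧ ∃ s, s.Prime ∧ PE[{s}] d := by
  obtain ⟨x, hx, h1, -⟩ := h.vA hp hd hs
  obtain ⟨v, h2, h3, h4⟩ := h.l2 hp hd h1
  have : ∃ d ∈ pPrimeCore p G ⊓ C1[u], d ∉ center G := by
    by_contra h5
    push Not at h5
    refine h1 (h5 x ⟨hx.1, eq_of_rel (A := C1[u]) (B := C1[v]) (K := pPrimeCore p G)
      (fun y hy => zle v (h5 y ⟨hy.2, hy.1⟩)) ?_ ⟨cent1_comm.1 h2, hx.1⟩⟩)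
    rw [h.rk2 hp hd ((h.nc hu).resolve_left (hs u pu)), h.rk2 hp hd ((h.nc h3).resolve_left (hs v h4))]
  obtain ⟨d, h5, h6⟩ := this
  obtain ⟨k, s, j, hs, h7, h8⟩ := H3.Pt.exists_prim h6
  exact ⟨d ^ k, pow_mem h5 k, h8, s, hs, pe_of_pow hs h7⟩

theorem vC (hs : ∀ u : G, PE[{p}] u → C1[u].index ≠ m) {u : G} (hu : u ∉ center G) (pu : PE[{p}] u) :
    ∃ x ∈ pPrimeCore p G ⊓ C[pPrimeCore p G], x ∉ center G ∧ x ∈ C1[u] := by
  obtain ⟨d, ⟨h1, h2⟩, h3, s, hs1, h4⟩ := h.vB hp hd hs hu pu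
  rcases h.nc h3 with e | e
  · exact ⟨d, ⟨h1, le_cent1.1 (h.rk hp hd e.dvd)⟩, h3, h2⟩
  obtain ⟨x, hx, h5, r, hr, h6⟩ := h.vA hp hd hs
  refine ⟨x, hx, h5, ?_⟩
  have pd := (h.kiff hp hd d).1 h1
  by_cases hrs : r = s
  · subst hrs
    have : Fact r.Prime := ⟨hr⟩
    have hV := comm_center (pPrimeCore p G)
    have hn : (Op[{r}] (pPrimeCore p G ⊓ C[pPrimeCore p G])).Normal := normalizer_eq_top_iff.1
      (top_le_iff.1 (H15.le_norm_piCoreOf _ (by rw [normalizer_eq_top])))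
    have hrp : r ≠ p := by
      rintro rfl
      exact h3 (eq_one_of_pe h4 pd ▸ one_mem _)
    have := l4' hr (Op[{r}] (pPrimeCore p G ⊓ C[pPrimeCore p G]))
      (H15.Cfsg.IsPiSubgroup.isPGroup (H15.isPi_piCoreOf _ _)) h4
      (pe_mono pu fun t _ ht h7 => hrp (h7.symm.trans ht))
      fun c hc _ => h.l1 e (cent1_comm.1 h2) (pu.coprime pd) hc
    exact mem_cent1.2 (this x (H15.le_piCoreOf_of_nilpotent (H15.nilpotent_of_comm hV)
      (zpowers_le.2 hx) (pe_zpowers h6) (mem_zpowers x)))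
  · exact cent1_comm.1 (h.l1 e (mem_cent1.2 (hx.2 d h1).symm)
      (coprime_of_isPiNat_singleton hrs h6 h4) (cent1_comm.1 h2))

theorem vD (hs : ∀ u : G, PE[{p}] u → C1[u].index ≠ m) {w : G} (hw : w ∉ center G) (pw : PE[{p}] w)
    (hc : ∀ g, w * g * w⁻¹ * g⁻¹ ∈ pPrimeCore p G ⊔ center G) :
    pPrimeCore p G ⊓ C[pPrimeCore p G] ≤ C1[w] := by
  have hV := comm_center (pPrimeCore p G)
  have hVK : ∀ y ∈ pPrimeCore p G ⊓ C[pPrimeCore p G], pPrimeCore p G ≤ C1[y] :=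
    fun y hy => le_cent1.2 hy.2
  have hKZ : pPrimeCore p G ⊔ center G ≤ C[(pPrimeCore p G ⊓ C[pPrimeCore p G] : Subgroup G)] :=
    sup_le (cent_symm inf_le_right) (center_le_centralizer _)
  have hi := cop_abel_inf (A := zpowers w) hV (by rw [normalizer_eq_top]; exact le_top)
    (by rw [H16.card_zpowers]
        exact pw.coprime ((pn'_iff hp).2 ((coprime_card_pPrimeCore p).coprime_dvd_left
          (card_dvd inf_le_left))))
  rw [cent_zpowers] at hi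
  obtain ⟨x, hx, h1, h2⟩ := h.vC hp hd hs hw pw
  have hn : (pPrimeCore p G ⊓ C[pPrimeCore p G]).Normal := inferInstance
  generalize pPrimeCore p G ⊓ C[pPrimeCore p G] = V at *
  intro v hv
  have hk : ∀ y ∈ V, ⁅y, w⁆ ∈ ⁅V, zpowers w⁆ := fun y hy => commutator_mem_commutator hy (mem_zpowers w)
  have hBV : ⁅V, zpowers w⁆ ≤ V := H16.comm_le_left (by rw [normalizer_eq_top]; exact le_top)
  have act : ∀ g, ∀ y ∈ V, w * (g * y * g⁻¹) * w⁻¹ = g * (w * y * w⁻¹) * g⁻¹ := fun g y hy => by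
    have := hKZ (hc g) _ (hn.conj_mem _ (hn.conj_mem _ hy w) g)
    calc _ = w * g * w⁻¹ * g⁻¹ * (g * (w * y * w⁻¹) * g⁻¹) * (w * g * w⁻¹ * g⁻¹)⁻¹ := by group
      _ = _ := by rw [← this]; group
  have h3 : C1[x * ⁅v, w⁆] ≤ C1[x] := fun g hg => by
    have a1 : g * x * g⁻¹ ∈ C1[w] := by
      have := act g x hx
      rw [← mem_cent1.1 h2, mul_inv_cancel_right] at this
      exact mem_cent1.2 (mul_inv_eq_iff_eq_mul.1 this).symm
    have a2 : g * ⁅v, w⁆ * g⁻¹ = ⁅g * v * g⁻¹, w⁆ := by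
      have := act g v⁻¹ (inv_mem hv)
      simp only [commutatorElement_def]
      calc _ = g * v * g⁻¹ * (g * (w * v⁻¹ * w⁻¹) * g⁻¹) := by group
        _ = _ := by rw [← this]; group
    have a3 : x⁻¹ * (g * x * g⁻¹) = ⁅v, w⁆ * (g * ⁅v, w⁆ * g⁻¹)⁻¹ := by
      have := mem_cent1.1 hg
      calc _ = x⁻¹ * (g * (x * ⁅v, w⁆)) * (⁅v, w⁆⁻¹ * g⁻¹) := by group
        _ = _ := by rw [this]; group
    have a4 : x⁻¹ * (g * x * g⁻¹) ∈ ⁅V, zpowers w⁆ ⊓ C1[w] :=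
      mem_inf.2 ⟨by rw [a3, a2]; exact mul_mem (hk v hv) (inv_mem (hk _ (hn.conj_mem _ hv g))),
        mul_mem (inv_mem h2) a1⟩
    rw [hi, mem_bot, inv_mul_eq_one] at a4
    exact mem_cent1.2 (mul_inv_eq_iff_eq_mul.1 a4.symm)
  have h4 : x * ⁅v, w⁆ ∉ center G := fun e => h1 (mem_center_iff.2 fun g =>
    mem_cent1.1 (h3 (mem_cent1.2 (mem_center_iff.1 e g))))
  have h5 := H3.Pt.eq_of_index h3
    ((h.rk3 hp hd h4 (hVK _ (mul_mem hx (hBV (hk v hv))))).trans (h.rk3 hp hd h1 (hVK _ hx)).symm)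
  have h6 : ⁅v, w⁆ ∈ ⁅V, zpowers w⁆ ⊓ C1[w] := ⟨hk v hv, by
    have := mul_mem (inv_mem h2) (cent1_comm.1 (h5.ge (cent1_comm.1 h2)))
    rwa [inv_mul_cancel_left] at this⟩
  rw [hi, mem_bot, commutatorElement_eq_one_iff_mul_comm] at h6
  exact mem_cent1.2 h6

theorem big : ∃ u : G, PE[{p}] u ∧ C1[u].index = m := by
  by_contra hs
  push Not at hs
  obtain ⟨u, h1, h2⟩ := h.exp hp hd
  obtain ⟨w, -, hw, pw, hc⟩ := h.cw hp hd ⊤ (mem_top u) h1 h2
  have h3 : C1[w] ⊔ pPrimeCore p G = ⊤ := by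
    rw [eq_top_iff]
    intro g _
    obtain ⟨a, -, b, -, rfl, h4, h5⟩ := exists_pi_part {p} g
    refine mul_mem ?_ (mem_sup_right (h.l5 hp hd h5))
    by_cases ha : a ∈ center G
    · exact mem_sup_left (zle w ha)
    obtain ⟨x, hx, h6, h7⟩ := h.vC hp hd hs ha h4
    have h8 : C1[w] ⊔ pPrimeCore p G = C1[x] := H3.Pt.eq_of_index (sup_le
      (h.l1 ((h.nc hw).resolve_left (hs w pw)) (h.vD hp hd hs hw pw hc hx)
        (pw.coprime ((h.kiff hp hd x).1 hx.1)).symm) (le_cent1.2 hx.2))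
      ((h.ix hp hd hw).trans (h.rk3 hp hd h6 (le_cent1.2 hx.2)).symm)
    exact h8.ge (cent1_comm.1 h7)
  have := h.ix hp hd hw
  rw [h3, index_top] at this
  exact h.hm.ne this

end Hy

end H17.Cm
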