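import Cfsg.Agent.H17.Cm2
import Cfsg.Agent.S3807

/-! Groups with class sizes `1, m, m n`: the structure. -/

set_option autoImplicit false
set_option linter.unusedSectionVars false

open Subgroup Cfsg H1 H16 H16.H11
open scoped commutatorElement

namespace H17.Cm

variable {G : Type*} [Group G] [Finite G] {p q : ℕ} {m n : ℕ}

namespace Hy

variable (h : Hy G m n) (hp : p.Prime) (hd : p ∣ m)
include h hp hd

theorem km {k u : G} (hk : k ∈ pPrimeCore p G) (h1 : k ∉ center G) (pu : PE[{p}] u)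
    (hu : C1[u].index = m) : C1[u] = C1[k] ⊔ pPrimeCore p G := by
  refine H3.Pt.eq_of_index (fun c hc => ?_) (hu.trans (h.ix hp hd h1).symm)
  obtain ⟨a, ha, b, -, rfl, h2, h3⟩ := exists_pi_part {p} c
  exact mul_mem (mem_sup_left (h.l3 hp hd (h.nc1 hu) pu (zpowers_le.2 hc ha) (h.rk hp hd hu.dvd hk) h2
    ((h.kiff hp hd k).1 hk))) (mem_sup_right (h.l5 hp hd h3))

theorem exk : ∃ k ∈ pPrimeCore p G, k ∉ center G := by
  obtain ⟨y, hy⟩ := h.ex2
  by_contra h1
  push Not at h1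
  exact h.hn.ne' ((h.rk2 hp hd hy).symm.trans (relIndex_eq_one.2 fun k hk => zle y (h1 k hk)))

variable {u : G} (pu : PE[{p}] u) (hu : C1[u].index = m)
include pu hu

theorem ce {v : G} (pv : PE[{p}] v) (hv : C1[v].index = m) : C1[v] = C1[u] := by
  obtain ⟨k, h1, h2⟩ := h.exk hp hd
  rw [h.km hp hd h1 h2 pv hv, h.km hp hd h1 h2 pu hu]

theorem nm : C1[u].Normal := ⟨fun x hx g => by
  rw [← h.ce hp hd pu hu (pe_cj pu g) ((H8.index_centralizer_conj u g).trans hu), mem_cent1]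
  have := mem_cent1.1 hx
  calc _ = g * (x * u) * g⁻¹ := by group
    _ = _ := by rw [this]; group⟩

theorem fz {v k : G} (hv : v ∉ C1[u]) (hk : k ∈ pPrimeCore p G) (h1 : k ∈ C1[v]) : k ∈ center G := by
  by_contra h2
  exact hv ((h.km hp hd hk h2 pu hu).ge (mem_sup_left (cent1_comm.1 h1)))

theorem sm {v : G} (hv : v ∉ C1[u]) (pv : PE[{p}] v) : C1[v].index = m * n :=
  (h.nc fun e => hv (zle u e)).resolve_left fun e => hv ((h.ce hp hd pu hu pv e).le (cent1_self v))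

theorem exv : ∃ v, v ∉ C1[u] ∧ PE[{p}] v := by
  by_contra h1
  push Not at h1
  refine h.hm.ne' (hu.symm.trans (index_eq_one.2 (eq_top_iff.2 fun g _ => ?_)))
  obtain ⟨a, -, b, -, rfl, h2, h3⟩ := exists_pi_part {p} g
  exact mul_mem (by by_contra h4; exact h1 a h4 h2) (h.rk hp hd hu.dvd (h.l5 hp hd h3))

theorem kab {k : G} (hk : k ∈ pPrimeCore p G) : C1[u] ≤ C1[k] := by
  by_cases h1 : k ∈ center G
  · exact fun g _ => mem_cent1.2 (mem_center_iff.1 h1 g)
  rcases h.nc h1 with e | e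
  · rw [h.km hp hd hk h1 pu hu, sup_of_le_left (h.rk hp hd e.dvd)]
  · obtain ⟨v, h2, h3⟩ := h.exv hp hd pu hu
    refine (h1 (h.fz hp hd pu hu h2 hk (eq_of_rel (A := C1[v]) (B := C1[k]) (K := pPrimeCore p G)
      (fun y hy => zle k (h.fz hp hd pu hu h2 hy.2 hy.1)) ?_ ⟨cent1_self k, hk⟩))).elim
    rw [h.rk2 hp hd e, h.rk2 hp hd (h.sm hp hd pu hu h2 h3)]

theorem pab {a : G} (ha : a ∈ C1[u]) (pa : PE[{p}] a) : C1[u] ≤ C1[a] := by
  by_cases h1 : a ∈ center G
  · exact fun g _ => mem_cent1.2 (mem_center_iff.1 h1 g)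
  exact (h.ce hp hd pu hu pa (h.rk3 hp hd h1 fun k hk =>
    cent1_comm.1 (h.kab hp hd pu hu hk ha))).ge

theorem mab {g : G} (hg : g ∈ C1[u]) : C1[u] ≤ C1[g] := by
  obtain ⟨a, ha, b, -, rfl, h2, h3⟩ := exists_pi_part {p} g
  intro x hx
  exact cent1_comm.1 (mul_mem (cent1_comm.1 (h.pab hp hd pu hu (zpowers_le.2 hg ha) h2 hx))
    (cent1_comm.1 (h.kab hp hd pu hu (h.l5 hp hd h3) hx)))

theorem mcomm : IsMulCommutative C1[u] := comm_iff.2 fun _ ha => le_cent1.1 (h.mab hp hd pu hu ha)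

theorem pin {a : G} (pa : PE[{p}] a) (ha : C1[a].index ∣ m) : a ∈ C1[u] := by
  by_contra h1
  exact h.mn (h.sm hp hd pu hu h1 pa ▸ ha)

theorem mset (x : G) : x ∈ C1[u] ↔ C1[x].index = 1 ∨ C1[x].index = m := by
  constructor
  · intro hx
    rcases h.cs x with e | e | e
    exacts [Or.inl e, Or.inr e, (h.mn (e ▸ hu ▸ index_dvd_of_le (h.mab hp hd pu hu hx))).elim]
  · intro hx
    have h1 : C1[x].index ∣ m := by rcases hx with e | e <;> simp [e]
    obtain ⟨a, ha, b, -, e, h2, h3⟩ := exists_pi_part {p} x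
    rw [← e]
    exact mul_mem (h.pin hp hd pu hu h2 ((H8.index_centralizer_dvd_of_mem_zpowers ha).trans h1))
      (h.rk hp hd hu.dvd (h.l5 hp hd h3))

theorem pco {a : G} (ha : a ∈ C1[u]) (pa : PE[{p}] a) : a ∈ pCore p G := by
  have : Fact p.Prime := ⟨hp⟩
  obtain ⟨j, hj⟩ := pn_pow hp FiniteIndex.index_ne_zero
    ((h.mp hp hd).of_dvd (hu ▸ index_dvd_of_le (h.mab hp hd pu hu ha)))
  exact H8.mem_pCore_of_index_pow (pe_pg pa) hj

theorem cop' : pCore p G ≤ C1[u] := fun a ha => by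
  have : Fact p.Prime := ⟨hp⟩
  by_contra h1
  refine h.hn.ne' ((h.rk2 hp hd (h.sm hp hd pu hu h1 (pe_of_pg (isPGroup_pCore p) ha))).symm.trans
    (relIndex_eq_one.2 ((pPrimeCore_le_centralizer_pCore p).trans (cent_le_cent1 ha))))

theorem eab : (∀ g : G, g ^ p ∈ C1[u]) ∧ ∀ x y : G, x * y * x⁻¹ * y⁻¹ ∈ C1[u] := by
  have : Fact p.Prime := ⟨hp⟩
  obtain ⟨w, h1, h2, h3, h4⟩ := h.cw hp hd (pCore p G) (h.pco hp hd pu hu (cent1_self u) pu)
    (h.nc1 hu) pu
  have h5 : w ∈ Subgroup.upperCentralSeries G 2 := by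
    rw [Subgroup.mem_upperCentralSeries_succ_iff]
    intro g
    rw [Subgroup.upperCentralSeries_one]
    refine pZ hp (h4 g) (pe_of_pg (isPGroup_pCore p) ?_)
    rw [commutatorElement_def, show w * g * w⁻¹ * g⁻¹ = w * (g * w⁻¹ * g⁻¹) by group]
    exact mul_mem h1 ((inferInstance : (pCore p G).Normal).conj_mem _ (inv_mem h1) g)
  obtain ⟨i, hi⟩ := pe_pow hp h3
  obtain ⟨j, h6, h7⟩ := H8.exists_pow_not_mem_pow_mem' (p := p) (k := i) h2
    (by rw [← hi, pow_orderOf_eq_one]; exact one_mem _)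
  have h8 := pow_mem h5 (p ^ j)
  have h9 := pow_mem h1 (p ^ j)
  generalize w ^ p ^ j = z at h6 h7 h8 h9
  rw [Subgroup.mem_upperCentralSeries_succ_iff, Subgroup.upperCentralSeries_one] at h8
  have e : C1[z] = C1[u] := h.ce hp hd pu hu (pe_of_pg (isPGroup_pCore p) h9)
    (h.rk3 hp hd h6 ((pPrimeCore_le_centralizer_pCore p).trans (cent_le_cent1 h9)))
  let φ : G →* G := MonoidHom.mk' (fun g => z * g * z⁻¹ * g⁻¹) fun a b => by
    have := mem_center_iff.1 (h8 b) a⁻¹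
    rw [commutatorElement_def] at this
    calc _ = z * a * z⁻¹ * (z * b * z⁻¹ * b⁻¹ * a⁻¹) := by group
      _ = _ := by rw [← this]; group
  have k : ∀ g, φ g = 1 → g ∈ C1[u] := fun g hg => by
    rw [← e, mem_cent1]
    exact (mul_inv_eq_iff_eq_mul.1 (mul_inv_eq_one.1 hg)).symm
  refine ⟨fun g => k _ ?_, fun x y => k _ ?_⟩
  · rw [map_pow]
    have c : Commute (φ g) (g * z * g⁻¹) := (mem_center_iff.1 (h8 g) _).symm
    have := c.mul_pow p
    rw [show φ g * (g * z * g⁻¹) = z by change z * g * z⁻¹ * g⁻¹ * _ = _; group, conj_pow,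
      mem_center_iff.1 h7 g, mul_inv_cancel_right] at this
    exact (mul_eq_right.1 this.symm)
  · rw [map_mul, map_mul, map_mul, map_inv, map_inv, show φ x * φ y = φ y * φ x from
      mem_center_iff.1 (h8 y) _]
    group

theorem gen (P : Sylow p G) (g : G) : ∃ a ∈ C1[u], ∃ b ∈ (P : Subgroup G), g = a * b := by
  have : Fact p.Prime := ⟨hp⟩
  exact Cs.prod (hu ▸ (h.mp hp hd).coprime ((pn'_iff hp).2
    ((hp.coprime_iff_not_dvd.2 P.not_dvd_index).symm))) g

theorem cyc (P : Sylow p G) : IsCyclic ((P : Subgroup G).map (QuotientGroup.mk' (pCore p G))) := by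
  have : Fact p.Prime := ⟨hp⟩
  by_contra hc
  let f := QuotientGroup.mk' (pCore p G)
  have : ((pPrimeCore p G).map f).Normal := Normal.map inferInstance _ (QuotientGroup.mk'_surjective _)
  have := cop_gen_cent1 (K := (pPrimeCore p G).map f) (H := (center G).map f) (comm_iff.2 (by
      rintro _ ⟨x, hx, rfl⟩ _ ⟨y, hy, rfl⟩
      have : f (y * x * y⁻¹ * x⁻¹) = 1 := (QuotientGroup.eq_one_iff _).2 (h.pco hp hd pu hu
        ((h.eab hp hd pu hu).2 y x) (pe_of_pg P.isPGroup'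
          (mul_mem (mul_mem (mul_mem hy hx) (inv_mem hy)) (inv_mem hx))))
      simp only [map_mul, map_inv] at this
      exact mul_inv_eq_iff_eq_mul.1 (mul_inv_eq_one.1 this))) hc
    (by rw [normalizer_eq_top]; exact le_top)
    (H15.Cfsg.IsPiSubgroup.coprime (H15.IsPGroup.isPi (P.isPGroup'.map f))
      (H15.Cfsg.IsPiSubgroup.map (H15.isPi_compl_of_coprime (coprime_card_pPrimeCore p)) f)) (by
      rintro _ ⟨a, ha, rfl⟩ h1 _ ⟨⟨k, hk, rfl⟩, h2⟩
      refine mem_map_of_mem f (h.fz hp hd pu hu (v := a) (fun h3 => h1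
        ((QuotientGroup.eq_one_iff _).2 (h.pco hp hd pu hu h3 (pe_of_pg P.isPGroup' ha)))) hk ?_)
      have h3 : k * a * k⁻¹ * a⁻¹ ∈ pCore p G ⊓ pPrimeCore p G := mem_inf.2 ⟨by
        refine (QuotientGroup.eq_one_iff _).1 (?_ : f _ = 1)
        simp only [map_mul, map_inv]
        rw [show f k * f a = f a * f k from mem_cent1.1 h2]; group, by
        rw [show k * a * k⁻¹ * a⁻¹ = k * (a * k⁻¹ * a⁻¹) by group]
        exact mul_mem hk ((inferInstance : (pPrimeCore p G).Normal).conj_mem _ (inv_mem hk) a)⟩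
      rw [pCore_inf_pPrimeCore, mem_bot] at h3
      exact mem_cent1.2 (mul_inv_eq_iff_eq_mul.1 (mul_inv_eq_one.1 h3)))
  obtain ⟨k, h1, h2⟩ := h.exk hp hd
  obtain ⟨z, hz, e⟩ := this (mem_map_of_mem f h1)
  have h3 := pZ hp (mul_mem (inv_mem (mem_sup_right hz)) (mem_sup_left h1))
    (pe_of_pg (isPGroup_pCore p) (QuotientGroup.eq.1 e))
  exact h2 (by simpa using mul_mem hz h3)

theorem meq : m = p := by
  have : Fact p.Prime := ⟨hp⟩
  obtain ⟨P⟩ : Nonempty (Sylow p G) := inferInstance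
  have := h.nm hp hd pu hu
  obtain ⟨⟨_, a, ha, rfl⟩, h1⟩ := (h.cyc hp hd pu hu P).exists_zpow_surjective
  have h2 : ∀ x : G ⧸ C1[u], x ∈ zpowers (a : G ⧸ C1[u]) := fun x => by
    obtain ⟨g, rfl⟩ := QuotientGroup.mk_surjective x
    obtain ⟨b, hb, c, hc, rfl⟩ := h.gen hp hd pu hu P g
    obtain ⟨j, hj⟩ := h1 ⟨_, c, hc, rfl⟩
    refine ⟨j, ?_⟩
    have := h.cop' hp hd pu hu (QuotientGroup.eq.1 (congrArg Subtype.val hj : ((a ^ j : G) : G ⧸ pCore p G) = c))
    rw [QuotientGroup.mk_mul, (QuotientGroup.eq_one_iff b).2 hb, one_mul]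
    exact QuotientGroup.eq.2 this
  have h3 : m ∣ p := by
    rw [← hu, index_eq_card, ← orderOf_eq_card_of_forall_mem_zpowers h2]
    exact orderOf_dvd_of_pow_eq_one ((QuotientGroup.eq_one_iff _).2 ((h.eab hp hd pu hu).1 a))
  exact Nat.dvd_antisymm h3 hd

theorem dn : p ∣ n - 1 := by
  have : Fact p.Prime := ⟨hp⟩
  obtain ⟨v, h1, h2⟩ := h.exv hp hd pu hu
  have := relIndex_centralizer_modEq_one (Q := pPrimeCore p G) (pe_pg h2)
    (by rw [normalizer_eq_top]; exact le_top) (coprime_card_pPrimeCore p)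
  rw [cent_zpowers, h.rk2 hp hd (h.sm hp hd pu hu h1 h2)] at this
  exact (Nat.modEq_iff_dvd' h.hn.le).1 this.symm

theorem der (P : Sylow p G) : Nat.card (commutator (P : Subgroup G)) = p := by
  have : Fact p.Prime := ⟨hp⟩
  have hm := h.meq hp hd pu hu
  obtain ⟨v, h1, h2⟩ : ∃ v ∈ (P : Subgroup G), v ∉ C1[u] := by
    by_contra h1
    push Not at h1
    obtain ⟨v, h2, -⟩ := h.exv hp hd pu hu
    obtain ⟨a, ha, b, hb, rfl⟩ := h.gen hp hd pu hu P v
    exact h2 (mul_mem ha (h1 b hb))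
  have hP : pCore p G ≤ P := pCore_le_sylow P
  have hna : ¬ IsMulCommutative (P : Subgroup G) := fun hc =>
    h2 (cent_le_cent1 (hP (h.pco hp hd pu hu (cent1_self u) pu)) (comm_iff.1 hc h1))
  have e : C1[u].relIndex P = p := by
    rw [Cs.relIdx (hu ▸ (h.mp hp hd).coprime ((pn'_iff hp).2
      ((hp.coprime_iff_not_dvd.2 P.not_dvd_index).symm))), hu, hm]
  have := h.mcomm hp hd pu hu
  have h3 := (Cfsg.Agent.S3807.result p P.isPGroup' hna (C1[u].subgroupOf P) inferInstance e).1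
  have h4 : (C1[v] ⊓ pCore p G).subgroupOf P ≤ center P := fun x hx => by
    have : (x : G) ∈ center G := by
      by_contra h5
      exact h2 ((h.ce hp hd pu hu (pe_of_pg P.isPGroup' x.2) (h.rk3 hp hd h5
        ((pPrimeCore_le_centralizer_pCore p).trans (cent_le_cent1 hx.2)))).le (cent1_comm.1 hx.1))
    exact mem_center_iff.2 fun g => Subtype.ext (mem_center_iff.1 this g)
  have h5 : (pCore p G).relIndex P = p := by
    refine Eq.trans ?_ e
    rw [← inf_relIndex_right C1[u]]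
    congr 1
    exact le_antisymm (le_inf (h.cop' hp hd pu hu) hP)
      fun x hx => h.pco hp hd pu hu hx.1 (pe_of_pg P.isPGroup' hx.2)
  have h6 : C1[v].relIndex (pCore p G) ∣ p := by
    have h7 := H8.relIndex_dvd_index_of_normal' C1[v] (pCore p G)
    rw [h.sm hp hd pu hu h2 (pe_of_pg P.isPGroup' h1), hm] at h7
    exact (((H15.Cfsg.IsPiSubgroup.relIndex (H15.IsPGroup.isPi (isPGroup_pCore p)) _).coprime
      ((pn'_iff hp).2 (h.cop.symm.coprime_dvd_right hd)))).dvd_of_dvd_mul_right h7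
  have h7 := index_dvd_of_le h4
  rw [h3, ← relIndex, ← relIndex_mul_relIndex _ _ _ inf_le_right hP, inf_relIndex_right, h5,
    mul_comm] at h7
  refine ((Nat.dvd_prime hp).1 ((Nat.dvd_of_mul_dvd_mul_right hp.pos h7).trans h6)).resolve_left
    fun h8 => hna ⟨⟨fun x y => ?_⟩⟩
  have : ⁅x, y⁆ ∈ commutator (P : Subgroup G) := commutator_mem_commutator (mem_top x) (mem_top y)
  rw [card_eq_one.1 h8, mem_bot] at this
  exact commutatorElement_eq_one_iff_mul_comm.1 this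

end Hy

end H17.Cm
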