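import Cfsg.Agent.H17.Cm2
import Cfsg.Agent.H3.Cs3

/-! Groups with class sizes `1, m, n, m n`: reduction to two primes. -/

set_option autoImplicit false
set_option linter.unusedSectionVars false

open Subgroup Cfsg H1 H16 H16.H11 H17.Cm
open scoped commutatorElement

namespace H17.Cn

variable {G : Type*} [Group G] [Finite G] {p q r s t : ℕ}

theorem into (hq : q.Prime) {A B : Subgroup G} (h : ¬ q ∣ A.relIndex B) {a : G} (ha : a ∈ B)
    (pa : PE[{q}] a) : ∃ d ∈ B, d * a * d⁻¹ ∈ A := by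
  have : Fact q.Prime := ⟨hq⟩
  obtain ⟨P, hP⟩ := sy_exists q (A ⊓ B)
  obtain ⟨g, hg, h1⟩ := sy_conj_le (hl_of_idx hP inf_le_right (by
    rw [inf_relIndex_right]; exact (pn'_iff hq).2 (hq.coprime_iff_not_dvd.2 h).symm))
    (zpowers_le.2 ha) (pe_zpowers pa)
  exact ⟨g, hg, (hP.1 (h1 (cj_mem (mem_zpowers a)))).1⟩

theorem into' (hq : q.Prime) {A : Subgroup G} (h : ¬ q ∣ A.index) {a : G} (pa : PE[{q}] a) :
    ∃ d, d * a * d⁻¹ ∈ A := by
  obtain ⟨d, -, h1⟩ := into hq (A := A) (B := ⊤) (by simpa using h) (mem_top a) pa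
  exact ⟨d, h1⟩

theorem ndvd (hq : q.Prime) {A B : Subgroup G} (h : ∀ u ∈ B, PE[{q}] u → u ∈ A) :
    ¬ q ∣ A.relIndex B := fun h1 => by
  obtain ⟨x, h2, h3, j, h4⟩ := H3.Pt.exists_noncentral hq h1
  exact h3 (h x h2 (pe_of_pow hq h4))

theorem ncx (ht : t.Prime) {x y g : G} (hx : x ∈ C1[y]) (h1 : x ∉ center G) (px : PE[{t}] x)
    {α β : ℕ} (hβ : β.Coprime t) (e : C1[g].index * α = C1[y].index * β) :
    ∃ v ∈ C1[g], v ∉ center G ∧ PE[{t}] v := by
  obtain ⟨j, hj⟩ := pe_pow ht px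
  have h2 := H3.Pt.dvd_relIndex ht hx h1 hj
  have h3 := relIndex_mul_index (zle y)
  rw [← relIndex_mul_index (zle g)] at h3
  have h5 : (center G).relIndex C1[g] * β = (center G).relIndex C1[y] * α → t ∣ (center G).relIndex C1[g] :=
    fun e' => hβ.symm.dvd_of_dvd_mul_right (e' ▸ h2.mul_right α)
  obtain ⟨v, h6, h7, i, h8⟩ := H3.Pt.exists_noncentral ht (h5 (by
    refine Nat.eq_of_mul_eq_mul_right (H8.index_centralizer_pos y) ?_
    calc _ = (center G).relIndex C1[g] * (C1[y].index * β) := by ring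
      _ = (center G).relIndex C1[g] * C1[g].index * α := by rw [← e]; ring
      _ = _ := by rw [← h3]; ring))
  exact ⟨v, h6, h7, pe_of_pow ht h8⟩

theorem tr (hq : q.Prime) {A B : Subgroup G} (h : ∀ g ∈ A, PE[{q}] g → g ∈ B) {α β : ℕ}
    (hβ : β.Coprime q) (e : A.index * α = B.index * β) : ¬ q ∣ A.relIndex B := fun h1 => by
  have h2 := relIndex_mul_index (inf_le_left : A ⊓ B ≤ A)
  rw [← relIndex_mul_index (inf_le_right : A ⊓ B ≤ B), inf_relIndex_left, inf_relIndex_right] at h2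
  have h3 : B.relIndex A * β = A.relIndex B * α := by
    refine Nat.eq_of_mul_eq_mul_right (Nat.pos_of_ne_zero (FiniteIndex.index_ne_zero (H := B))) ?_
    calc _ = B.relIndex A * (B.index * β) := by ring
      _ = B.relIndex A * A.index * α := by rw [← e]; ring
      _ = _ := by rw [h2]; ring
  exact ndvd hq h (hβ.symm.dvd_of_dvd_mul_right (h3 ▸ h1.mul_right α))

theorem nz_cj {x : G} (h : x ∉ center G) (g : G) : g * x * g⁻¹ ∉ center G := fun e =>
  h (by simpa [mul_assoc] using Normal.conj_mem inferInstance _ e g⁻¹)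

theorem c1_cj {x y : G} (h : x ∈ C1[y]) (g : G) : g * x * g⁻¹ ∈ C1[g * y * g⁻¹] := by
  rw [cent1_cj]; exact cj_mem h

theorem prim {x : G} {H : Subgroup G} (hx : x ∉ H) :
    ∃ y ∈ zpowers x, y ∉ H ∧ ∃ s, s.Prime ∧ PE[{s}] y := by
  obtain ⟨k, s, j, hs, h6, h7⟩ := H3.Pt.exists_prim hx
  exact ⟨x ^ k, pow_mem (mem_zpowers x) k, h7, s, hs, pe_of_pow hs h6⟩

theorem pe_ne (h : r ≠ s) {x : G} (px : PE[{r}] x) : PE[({s} : Set ℕ)ᶜ] x :=
  pe_mono px fun _ _ h1 h2 => h (h1.symm.trans h2)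

theorem cjc {a b : G} (hc : C1[a].index.Coprime C1[b].index) (h : a ∈ C1[b]) (g : G) :
    g * a * g⁻¹ ∈ C1[b] := by
  obtain ⟨d, hd, c, h1, rfl⟩ := Cs.prod hc.symm g
  rw [show d * c * a * (d * c)⁻¹ = d * (c * a) * c⁻¹ * d⁻¹ by group, mem_cent1.1 h1,
    show d * (a * c) * c⁻¹ * d⁻¹ = d * a * d⁻¹ by group]
  exact mul_mem (mul_mem hd h) (inv_mem hd)

structure Hy (G : Type*) [Group G] (m n : ℕ) : Prop where
  hm : 1 < m
  hn : 1 < n
  cop : m.Coprime n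
  cs : ∀ x : G, C1[x].index = 1 ∨ C1[x].index = m ∨ C1[x].index = n ∨ C1[x].index = m * n
  ex1 : ∃ x : G, C1[x].index = m
  ex2 : ∃ x : G, C1[x].index = n
  ex3 : ∃ x : G, C1[x].index = m * n

variable {m n : ℕ}

namespace Hy

variable (h : Hy G m n)
include h

theorem sw : Hy G n m :=
  ⟨h.hn, h.hm, h.cop.symm, fun x => by rw [mul_comm]; have := h.cs x; tauto, h.ex2, h.ex1,
    mul_comm m n ▸ h.ex3⟩

theorem nc {x : G} (hx : x ∉ center G) : C1[x].index = m ∨ C1[x].index = n ∨ C1[x].index = m * n :=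
  (h.cs x).resolve_left fun e => hx (H8.index_centralizer_eq_one_iff.1 e)

theorem nc1 {x : G} (hx : m ∣ C1[x].index) : x ∉ center G := fun e =>
  h.hm.ne' (Nat.eq_one_of_dvd_one (H8.index_centralizer_eq_one_iff.2 e ▸ hx))

theorem dv (x : G) : C1[x].index ∣ m * n := by
  rcases h.cs x with e | e | e | e <;> simp [e]

theorem dm {x : G} (hx : m ∣ C1[x].index) : C1[x].index = m ∨ C1[x].index = m * n := by
  rcases h.nc (h.nc1 hx) with e | e | e
  exacts [Or.inl e, (h.hm.ne' (Nat.eq_one_of_dvd_coprimes h.cop dvd_rfl (e ▸ hx))).elim, Or.inr e]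

theorem lg {x : G} (hx : x ∉ center G) (hd : C1[x].index ∣ m) : C1[x].index = m := by
  rcases h.nc hx with e | e | e
  · exact e
  · exact (h.hn.ne' (Nat.eq_one_of_dvd_coprimes h.cop (e ▸ hd) dvd_rfl)).elim
  · exact (h.hn.ne' (Nat.eq_one_of_dvd_coprimes h.cop ((dvd_mul_left n m).trans (e ▸ hd)) dvd_rfl)).elim

theorem mx {x g : G} (hg : C1[g].index = m * n) (hle : C1[x] ≤ C1[g]) : C1[x] = C1[g] :=
  H3.Pt.eq_of_index hle (Nat.dvd_antisymm (hg ▸ h.dv x) (index_dvd_of_le hle))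

theorem l1 {g x : G} (hg : C1[g].index = m * n) (hx : x ∈ C1[g])
    (hc : (orderOf x).Coprime (orderOf g)) : C1[g] ≤ C1[x] := by
  have e := cent1_mul hx hc
  exact (h.mx hg (e.le.trans inf_le_right)).ge.trans (e.le.trans inf_le_left)

theorem rel {u x : G} (hu : C1[u].index = m) (hx : x ∈ C1[u])
    (hc : (orderOf x).Coprime (orderOf u)) : C1[x].relIndex C1[u] = 1 ∨ C1[x].relIndex C1[u] = n := by
  have e := cent1_mul hx hc
  have h1 := relIndex_mul_index (e.le.trans inf_le_right)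
  have hm : 0 < m := by have := h.hm; omega
  rw [hu] at h1
  rcases h.dm ⟨_, h1.symm.trans (mul_comm _ _)⟩ with e1 | e1 <;> rw [e1, e, inf_relIndex_right] at h1
  · exact Or.inl (Nat.eq_of_mul_eq_mul_right hm (h1.trans (one_mul m).symm))
  · exact Or.inr (Nat.eq_of_mul_eq_mul_right hm (h1.trans (mul_comm m n)))

theorem good (hp : p.Prime) (hd : ¬ p ∣ n) {u a b : G} (hu : C1[u].index = m)
    (pu : PE[{p}] u) (ha : a ∈ C1[u]) (hb : b ∈ C1[u]) (pa : PE[{p}] a)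
    (pb : PE[({p} : Set ℕ)ᶜ] b) : a ∈ C1[b] := by
  refine s35 hp (fun x hx px h1 => ?_) ha hb pa pb
  rcases h.rel hu hx (pu.coprime px).symm with e | e <;> rw [e] at h1
  exacts [hp.not_dvd_one h1, hd h1]

theorem cen (ht : t.Prime) (h1 : ¬ t ∣ m) (h2 : ¬ t ∣ n) {x : G} (px : PE[{t}] x) : x ∈ center G := by
  have h3 : ∀ y : G, ¬ t ∣ C1[y].index := fun y e =>
    ((Nat.Prime.dvd_mul ht).1 (e.trans (h.dv y))).elim h1 h2
  rw [← H8.index_centralizer_eq_one_iff]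
  by_contra h4
  obtain ⟨u, hu, h5⟩ := Nat.exists_prime_and_dvd h4
  refine ndvd hu (A := C1[x]) (B := ⊤) (fun y _ py => cent1_comm.1 (s35 ht (C := ⊤)
    (fun z _ _ => by simpa using h3 z) (mem_top x) (mem_top y) px (pe_ne ?_ py))) (by simpa using h5)
  rintro rfl
  exact h3 x h5

theorem la0 (hr : r.Prime) (hd : ¬ r ∣ m) {a b : G} (ha : C1[a].index = m) (hb : C1[b].index = n)
    (pa : PE[{r}] a) (pb : PE[{r}] b) : False := by
  obtain ⟨g, hg⟩ := into' hr (ha ▸ hd) pb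
  have hb' := (H8.index_centralizer_conj b g).trans hb
  obtain ⟨t, ht, h1⟩ := Nat.exists_prime_and_dvd h.hm.ne'
  refine ndvd ht (A := C1[a]) (B := C1[g * b * g⁻¹]) (fun y hy py => cent1_comm.1
    (h.sw.good hr hd hb' (pe_cj pb g) (cent1_comm.1 hg) hy pa (pe_ne ?_ py))) ?_
  · rintro rfl
    exact hd h1
  · rwa [Cs.relIdx (by rw [ha, hb']; exact h.cop), ha]

theorem la (hr : r.Prime) {a b : G} (ha : C1[a].index = m) (hb : C1[b].index = n)
    (pa : PE[{r}] a) (pb : PE[{r}] b) : False := by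
  by_cases hd : r ∣ m
  · exact h.sw.la0 hr (fun e => hr.one_lt.ne' (Nat.eq_one_of_dvd_coprimes h.cop hd e)) hb ha pb pa
  · exact h.la0 hr hd ha hb pa pb

theorem exa : ∃ a : G, C1[a].index = m ∧ ∃ r, r.Prime ∧ PE[{r}] a := by
  obtain ⟨x, hx⟩ := h.ex1
  obtain ⟨y, h1, h2, h3⟩ := prim (h.nc1 hx.symm.dvd)
  exact ⟨y, h.lg h2 (hx ▸ H8.index_centralizer_dvd_of_mem_zpowers h1), h3⟩

theorem pX (hlt : n < m) (hs : s.Prime) {a b u : G} (ha : C1[a].index = m) (hb : C1[b].index = n)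
    (pa : PE[({s} : Set ℕ)ᶜ] a) (pb : PE[{s}] b) (hu : C1[u].index = m * n) (pu : PE[{s}] u)
    (h1 : u ∈ C1[a]) : b ∈ C1[a] := by
  have : Fact s.Prime := ⟨hs⟩
  have cp : C1[b].index.Coprime C1[a].index := by rw [ha, hb]; exact h.cop.symm
  by_cases e : C1[b * a].index = m * n
  · have h2 : C1[b] ⊓ C1[a] = C1[b * a] := H3.Pt.eq_of_index (fun g hg => cent1_comm.1
      (mul_mem (cent1_comm.1 hg.1) (cent1_comm.1 hg.2))) (by
      rw [e, ← relIndex_mul_index (inf_le_right : C1[b] ⊓ C1[a] ≤ _), inf_relIndex_right, Cs.relIdx cp,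
        ha, hb, mul_comm])
    have := mul_mem (mem_inf.1 (h2.ge (cent1_self _))).2 (inv_mem (cent1_self a))
    rwa [mul_inv_cancel_right] at this
  have h2 := Cs.mem_St cp (by
    rw [ha]
    rcases h.cs (b * a) with e1 | e1 | e1 | e1
    exacts [e1 ▸ h.hm.le, e1.le, e1 ▸ hlt.le, (e e1).elim]) a
  have h3 : ∀ g, Cs.St a ≤ C1[g * b * g⁻¹] := fun g => Cs.le_c1 (by
    rw [H8.index_centralizer_conj]
    exact cp.symm.coprime_dvd_left (Cs.St_dvd a))
  have h4 : Cs.St a ≤ C1[b] := by simpa using h3 1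
  have h5 : b⁻¹ * (a * b * a⁻¹) ∈ C[Cs.St a] := mul_mem (inv_mem (le_cent1.1 h4)) (le_cent1.1 (h3 a))
  have h6 : PE[{s}] (b⁻¹ * (a * b * a⁻¹)) := pe_mul (pe_inv pb) (pe_cj pb a) (inv_mem (cent1_comm.1 (by
    have := mul_mem (cent1_self b) (h4 h2)
    rwa [mul_inv_cancel_left] at this)))
  have hV := comm_center (Cs.St a)
  have hn : (Op[{s}] (Cs.St a ⊓ C[Cs.St a])).Normal := normalizer_eq_top_iff.1
    (top_le_iff.1 (H15.le_norm_piCoreOf _ (by rw [normalizer_eq_top])))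
  have h7 := l4' hs (Op[{s}] (Cs.St a ⊓ C[Cs.St a]))
    (H15.Cfsg.IsPiSubgroup.isPGroup (H15.isPi_piCoreOf _ _)) pu pa
    (fun c hc _ => h.l1 hu (cent1_comm.1 h1) (pu.coprime pa).symm hc) _
    (H15.le_piCoreOf_of_nilpotent (H15.nilpotent_of_comm hV)
      (zpowers_le.2 (mem_inf.2 ⟨h2, h5⟩)) (pe_zpowers h6) (mem_zpowers _))
  have h8 := (show Commute (b⁻¹ * (a * b * a⁻¹)) a from h7).mul_pow (orderOf a)
  rw [show b⁻¹ * (a * b * a⁻¹) * a = b⁻¹ * a * b⁻¹⁻¹ by group, conj_pow, pow_orderOf_eq_one, mul_one,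
    mul_inv_cancel, mul_one] at h8
  have h9 := eq_one_of_pe h6 (pa.of_dvd (orderOf_dvd_of_pow_eq_one h8.symm))
  exact mem_cent1.2 (mul_inv_eq_iff_eq_mul.1 (inv_mul_eq_one.1 h9).symm).symm

theorem pair0 (hlt : n < m) : ∃ a b : G, C1[a].index = m ∧ C1[b].index = n ∧ b ∈ C1[a] ∧
    ∃ r s, r.Prime ∧ s.Prime ∧ PE[{r}] a ∧ PE[{s}] b := by
  obtain ⟨a, ha, r, hr, pa⟩ := h.exa
  obtain ⟨b, hb, s, hs, pb⟩ := h.sw.exa
  by_contra hc
  have k : ∀ x : G, C1[x].index = n → x ∈ C1[a] → ∀ t, t.Prime → PE[{t}] x → False :=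
    fun x h1 h2 t ht px => hc ⟨a, x, ha, h1, h2, r, t, hr, ht, pa, px⟩
  have k' : ∀ x : G, C1[x].index = n → ∀ t, t.Prime → PE[{t}] x → t ∣ m := fun x h1 t ht px => by
    by_contra h2
    obtain ⟨g, hg⟩ := into' ht (ha ▸ h2) px
    exact k _ ((H8.index_centralizer_conj x g).trans h1) hg t ht (pe_cj px g)
  have hrs : r ≠ s := by
    rintro rfl
    exact h.la hr ha hb pa pb
  have k1 : ∀ u ∈ C1[a], u ∉ center G → ¬ PE[{s}] u := fun u h1 h2 pu => by
    rcases h.nc h2 with e | e | e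
    · exact h.la hs e hb pu pb
    · exact k u e h1 s hs pu
    · exact k b hb (h.pX hlt hs ha hb (pe_ne hrs pa) pb e pu h1) s hs pb
  have k2 : ∀ x : G, m ∣ C1[x].index → ∀ u ∈ C1[x], u ∉ center G → ¬ PE[{s}] u :=
    fun x ⟨j, hj⟩ u h1 h2 pu => by
    obtain ⟨v, h3, h4, h5⟩ := ncx hs (g := a) h1 h2 pu (Nat.coprime_one_left s)
      (show _ * j = _ by rw [ha, hj, mul_one])
    exact k1 v h3 h4 h5
  have k3 : ∀ x ∈ C1[b], x ∉ center G → C1[x].index = n := fun x h1 h2 => by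
    rcases h.nc h2 with e | e | e
    exacts [(k2 x e.symm.dvd b (cent1_comm.1 h1) (h.sw.nc1 hb.symm.dvd) pb).elim, e,
      (k2 x (e ▸ dvd_mul_right m n) b (cent1_comm.1 h1) (h.sw.nc1 hb.symm.dvd) pb).elim]
  obtain ⟨y, hy⟩ := h.ex3
  have hy' : m ∣ C1[y].index := hy ▸ dvd_mul_right m n
  obtain ⟨x, h1, h2, t, ht, px⟩ := prim (h.nc1 hy')
  have h3 := mem_cent1_of_mem_zpowers h1
  by_cases htn : t ∣ n
  · obtain ⟨v, h4, h5, h6⟩ := ncx ht (g := b) h3 h2 px (Nat.coprime_one_left t)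
      (show _ * m = _ by rw [hb, hy, mul_one, mul_comm])
    exact ht.one_lt.ne' (Nat.eq_one_of_dvd_coprimes h.cop (k' v (k3 v h4 h5) t ht h6) htn)
  · have hts : t ≠ s := by
      rintro rfl
      exact k2 y hy' x h3 h2 px
    obtain ⟨g, hg⟩ := into' ht (hb ▸ htn) px
    have e := cent1_mul hg (coprime_of_isPiNat_singleton hts (pe_cj px g) pb)
    have h4 : C1[g * x * g⁻¹ * b] = C1[b] := H3.Pt.eq_of_index (e.le.trans inf_le_right)
      ((k3 _ (mul_mem hg (cent1_self b)) (h.sw.nc1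
        (hb ▸ index_dvd_of_le (e.le.trans inf_le_right)))).trans hb.symm)
    have h5 : C1[b] = C1[g * x * g⁻¹] := H3.Pt.eq_of_index (h4.ge.trans (e.le.trans inf_le_left))
      (hb.trans (k3 _ hg (nz_cj h2 g)).symm)
    have h6 := k3 _ (h5.ge (c1_cj (cent1_comm.1 h3) g)) (nz_cj (h.nc1 hy') g)
    rw [H8.index_centralizer_conj] at h6
    exact h.hm.ne' (Nat.eq_one_of_dvd_coprimes h.cop dvd_rfl (h6 ▸ hy'))

theorem pair : ∃ a b : G, C1[a].index = m ∧ C1[b].index = n ∧ b ∈ C1[a] ∧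
    ∃ r s, r.Prime ∧ s.Prime ∧ PE[{r}] a ∧ PE[{s}] b := by
  rcases lt_trichotomy n m with h1 | h1 | h1
  · exact h.pair0 h1
  · exact (h.hm.ne' (Nat.eq_one_of_dvd_coprimes h.cop dvd_rfl h1.symm.dvd)).elim
  · obtain ⟨a, b, h2, h3, h4, r, s, hr, hs, pa, pb⟩ := h.sw.pair0 h1
    exact ⟨b, a, h3, h2, cent1_comm.1 h4, s, r, hs, hr, pb, pa⟩

theorem two (hr : r.Prime) (hs : s.Prime) {a b : G} (ha : C1[a].index = m) (hb : C1[b].index = n)
    (hab : b ∈ C1[a]) (pa : PE[{r}] a) (pb : PE[{s}] b) (ht : t.Prime) (htn : t ∣ n) :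
    t = r ∨ t = s := by
  have hrs : s ≠ r := by
    rintro rfl
    exact h.la hr ha hb pa pb
  have e : C1[(⟨b, hab⟩ : C1[a])].index = n := by
    rw [H8.index_centralizer_coe, Cs.relIdx (by rw [ha, hb]; exact h.cop.symm), hb]
  by_cases h2 : ∀ q : ℕ, ∃ u : ℕ, u.Prime ∧ u ≠ q ∧ u ≠ r ∧ u ∣ (center C1[a]).index
  · obtain ⟨k, hk⟩ := (H3.Pt.ch_of_two (G := C1[a]) hr (m := n) (fun x hx => by
      rw [H8.index_centralizer_coe]
      exact h.rel ha x.2 (pa.coprime ((pn'_iff hr).2 (by rwa [orderOf_coe]))).symm) h2).index_pow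
      (x := ⟨b, hab⟩) (by rw [← orderOf_coe]; exact (pn'_iff hr).1 (pe_ne hrs pb))
    exact Or.inl (pn_of_pow hr k t ht (hk ▸ e ▸ htn))
  · push Not at h2
    obtain ⟨q, hq⟩ := h2
    obtain ⟨j, hj⟩ := pe_pow hs pb
    have h3 : s = q := by
      by_contra h3
      refine hq s hs h3 hrs ?_
      rw [← relIndex_top_right]
      exact H3.Pt.dvd_relIndex hs (mem_top (⟨b, hab⟩ : C1[a])) (fun h4 => h.hn.ne'
        (e.symm.trans (H8.index_centralizer_eq_one_iff.2 h4))) (by rw [← orderOf_coe]; exact hj)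
    by_contra h4
    push Not at h4
    exact hq t ht (h3 ▸ h4.2) h4.1 (htn.trans (e ▸ index_dvd_of_le (zle _)))

end Hy

end H17.Cn
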