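import Cfsg.Agent.H17.Cn1

/-! Groups with class sizes `1, p^a, q^b, p^a q^b` are nilpotent (Camina). -/

set_option autoImplicit false
set_option linter.unusedSectionVars false

open Subgroup Cfsg H1 H16 H16.H11 H17.Cm
open scoped commutatorElement

namespace H17.Cn

variable {G : Type*} [Group G] [Finite G] {p q r s t m n : ℕ}

structure H2 (G : Type*) [Group G] (m n p q : ℕ) : Prop extends Hy G m n where
  hp : p.Prime
  hq : q.Prime
  pm : IsPiNat {p} m
  qn : IsPiNat {q} n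

namespace H2

variable (h : H2 G m n p q)
include h

theorem sw : H2 G n m q p := ⟨h.toHy.sw, h.hq, h.hp, h.qn, h.pm⟩

theorem dp : p ∣ m := by
  obtain ⟨t, ht, h1⟩ := Nat.exists_prime_and_dvd h.hm.ne'
  exact (h.pm t ht h1 : t = p) ▸ h1

theorem np : ¬ p ∣ n := fun e => h.hp.one_lt.ne' (Nat.eq_one_of_dvd_coprimes h.cop h.dp e)

theorem ne : p ≠ q := fun e => h.np (e ▸ h.sw.dp)

theorem cq : m.Coprime q := (h.hq.coprime_iff_not_dvd.2 h.sw.np).symm

theorem cen' (ht : t.Prime) (h1 : t ≠ p) (h2 : t ≠ q) {x : G} (px : PE[{t}] x) : x ∈ center G :=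
  h.cen ht (fun e => h1 (h.pm t ht e)) (fun e => h2 (h.qn t ht e)) px

theorem solv : Group.IsSolvable G :=
  H3.Pt.solv_of_center (H17.isSolvable_of_two_primes h.hp h.hq fun r hr hd => by
    by_contra h1
    push Not at h1
    exact ndvd hr (A := center G) (B := ⊤) (fun u _ pu => h.cen' hr h1.1 h1.2 pu)
      (by rwa [relIndex_top_right]))

theorem core {a y : G} (ha : C1[a].index = m) (pa : PE[{p}] a) (py : PE[{q}] y) :
    y ∈ pPrimeCore p G := by
  have : Fact p.Prime := ⟨h.hp⟩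
  have := h.solv
  obtain ⟨g, hg⟩ := into' h.hq (ha ▸ h.sw.np) py
  have pg := pe_ne h.ne.symm (pe_cj py g)
  have h2 := H1.centralizer_pCore_le (pPrimeCore_quotient_pPrimeCore p)
    (l4 h.hp (coprime_card_pPrimeCore p) _ (isPGroup_pCore p) pa pg
      fun c hc pc => h.good h.hp h.np ha pa hc hg pc pg)
  have := (QuotientGroup.eq_one_iff _).1
    (eq_one_of_pe (pe_of_pg (isPGroup_pCore p) h2) (pe_map (QuotientGroup.mk' _) pg))
  simpa [mul_assoc] using Normal.conj_mem inferInstance _ this g⁻¹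

theorem cm {a b x y : G} (ha : C1[a].index = m) (pa : PE[{p}] a) (hb : C1[b].index = n)
    (pb : PE[{q}] b) (px : PE[{p}] x) (py : PE[{q}] y) : x ∈ C1[y] := by
  have h1 := h.core ha pa py
  have h2 := h.sw.core hb pb px
  have h3 : y⁻¹ * (x * y * x⁻¹) ∈ pPrimeCore p G :=
    mul_mem (inv_mem h1) (Normal.conj_mem inferInstance _ h1 x)
  have h4 : y⁻¹ * (x * y * x⁻¹) ∈ pPrimeCore q G := by
    rw [show y⁻¹ * (x * y * x⁻¹) = y⁻¹ * x * y⁻¹⁻¹ * x⁻¹ by group]
    exact mul_mem (Normal.conj_mem inferInstance _ h2 _) (inv_mem h2)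
  have h5 : y⁻¹ * (x * y * x⁻¹) ∈ center G := by
    by_contra h5
    obtain ⟨z, h6, h7, t, ht, pz⟩ := prim h5
    refine h7 (h.cen' ht ?_ ?_ pz) <;> rintro rfl
    · exact h7 (eq_one_of_pe pz (pe'_of_cop ht (coprime_card_pPrimeCore t) (zpowers_le.2 h3 h6)) ▸
        one_mem _)
    · exact h7 (eq_one_of_pe pz (pe'_of_cop ht (coprime_card_pPrimeCore t) (zpowers_le.2 h4 h6)) ▸
        one_mem _)
  have h6 := eq_one_of_pe (py.of_dvd (Cs.cz (g := x) h5 (by group)))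
    (pe'_of_cop h.hq (coprime_card_pPrimeCore q) h4)
  exact mem_cent1.2 (mul_inv_eq_iff_eq_mul.1 (inv_mul_eq_one.1 h6).symm)

theorem nil {a b : G} (ha : C1[a].index = m) (pa : PE[{p}] a) (hb : C1[b].index = n)
    (pb : PE[{q}] b) : Group.IsNilpotent G := by
  refine isNilpotent_of_sylow_normal fun t ht P => normalizer_eq_top_iff.1 (index_eq_one.1 ?_)
  by_contra h1
  obtain ⟨u, hu, h2⟩ := Nat.exists_prime_and_dvd h1
  have htu : u ≠ t := by
    rintro rfl
    exact P.not_dvd_index (h2.trans (index_dvd_of_le le_normalizer))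
  refine ndvd hu (A := N[(P : Subgroup G)]) (B := ⊤) (fun y _ py => cent_le_norm _
    (le_cent1.1 fun x hx => ?_)) (by simpa using h2)
  have px := pe_of_pg P.isPGroup' hx
  by_cases h3 : t ≠ p ∧ t ≠ q
  · exact zle y (h.cen' ht.out h3.1 h3.2 px)
  by_cases h4 : u ≠ p ∧ u ≠ q
  · exact cent1_comm.1 (zle x (h.cen' hu h4.1 h4.2 py))
  by_cases h5 : t = p
  · have h6 : u = q := by_contra fun e => h4 ⟨h5 ▸ htu, e⟩
    exact h.cm ha pa hb pb (h5 ▸ px) (h6 ▸ py)
  · have h6 : t = q := by tauto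
    have h7 : u = p := by_contra fun e => h4 ⟨e, h6 ▸ htu⟩
    exact cent1_comm.1 (h.cm ha pa hb pb (h7 ▸ py) (h6 ▸ px))

theorem ul {x : G} (hx : C1[x].index = n) : pCore p G ≤ C1[x] :=
  have : Fact p.Prime := ⟨h.hp⟩
  H8.normal_le_centralizer_of_not_dvd (hx ▸ h.np) (isPGroup_pCore p)

theorem gd {y g : G} (hy : C1[y].index = m * n) (py : PE[{p}] y) (hg : g ∈ C1[y]) (pg : PE[{q}] g) :
    g ∈ C[pCore p G] :=
  have : Fact p.Prime := ⟨h.hp⟩
  l4' h.hp _ (isPGroup_pCore p) py (pe_ne h.ne.symm pg)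
    fun _ hc _ => h.l1 hy hg (coprime_of_isPiNat_singleton h.ne.symm pg py) hc

variable (nm : ∀ x : G, PE[{p}] x → C1[x].index ≠ m)
include nm

theorem b0 {x : G} (hx : x ∉ center G) (px : PE[{p}] x) : C1[x].index = n ∨ C1[x].index = m * n :=
  (h.nc hx).resolve_left (nm x px)

variable {a : G} (ha : C1[a].index = m) (pa : PE[{q}] a) (hU : a ∉ C[pCore p G])
include ha pa hU

theorem b1 {x : G} (h1 : x ∈ C1[a]) (hx : x ∉ center G) (px : PE[{p}] x) : C1[x].index = n :=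
  (h.b0 nm hx px).resolve_right fun e => hU (h.gd e px (cent1_comm.1 h1) pa)

theorem b2 {x y : G} (h1 : x ∈ pCore p G) (h2 : x ∈ C1[a]) (hx : x ∉ center G) (h3 : y ∈ pCore p G)
    (hy : y ∉ center G) : C1[y].index = n := by
  have : Fact p.Prime := ⟨h.hp⟩
  have py := pe_of_pg (isPGroup_pCore p) h3
  refine (h.b0 nm hy py).resolve_right fun e => ?_
  obtain ⟨d, -, h4⟩ := into h.hq (tr h.hq (A := C1[y]) (B := C1[x]) (α := 1)
    (fun g hg pg => cent_le_cent1 h1 (h.gd e py hg pg)) h.cq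
    (by rw [e, h.b1 nm ha pa hU h2 hx (pe_of_pg (isPGroup_pCore p) h1)]; ring)) (cent1_comm.1 h2) pa
  have := h.gd e py h4 (pe_cj pa d)
  exact hU (by simpa [mul_assoc] using Normal.conj_mem inferInstance _ this d⁻¹)

theorem b3 : (pCore p G ⊓ C1[a]).Normal := ⟨fun x hx g => mem_inf.2
  ⟨Normal.conj_mem inferInstance _ hx.1 g, by
    have : Fact p.Prime := ⟨h.hp⟩
    by_cases h1 : x ∈ center G
    · exact zle a (Normal.conj_mem inferInstance _ h1 g)
    · exact cjc (by rw [ha, h.b1 nm ha pa hU hx.2 h1 (pe_of_pg (isPGroup_pCore p) hx.1)]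
                    exact h.cop.symm) hx.2 g⟩⟩

theorem b4 {x : G} (h1 : x ∈ pCore p G) (h2 : x ∈ C1[a]) : x ∈ center G := by
  have : Fact p.Prime := ⟨h.hp⟩
  have : Fact q.Prime := ⟨h.hq⟩
  by_contra hx
  have := h.b3 nm ha pa hU
  obtain ⟨y, h3, h4⟩ : ∃ y ∈ pCore p G, y ∉ C1[a] := by
    by_contra h3
    push Not at h3
    exact hU (le_cent1.1 h3)
  let f := QuotientGroup.mk' (pCore p G ⊓ C1[a])
  have k : ∀ c, f c = f y → C1[c] ≤ C1[f y].comap f ∧ C1[c].index = n := fun c hc => by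
    have h5 := mem_inf.1 (QuotientGroup.eq.1 hc)
    refine ⟨fun g hg => ?_, h.b2 nm ha pa hU h1 h2 hx ?_ fun e => h4 ?_⟩
    · rw [mem_comap, mem_cent1, ← hc, ← map_mul, mem_cent1.1 hg, map_mul]
    · simpa using mul_mem h3 (inv_mem h5.1)
    · simpa using mul_mem (zle a e) h5.2
  obtain ⟨T, hT⟩ := sy_exists q (C1[f y].comap f)
  have h5 : f y ∈ C[T.map f] := by
    rintro _ ⟨g, hg, rfl⟩
    exact mem_cent1.1 (hT.1 hg)
  rw [← H1.map_centralizer_mk' _ (coprime_of_isPiNat_singleton h.ne.symm (hl_pi hT)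
    (H15.Cfsg.IsPiSubgroup.inf_left (H15.IsPGroup.isPi (isPGroup_pCore p))))
    (Or.inl (H15.Cfsg.IsPiSubgroup.solvable (hl_pi hT)))] at h5
  obtain ⟨c, h6, h7⟩ := h5
  have h8 : (C1[f y].comap f).index = n := by
    have h8 := relIndex_mul_index (k c h7).1
    rw [(k c h7).2] at h8
    have h9 : C1[c].relIndex (C1[f y].comap f) = 1 := by
      by_contra h9
      obtain ⟨u, hu, h10⟩ := Nat.exists_prime_and_dvd h9
      obtain rfl : u = q := h.qn u hu (h10.trans ⟨_, h8.symm⟩)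
      exact sy_not_dvd hT hu (h10.trans (relIndex_dvd_of_le_left _ (le_cent1.2 h6)))
    rwa [h9, one_mul] at h8
  have k2 : ∀ c, f c = f y → C1[c] = C1[f y].comap f := fun c hc =>
    H3.Pt.eq_of_index (k c hc).1 ((k c hc).2.trans h8.symm)
  have h9 : C1[y] = C1[x] := H3.Pt.eq_of_index (fun g hg => by
    have h10 : g ∈ C1[y * x] := (k2 (y * x) (by
      rw [map_mul, show f x = 1 from (QuotientGroup.eq_one_iff x).2 ⟨h1, h2⟩, mul_one])).ge
      ((k2 y rfl).le hg)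
    have := mul_mem (inv_mem (cent1_comm.1 hg)) (cent1_comm.1 h10)
    rw [inv_mul_cancel_left] at this
    exact cent1_comm.1 this) ((k y rfl).2.trans (h.b2 nm ha pa hU h1 h2 hx h1 hx).symm)
  exact h4 (cent1_comm.1 (h9.ge (cent1_comm.1 h2)))

theorem b5 {x : G} (h1 : x ∈ C1[a]) (hx : x ∉ center G) (px : PE[{p}] x) : False := by
  have : Fact p.Prime := ⟨h.hp⟩
  obtain ⟨y, h3, h4⟩ : ∃ y ∈ pCore p G, y ∉ C1[a] := by
    by_contra h3
    push Not at h3
    exact hU (le_cent1.1 h3)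
  have e := h.b1 nm ha pa hU h1 hx px
  have py := pe_mul (pe_of_pg (isPGroup_pCore p) h3) px (h.ul e h3)
  have h5 : y * x ∉ center G := fun h5 => hx (h.b4 nm ha pa hU (by
    simpa using mul_mem (inv_mem h3) (H8.mem_pCore_of_index_pow (pe_pg py) (a := 0)
      (H8.index_centralizer_eq_one_iff.2 h5))) h1)
  have h6 : ∀ g ∈ C1[y * x], PE[{q}] g → g ∈ C1[x] := fun g hg pg => by
    have h6 : x⁻¹ * (g * x * g⁻¹) ∈ pCore p G := by
      have : x⁻¹ * (g * x * g⁻¹) = x⁻¹ * ((g * y * g⁻¹)⁻¹ * y) * x⁻¹⁻¹ := by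
        calc _ = x⁻¹ * (g * y⁻¹ * g⁻¹) * (g * (y * x)) * g⁻¹ := by group
          _ = _ := by rw [mem_cent1.1 hg]; group
      rw [this]
      exact Normal.conj_mem inferInstance _
        (mul_mem (inv_mem (Normal.conj_mem inferInstance _ h3 g)) h3) _
    have h7 := h.b4 nm ha pa hU h6 (mul_mem (inv_mem h1) (cjc (by rw [ha, e]; exact h.cop.symm) h1 g))
    have h8 := eq_one_of_pe (pg.of_dvd (Cs.cz (g := x⁻¹) h7 (by rw [mem_center_iff.1 h7 g]; group)))
      (pe_ne h.ne (pe_of_pg (isPGroup_pCore p) h6))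
    exact mem_cent1.2 (mul_inv_eq_iff_eq_mul.1 (inv_mul_eq_one.1 h8).symm)
  obtain ⟨β, h7, h8⟩ : ∃ β, β.Coprime q ∧ C1[y * x].index * 1 = C1[x].index * β := by
    rcases h.b0 nm h5 py with e1 | e1 <;> rw [e1, e]
    exacts [⟨1, Nat.coprime_one_left q, rfl⟩, ⟨m, h.cq, by ring⟩]
  obtain ⟨d, h9, h10⟩ := into h.hq (tr h.hq h6 h7 h8) (cent1_comm.1 h1) pa
  have h11 := mul_mem (cent1_comm.1 h10)
    (inv_mem (cent1_comm.1 (mul_mem (mul_mem h9 (cent1_comm.1 h1)) (inv_mem h9))))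
  rw [mul_inv_cancel_right] at h11
  have h12 := c1_cj h11 d⁻¹
  rw [show d⁻¹ * (d * a * d⁻¹) * d⁻¹⁻¹ = a by group] at h12
  exact nz_cj (fun e1 => h4 (zle a e1)) d⁻¹
    (h.b4 nm ha pa hU (Normal.conj_mem inferInstance _ h3 _) h12)

omit hU in
theorem be {a' b : G} (ha' : C1[a'].index = m) (hb : C1[b].index = n) (hab : b ∈ C1[a'])
    (pb : PE[{p}] b) : a ∈ C[pCore p G] := by
  by_contra hU
  obtain ⟨v, h1, h2, h3⟩ := ncx h.hp (g := a) hab (h.toHy.sw.nc1 hb.symm.dvd) pb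
    (Nat.coprime_one_left p) (show _ * 1 = _ by rw [ha, ha'])
  exact h.b5 nm ha pa hU h1 h2 h3

omit hU in
theorem inO {b : G} (hb : C1[b].index = n) (hab : b ∈ C1[a]) (pb : PE[{p}] b) : a ∈ pCore q G := by
  have : Fact q.Prime := ⟨h.hq⟩
  have := h.solv
  refine le_pCore_of_le_fitting (pe_pg pa) (zpowers_le.2 (H1.centralizer_fitting_le (le_cent1.1 ?_)))
    (mem_zpowers a)
  rw [fitting_eq_iSup_pCore]
  refine iSup_le fun ⟨t, ht⟩ => ?_
  have : Fact t.Prime := ⟨ht⟩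
  by_cases h1 : t = p
  · subst h1
    exact le_cent1.2 (h.be nm ha pa ha hb hab pb)
  by_cases h2 : t = q
  · subst h2
    exact h.sw.ul ha
  · exact fun x hx => zle a (h.cen' ht h1 h2 (pe_of_pg (isPGroup_pCore t) hx))

omit hU in
theorem fin (nn : ∀ x : G, PE[{q}] x → C1[x].index ≠ n) {b : G} (hb : C1[b].index = n)
    (hab : b ∈ C1[a]) (pb : PE[{p}] b) : False := by
  have : Fact p.Prime := ⟨h.hp⟩
  have h1 := h.inO nm ha pa hb hab pb
  have h2 := h.sw.inO nn hb pb ha (cent1_comm.1 hab) pa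
  refine ndvd h.hq (A := C1[b]) (B := ⊤) (fun g _ pg => ?_) (by simpa [hb] using h.sw.dp)
  by_cases hg : g ∈ center G
  · exact zle b hg
  rcases h.sw.b0 nn hg pg with e | e
  · exact cent_le_cent1 h2 (h.be nm e pg ha hb hab pb)
  · have h3 := tr h.hp (A := C1[g]) (B := C1[a]) (α := 1)
      (fun x hx px => cent_le_cent1 h1 (h.sw.gd e pg hx px)) h.sw.cq (by rw [e, ha]; ring)
    have h4 := Cs.relDvd (A := C1[g]) (le_cent1.2 (h.be nm ha pa ha hb hab pb))
      (by rw [normalizer_eq_top]; exact le_top)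
    refine cent1_comm.1 (relIndex_eq_one.1 ?_ h2)
    by_contra h5
    obtain ⟨u, hu, h6⟩ := Nat.exists_prime_and_dvd h5
    obtain rfl : u = p := H15.Cfsg.IsPiSubgroup.relIndex (H15.IsPGroup.isPi (isPGroup_pCore p)) _ u hu h6
    exact h3 (h6.trans h4)

end H2

theorem main (h : Hy G m n) : Group.IsNilpotent G ∧ IsPrimePow m ∧ IsPrimePow n := by
  obtain ⟨a, b, ha, hb, hab, r, s, hr, hs, pa, pb⟩ := h.pair
  have h1 := fun (t : ℕ) (ht : t.Prime) => h.two hr hs ha hb hab pa pb ht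
  have h2 := fun (t : ℕ) (ht : t.Prime) => h.sw.two hs hr hb ha (cent1_comm.1 hab) pb pa ht
  have k : ∀ t : ℕ, t.Prime → t ∣ m → t ∣ n → False := fun t ht h3 h4 =>
    ht.one_lt.ne' (Nat.eq_one_of_dvd_coprimes h.cop h3 h4)
  have pp : ∀ {p k : ℕ}, p.Prime → 1 < k → IsPiNat {p} k → IsPrimePow k := fun {p k} hp h3 h4 => by
    obtain ⟨j, rfl⟩ := pn_pow hp (by omega) h4
    exact hp.isPrimePow.pow (by rintro rfl; simp at h3)
  obtain ⟨p, hp, h3⟩ := Nat.exists_prime_and_dvd h.hm.ne'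
  obtain ⟨q, hq, h4⟩ := Nat.exists_prime_and_dvd h.hn.ne'
  rcases h2 p hp h3 with rfl | rfl <;> rcases h1 q hq h4 with rfl | rfl
  · have H : H2 G m n p q := ⟨h, hp, hq,
      fun t ht e => (h2 t ht e).resolve_right fun e' => k t ht e (e' ▸ h4),
      fun t ht e => (h1 t ht e).resolve_right fun e' => k t ht (e' ▸ h3) e⟩
    exact (H.fin (fun x px e => h.la hp e hb px pb) ha pa (fun x px e => h.la hq ha e pa px)
      hb hab pb).elim
  · exact (k _ hp h3 h4).elim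
  · exact (k _ hp h3 h4).elim
  · have H : H2 G m n p q := ⟨h, hp, hq,
      fun t ht e => (h2 t ht e).resolve_left fun e' => k t ht e (e' ▸ h4),
      fun t ht e => (h1 t ht e).resolve_left fun e' => k t ht (e' ▸ h3) e⟩
    exact ⟨H.nil ha pa hb pb, pp hp h.hm H.pm, pp hq h.hn H.qn⟩

end H17.Cn
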