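import Cfsg.Agent.H11.BGLib2
import Cfsg.Agent.H8.Idx
import Cfsg.Agent.H8.Cls
import Cfsg.Agent.H8.Elt
import Cfsg.Agent.H6.Act
import Cfsg.Agent.H2.Frob
import Cfsg.Agent.H4.Comm
import Cfsg.Agent.H9.Basic

/-! Groups whose two largest class sizes are coprime. -/

set_option autoImplicit false
set_option linter.unusedSectionVars false

open Subgroup Cfsg H1 H16 H16.H11
open scoped commutatorElement

namespace H17.Cs

variable {G : Type*} [Group G] [Finite G]

theorem prod {H L : Subgroup G} (h : H.index.Coprime L.index) (g : G) : ∃ a ∈ H, ∃ b ∈ L, g = a * b := by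
  obtain ⟨a, ha, b, hb, e⟩ := exists_mul_of_coprime_relIndex (H := H) (L := L) (K := ⊤)
    (by simpa using h) (mem_top g)
  exact ⟨a, ha.1, b, hb.1, e⟩

theorem relIdx {H L : Subgroup G} (h : H.index.Coprime L.index) : H.relIndex L = H.index := by
  have h1 : H.relIndex L * L.index = (H ⊓ L).index := by
    rw [← inf_relIndex_right, relIndex_mul_index inf_le_right]
  have h2 : H.index ∣ H.relIndex L := h.dvd_of_dvd_mul_right (h1 ▸ index_dvd_of_le inf_le_left)
  refine le_antisymm ?_ (Nat.le_of_dvd (H16.relIndex_pos H L) h2)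
  rw [← relIndex_top_right]
  exact relIndex_le_of_le_right le_top (H16.relIndex_pos H ⊤).ne'

theorem relDvd {A N B : Subgroup G} (h : N ≤ B) (hn : B ≤ N[N]) : A.relIndex N ∣ A.relIndex B := by
  have : (N.subgroupOf B).Normal := (normal_subgroupOf_iff_le_normalizer h).2 hn
  have := H8.relIndex_dvd_index_of_normal' (A.subgroupOf B) (N.subgroupOf B)
  rwa [relIndex_subgroupOf h] at this

theorem ncl (g : G) : {x | IsConj g x}.ncard = C1[g].index := by
  rw [← H8.card_conj_class]; rfl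

def St (b : G) : Subgroup G where
  carrier := {h | ∀ k, IsConj b k ↔ IsConj b (h * k)}
  mul_mem' := fun {u v} hu hv k => by rw [mul_assoc, ← hu, ← hv]
  one_mem' := fun k => by rw [one_mul]
  inv_mem' := fun {u} hu k => by rw [hu (u⁻¹ * k), mul_inv_cancel_left]

instance (b : G) : (St b).Normal := ⟨fun h hh g k => by
  have e : ∀ k, IsConj b k ↔ IsConj b (g⁻¹ * k * g) := fun k =>
    ⟨fun h => h.trans (isConj_iff.2 ⟨g⁻¹, by simp⟩), fun h => h.trans (isConj_iff.2 ⟨g, by group⟩)⟩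
  rw [e, hh, e (g * h * g⁻¹ * k)]
  congr! 1; group⟩

theorem St_dvd (b : G) : Nat.card (St b) ∣ C1[b].index := by
  rw [← ncl]
  refine H6.dvd_ncard_of_relIndex (St b) _ _ (Set.toFinite _) (fun h hh k hk => (hh k).1 hk) fun k _ => ?_
  have : MulAction.stabilizer G k = ⊥ := by
    ext g; simp
  rw [this, relIndex_bot_left]

theorem mem_St {a b : G} (hc : C1[a].index.Coprime C1[b].index) (hle : C1[a * b].index ≤ C1[b].index)
    (g : G) : a⁻¹ * (g * a * g⁻¹) ∈ St b := by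
  have into : ∀ g k, IsConj b k → IsConj (a * b) (g * a * g⁻¹ * k) := fun g k hk => by
    obtain ⟨g', rfl⟩ := isConj_iff.1 hk
    obtain ⟨d, hd, e, he, h⟩ := prod hc.symm (g'⁻¹ * g)
    rw [mem_cent1] at hd he
    refine isConj_iff.2 ⟨g' * d, ?_⟩
    have : g = g' * d * e := by rw [mul_assoc, ← h]; group
    rw [this]
    calc g' * d * (a * b) * (g' * d)⁻¹ = g' * d * (a * e) * e⁻¹ * d⁻¹ * (d * b) * d⁻¹ * g'⁻¹ := by group
      _ = _ := by rw [← he, hd]; group
  have onto : ∀ g w, IsConj (a * b) w → ∃ k, IsConj b k ∧ g * a * g⁻¹ * k = w := fun g w hw => by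
    have := Set.eq_of_subset_of_ncard_le (s := (fun k => g * a * g⁻¹ * k) '' {k | IsConj b k})
      (t := {k | IsConj (a * b) k}) (by rintro _ ⟨k, hk, rfl⟩; exact into g k hk)
      (by rw [Set.ncard_image_of_injective _ (mul_right_injective _), ncl, ncl]; exact hle)
    exact this.ge hw
  intro k
  constructor
  · intro hk
    obtain ⟨k', h1, h2⟩ := onto 1 _ (into g k hk)
    rwa [mul_assoc, ← h2, show a⁻¹ * (1 * a * 1⁻¹ * k') = k' by group]
  · intro hk
    obtain ⟨k', h1, h2⟩ := onto g _ (into 1 _ hk)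
    rw [show 1 * a * 1⁻¹ * (a⁻¹ * (g * a * g⁻¹) * k) = g * a * g⁻¹ * k by group] at h2
    rwa [← mul_left_cancel h2]

theorem le_c1 {N : Subgroup G} [N.Normal] {z : G} (h : (Nat.card N).Coprime C1[z].index) : N ≤ C1[z] :=
  relIndex_eq_one.1 (Nat.eq_one_of_dvd_coprimes h (relIndex_dvd_card _ _)
    (H8.relIndex_dvd_index_of_normal' _ _))

theorem cent_le {N : Subgroup G} [N.Normal] {z : G} (h : (Nat.card N).Coprime C1[z].index)
    (hz : ∀ g, z⁻¹ * (g * z * g⁻¹) ∈ N) : C[N] ≤ C1[z] := by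
  let φ : C[N] →* G := MonoidHom.mk' (fun d => z⁻¹ * (d * z * (d : G)⁻¹)) fun d e => by
    have := mem_cent.1 d.2 _ (hz e)
    simp only [coe_mul]
    calc _ = z⁻¹ * (d * z * (d : G)⁻¹) * (d * (z⁻¹ * (e * z * (e : G)⁻¹))) * (d : G)⁻¹ := by group
      _ = _ := by rw [← this]; group
  have h1 : φ.ker = C1[z].subgroupOf C[N] := by
    ext d
    rw [MonoidHom.mem_ker, mem_subgroupOf, H8.mem_centralizer_singleton_iff']
    exact inv_mul_eq_one.trans eq_comm
  have h2 : C1[z].relIndex C[N] ∣ Nat.card N := by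
    rw [relIndex, ← h1, index_ker]
    exact card_dvd (by rintro _ ⟨d, rfl⟩; exact hz d)
  exact relIndex_eq_one.1 (Nat.eq_one_of_dvd_coprimes h h2 (H8.relIndex_dvd_index_of_normal' _ _))

theorem pw {N : Subgroup G} {z : G} (h : N ≤ C1[z]) (hz : ∀ g, z⁻¹ * (g * z * g⁻¹) ∈ N) :
    z ^ Nat.card N ∈ center G := by
  rw [mem_center_iff]
  intro g
  have h1 : Commute z (z⁻¹ * (g * z * g⁻¹)) := (mem_cent1.1 (h (hz g))).symm
  have h2 := h1.mul_pow (Nat.card N)
  rw [orderOf_dvd_iff_pow_eq_one.1 (H16.orderOf_dvd_card (hz g)), mul_one, mul_inv_cancel_left,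
    conj_pow] at h2
  exact mul_inv_eq_iff_eq_mul.1 h2

theorem cz {z g h : G} (hh : h ∈ center G) (e : g * z * g⁻¹ = z * h) : orderOf h ∣ orderOf z := by
  have h1 : Commute z h := mem_center_iff.1 hh z
  have h2 := h1.mul_pow (orderOf z)
  rw [← e, conj_pow, pow_orderOf_eq_one, mul_one, mul_inv_cancel, one_mul] at h2
  exact orderOf_dvd_of_pow_eq_one h2.symm

theorem c1_mul {z : G} (hz : z ∈ center G) (u : G) : C1[z * u] = C1[u] := by
  ext g
  rw [mem_cent1, mem_cent1, ← mul_assoc, mem_center_iff.1 hz g, mul_assoc, mul_assoc, mul_left_cancel_iff]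

theorem zp_comm {g a b : G} (ha : a ∈ zpowers g) (hb : b ∈ zpowers g) : a ∈ C1[b] :=
  mem_cent1.2 (mem_cent.1 (comm_iff.1 (inferInstance : IsMulCommutative (zpowers g)) hb) a ha)

def Pn (n : ℕ) : Set ℕ := {p | p ∣ n}

theorem pn_self {n k : ℕ} (h : k ∣ n) : IsPiNat (Pn n) k := fun _ _ hp => hp.trans h

theorem pn_cop {n k : ℕ} (h : k.Coprime n) : IsPiNat (Pn n)ᶜ k := fun _ hp h1 h2 =>
  hp.one_lt.ne' (Nat.eq_one_of_dvd_coprimes h h1 h2)

theorem cop_of_sy {A B : Subgroup G} {n : ℕ} (h : ∀ u ∈ B, PE[Pn n] u → u ∈ A) :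
    (A.relIndex B).Coprime n := by
  refine Nat.coprime_of_dvd fun p hp h1 h2 => ?_
  have : Fact p.Prime := ⟨hp⟩
  obtain ⟨P, hP⟩ := sy_exists p B
  refine sy_not_dvd hP hp (h1.trans (relIndex_dvd_of_le_left B fun u hu => h u (hP.1 hu) ?_))
  exact (pe_of_mem (hl_pi hP) hu).mono fun q hq => by rw [Set.mem_singleton_iff.1 hq]; exact h2

structure Hy (m n : ℕ) (x y : G) : Prop where
  hn : 1 < n
  hmn : n < m
  cop : m.Coprime n
  top : ∀ z : G, C1[z].index ≤ m
  sec : ∀ z : G, C1[z].index < m → C1[z].index ≤ n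
  hx : C1[x].index = n
  hy : C1[y].index = m

variable {m n : ℕ} {x y : G}

namespace Hy

theorem sw (h : Hy m n x y) {x' y' : G} (h1 : C1[x'].index = n) (h2 : C1[y'].index = m) : Hy m n x' y' :=
  ⟨h.hn, h.hmn, h.cop, h.top, h.sec, h1, h2⟩

theorem le (h : Hy m n x y) {z : G} (hz : C1[z].index ≠ m) : C1[z].index ≤ n :=
  h.sec z (lt_of_le_of_ne (h.top z) hz)

theorem Sm (h : Hy m n x y) : Nat.card (St y) ∣ m := h.hy ▸ St_dvd y

theorem Sp (h : Hy m n x y) : IsPiNat (Pn n)ᶜ (Nat.card (St y)) := (pn_cop h.cop).of_dvd h.Sm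

theorem m1 (h : Hy m n x y) {z : G} (hz : C1[z].index.Coprime m) (g : G) :
    z⁻¹ * (g * z * g⁻¹) ∈ St y := mem_St (h.hy ▸ hz) (h.hy ▸ h.top _) g

theorem m2 (h : Hy m n x y) {z : G} (hz : C1[z].index.Coprime m) : St y ≤ C1[z] :=
  le_c1 (Nat.Coprime.coprime_dvd_left h.Sm hz.symm)

theorem m3 (h : Hy m n x y) {z w : G} (hz : C1[z].index.Coprime m) (hw : C1[w].index.Coprime m) :
    w ∈ C1[z] :=
  cent_le (Nat.Coprime.coprime_dvd_left h.Sm hz.symm) (h.m1 hz) (le_cent1.1 (h.m2 hw))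

theorem m4 (h : Hy m n x y) {z : G} (hz : C1[z].index.Coprime m) (hp : PE[Pn n] z) : z ∈ center G :=
  H9.mem_of_pow_mem_of_coprime (pw (h.m2 hz) (h.m1 hz)) (by rw [pow_orderOf_eq_one]; exact one_mem _)
    (hp.coprime h.Sp).symm

theorem xc (h : Hy m n x y) (g : G) : C1[g * x * g⁻¹].index.Coprime m := by
  rw [H8.index_centralizer_conj, h.hx]; exact h.cop.symm

theorem xc' (h : Hy m n x y) : C1[x].index.Coprime m := by rw [h.hx]; exact h.cop.symm

theorem xin (h : Hy m n x y) : x ∈ C1[x].normalCore := fun g => h.m3 h.xc' (h.xc g)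

theorem red (h : Hy m n x y) : ∃ x', C1[x'] = C1[x] ∧ PE[(Pn n)ᶜ] x' := by
  obtain ⟨u, hu, v, hv, e, h1, h2⟩ := exists_pi_part (Pn n) x
  refine ⟨v, ?_, h2⟩
  rw [← e, c1_mul (h.m4 (Nat.Coprime.coprime_dvd_left
    (H8.index_centralizer_dvd_of_mem_zpowers hu) h.xc') h1)]

theorem sA (h : Hy m n x y) (px : PE[(Pn n)ᶜ] x) {a : G} (ha : a ∈ C1[x]) (pa : PE[Pn n] a) :
    a ∈ center G := by
  have e := cent1_mul ha (pa.coprime px)
  have d : n ∣ C1[a * x].index := by rw [← h.hx, e]; exact index_dvd_of_le inf_le_right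
  have h1 : C1[a * x].index ≠ m := fun e' => h.hn.ne' (Nat.eq_one_of_dvd_coprimes h.cop (e' ▸ d) dvd_rfl)
  have h2 : C1[a * x] = C1[x] := by
    apply eq_of_le_of_card (e.le.trans inf_le_right)
    have h3 := C1[a * x].card_mul_index
    rw [le_antisymm (h.le h1) (Nat.le_of_dvd (H8.index_centralizer_pos _) d), ← C1[x].card_mul_index,
      h.hx] at h3
    exact (Nat.eq_of_mul_eq_mul_right (by have := h.hn; omega) h3).ge
  exact h.m4 (Nat.Coprime.coprime_dvd_left (index_dvd_of_le (h2.ge.trans (e.le.trans inf_le_left)))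
    h.xc') pa

theorem ymax (h : Hy m n x y) {b v : G} (hv : C1[v] = C1[y]) (hb : b ∈ C1[v])
    (hc : (orderOf b).Coprime (orderOf v)) : C1[y] ≤ C1[b] := by
  have e := cent1_mul hb hc
  have h2 : C1[b * v] = C1[v] := by
    apply eq_of_le_of_card (e.le.trans inf_le_right)
    have h3 := C1[b * v].card_mul_index
    have h4 := C1[v].card_mul_index
    rw [hv, h.hy] at h4
    rw [hv]
    have := Nat.mul_le_mul_left (Nat.card C1[b * v]) (h.top (b * v))
    rw [h3, ← h4] at this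
    exact Nat.le_of_mul_le_mul_right this (by have := h.hmn; omega)
  exact hv.ge.trans (h2.ge.trans (e.le.trans inf_le_left))

theorem sB (h : Hy m n x y) {b : G} (hb : b ∈ C1[y]) (hc : C1[y] ≤ C1[b]) (pb : PE[(Pn n)ᶜ] b) :
    b ∈ C1[x].normalCore := by
  have cp : C1[x].index.Coprime C1[y].index := h.hy ▸ h.xc'
  have h1 : b ∈ C1[x] := by
    have := relDvd (A := C1[x]) (zpowers_le.2 hb) (norm_of_cent (by rwa [cent_zpowers]))
    rw [relIdx cp, h.hx] at this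
    refine zpowers_le.1 (relIndex_eq_one.1 (Nat.eq_one_of_dvd_coprimes
      ((pn_self dvd_rfl).coprime pb) this ?_))
    rw [← H16.card_zpowers]; exact relIndex_dvd_card _ _
  intro g
  obtain ⟨a, ha, d, hd, rfl⟩ := prod cp g
  rw [show a * d * b * (a * d)⁻¹ = a * (d * b) * d⁻¹ * a⁻¹ by group, mem_cent1.1 (hc hd),
    show a * (b * d) * d⁻¹ * a⁻¹ = a * b * a⁻¹ by group]
  exact mul_mem (mul_mem ha h1) (inv_mem ha)

theorem sD (h : Hy m n x y) (px : PE[(Pn n)ᶜ] x) {b : G} (hb : b ∈ C1[x].normalCore) :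
    C1[b].index ≠ m := by
  intro hm
  obtain ⟨u, hu, v, hv, e, h1, h2⟩ := exists_pi_part (Pn n) b
  have hle := zpowers_le.2 (normalCore_le _ hb)
  have hv' : C1[v] = C1[b] := by rw [← e, c1_mul (h.sA px (hle hu) h1)]
  have h' := h.sw h.hx hm
  have := cop_of_sy (A := C1[x]) (B := C1[b]) (n := n) fun w hw pw =>
    cent1_comm.1 (h'.ymax hv' (hv'.ge hw) (pw.coprime h2) (cent1_comm.1 (normalCore_le _ hb)))
  rw [relIdx (hm ▸ h.xc'), h.hx] at this
  exact h.hn.ne' (Nat.eq_one_of_dvd_coprimes this dvd_rfl dvd_rfl)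

theorem sC (h : Hy m n x y) (px : PE[(Pn n)ᶜ] x) {z : G} (hz : z ∈ C1[x].normalCore)
    (pz : PE[(Pn n)ᶜ] z) (hc : C1[z].index ∣ m) : z ∈ center G := by
  rw [mem_center_iff]
  intro g
  have h1 := mem_St (a := z) (b := x) (h.hx ▸ Nat.Coprime.coprime_dvd_left hc h.cop)
    (h.hx ▸ h.le (h.sD px (mul_mem hz h.xin))) g
  have p1 : PE[Pn n] (z⁻¹ * (g * z * g⁻¹)) :=
    pn_self ((H16.orderOf_dvd_card h1).trans (h.hx ▸ St_dvd x))
  have h2 := h.sA px (mul_mem (inv_mem (normalCore_le _ hz)) (hz g)) p1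
  have h3 := eq_one_of_pe p1 (pz.of_dvd (cz (g := g) h2 (by group)))
  rw [inv_mul_eq_one] at h3
  exact mul_inv_eq_iff_eq_mul.1 h3.symm

theorem redy (h : Hy m n x y) (px : PE[(Pn n)ᶜ] x) : ∃ v, C1[v] = C1[y] ∧ PE[Pn n] v := by
  obtain ⟨u, hu, v, hv, e, h1, h2⟩ := exists_pi_part (Pn n) y
  have hc := cent1_le_of_mem_zpowers hv
  have := h.sC px (h.sB (mem_cent1_of_mem_zpowers hv) hc h2) h2 (h.hy ▸ index_dvd_of_le hc)
  exact ⟨u, by rw [← e, mem_center_iff.1 this u, c1_mul this], h1⟩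

theorem sE (h : Hy m n x y) (px : PE[(Pn n)ᶜ] x) {b : G} (hb : b ∈ C1[y]) (pb : PE[(Pn n)ᶜ] b) :
    b ∈ center G := by
  obtain ⟨v, hv, pv⟩ := h.redy px
  have hc := h.ymax hv (hv.ge hb) (pv.coprime pb).symm
  exact h.sC px (h.sB hb hc pb) pb (h.hy ▸ index_dvd_of_le hc)

theorem sF (h : Hy m n x y) (px : PE[(Pn n)ᶜ] x) {u : G} (pu : PE[Pn n] u) (hu : u ∉ center G) :
    C1[u].index = m := by
  let H := St y ⊓ C[St y]
  let W := H ⊔ zpowers x
  have hxH : x ∈ C[H] := cent_anti inf_le_left (le_cent1.1 (h.m2 h.xc'))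
  have hWc : IsMulCommutative W := H9.isMulCommutative_sup_zpowers (comm_center _) hxH
  have hxW : x ∈ W := (le_sup_right : _ ≤ H ⊔ _) (mem_zpowers x)
  have hWn : W.Normal := by
    rw [← normalizer_eq_top_iff, eq_top_iff, le_norm_iff_cj]
    intro g _
    rw [cj_sup, ← zpowers_cj, cj_norm (by simp [normalizer_eq_top])]
    refine sup_le le_sup_left (zpowers_le.2 ?_)
    rw [show g * x * g⁻¹ = x * (x⁻¹ * (g * x * g⁻¹)) by group]
    exact mul_mem hxW ((le_sup_left : H ≤ _) ⟨h.m1 h.xc' g, C[St y].mul_mem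
      (C[St y].inv_mem (le_cent1.1 (h.m2 h.xc'))) (le_cent1.1 (h.m2 (h.xc g)))⟩)
  have hWp : IsPiNat (Pn n)ᶜ (Nat.card W) :=
    ((h.Sp.of_dvd (card_dvd inf_le_left)).mul (pe_zpowers px)).of_dvd
      (card_sup_dvd (Or.inr (zpowers_le.2 (cent_le_norm _ hxH))))
  have huW : u ∈ N[W] := by simp [normalizer_eq_top]
  obtain ⟨x1, ⟨h1, h2⟩, x2, h3, e⟩ := exists_centralizer_mul_commutator (A := zpowers u) (K := W)
    (zpowers_le.2 huW) (IsPiNat.coprime (pe_zpowers pu) hWp) (Or.inr (sol_of_comm hWc)) hxW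
  have h2' : u ∈ C1[x1] := by rw [cent1_comm, ← cent_zpowers]; exact h2
  have p1 : PE[(Pn n)ᶜ] x1 := pe_of_mem hWp h1
  have e1 := cent1_mul h2' (pu.coprime p1)
  have x2ne : x2 ≠ 1 := fun e' => hu (h.sA px (by rwa [e, e', mul_one]) pu)
  have hW2 : ⁅W, zpowers u⁆ ≤ W := commutator_le_left _ _
  have d1 : Nat.card (⁅W, zpowers u⁆ : Subgroup G) ∣ C1[u].index := by
    rw [← H4.relIndex_centralizer_zpowers hWc huW, inf_relIndex_left, cent_zpowers]
    exact H8.relIndex_dvd_index_of_normal' _ _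
  have hL : C1[x2] ⊓ C1[u * x1] ≤ C1[x] := fun g hg => by
    rw [e, mem_cent1, ← mul_assoc, mem_cent1.1 (e1.le hg.2).2, mul_assoc, mem_cent1.1 hg.1, mul_assoc]
  have d2 : n * Nat.card (⁅W, zpowers u⁆ : Subgroup G) ∣ (C1[x2] ⊓ C1[u * x1]).index :=
    Nat.Coprime.mul_dvd_of_dvd_of_dvd ((pn_self dvd_rfl).coprime (hWp.of_dvd (card_dvd hW2)))
      (h.hx ▸ index_dvd_of_le hL) (d1.trans (index_dvd_of_le (inf_le_right.trans
        (e1.le.trans inf_le_left))))
  have d3 : C1[x2].relIndex C1[u * x1] < Nat.card (⁅W, zpowers u⁆ : Subgroup G) := by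
    rw [← H8.card_conj_orbit]
    refine Set.ncard_lt_ncard (s := {y : G | ∃ h ∈ C1[u * x1], h * x2 * h⁻¹ = y})
      (t := (⁅W, zpowers u⁆ : Subgroup G)) ⟨?_, fun hh => ?_⟩
    · rintro _ ⟨g, hg, rfl⟩
      refine conj_mem (norm_comm (A := C1[u]) (by simp [normalizer_eq_top])
        (norm_of_cent (cent_zpowers u).ge) (e1.le hg).1) h3
    · obtain ⟨g, -, hg⟩ := hh (one_mem _)
      exact x2ne (H16.conj_eq_one_iff.1 hg)
  have h5 : C1[u * x1].index = m := by
    by_contra hne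
    have h6 := Nat.le_of_dvd (Nat.pos_of_ne_zero index_ne_zero_of_finite) d2
    rw [← relIndex_mul_index (inf_le_right : C1[x2] ⊓ C1[u * x1] ≤ _), inf_relIndex_right] at h6
    have := h.le hne
    have := h.hn
    nlinarith
  have h6 := (h.sw h.hx h5).sE px (b := x1) (by
    rw [cent1_comm]; exact e1.le.trans inf_le_right (cent1_self _)) p1
  rwa [mem_center_iff.1 h6 u, c1_mul h6] at h5

theorem sG (h : Hy m n x y) (px : PE[(Pn n)ᶜ] x) {a : G} (pa : PE[(Pn n)ᶜ] a) :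
    C1[a].index.Coprime m := by
  by_cases ha : a ∈ center G
  · rw [H8.index_centralizer_eq_one_iff.2 ha]; exact Nat.coprime_one_left m
  have h1 : C1[a].index ≠ m := fun e => ha ((h.sw h.hx e).sE px (cent1_self a) pa)
  have h2 := cop_of_sy (A := C1[x]) (B := C1[a]) (n := n) fun w hw pw => by
    by_cases hw' : w ∈ center G
    · exact mem_cent1.2 (mem_center_iff.1 hw' x).symm
    · exact absurd ((h.sw h.hx (h.sF px pw hw')).sE px (cent1_comm.1 hw) pa) ha
  have h3 : n ∣ C1[a].index := by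
    refine h2.symm.dvd_of_dvd_mul_left ?_
    rw [← inf_relIndex_right, relIndex_mul_index inf_le_right, ← h.hx]
    exact index_dvd_of_le inf_le_left
  rw [le_antisymm (h.le h1) (Nat.le_of_dvd (H8.index_centralizer_pos _) h3)]
  exact h.cop.symm

theorem memA (h : Hy m n x y) (px : PE[(Pn n)ᶜ] x) {a : G} :
    a ∈ C1[x] ↔ ∃ z ∈ center G, ∃ v, PE[(Pn n)ᶜ] v ∧ a = z * v := by
  constructor
  · intro ha
    obtain ⟨u, hu, v, hv, e, h1, h2⟩ := exists_pi_part (Pn n) a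
    exact ⟨u, h.sA px (zpowers_le.2 ha hu) h1, v, h2, e.symm⟩
  · rintro ⟨z, hz, v, hv, rfl⟩
    exact mul_mem (mem_cent1.2 (mem_center_iff.1 hz x).symm) (h.m3 h.xc' (h.sG px hv))

theorem memB (h : Hy m n x y) (px : PE[(Pn n)ᶜ] x) {b : G} (hb : b ∈ C1[y]) :
    ∃ z ∈ center G, ∃ v, PE[Pn n] v ∧ b = z * v := by
  obtain ⟨u, hu, v, hv, e, h1, h2⟩ := exists_pi_part (Pn n) b
  have := h.sE px (zpowers_le.2 hb hv) h2
  exact ⟨v, this, u, h1, by rw [← e, mem_center_iff.1 this]⟩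

theorem Acomm (h : Hy m n x y) (px : PE[(Pn n)ᶜ] x) : IsMulCommutative C1[x] := by
  rw [comm_iff]
  intro a ha
  rw [mem_cent]
  intro b hb
  obtain ⟨z, hz, v, hv, rfl⟩ := (h.memA px).1 ha
  obtain ⟨z', hz', v', hv', rfl⟩ := (h.memA px).1 hb
  rw [← mem_cent1, c1_mul hz, cent1_comm, c1_mul hz']
  exact h.m3 (h.sG px hv') (h.sG px hv)

theorem Anorm (h : Hy m n x y) (px : PE[(Pn n)ᶜ] x) : C1[x].Normal := ⟨fun a ha g => by
  obtain ⟨z, hz, v, hv, rfl⟩ := (h.memA px).1 ha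
  exact (h.memA px).2 ⟨z, hz, _, pe_cj hv g, by rw [← mul_assoc, mem_center_iff.1 hz g]; group⟩⟩

theorem AB (h : Hy m n x y) (px : PE[(Pn n)ᶜ] x) {a : G} (ha : a ∈ C1[x]) (hb : a ∈ C1[y]) :
    a ∈ center G := by
  obtain ⟨z, hz, v, hv, rfl⟩ := h.memB px hb
  refine mul_mem hz (h.sA px ?_ hv)
  exact (mul_mem_cancel_left (mem_cent1.2 (mem_center_iff.1 hz x).symm)).1 ha

theorem fix (h : Hy m n x y) (px : PE[(Pn n)ᶜ] x) {a b : G} (ha : a ∈ C1[x]) (hb : b ∈ C1[y])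
    (hab : a * b * a⁻¹ ∈ C1[y]) : a ∈ C1[b] := by
  have := h.Anorm px
  have h1 : b⁻¹ * (a * b * a⁻¹) ∈ center G := h.AB px (by
    rw [show b⁻¹ * (a * b * a⁻¹) = b⁻¹ * a * b * a⁻¹ by group]
    exact mul_mem (this.conj_mem' _ ha b) (inv_mem ha)) (mul_mem (inv_mem hb) hab)
  obtain ⟨z, hz, v, hv, rfl⟩ := (h.memA px).1 ha
  obtain ⟨z', hz', u, hu, rfl⟩ := h.memB px hb
  obtain ⟨w, hw⟩ : ∃ w, w = (z' * u)⁻¹ * (z * v * (z' * u) * (z * v)⁻¹) := ⟨_, rfl⟩
  rw [← hw] at h1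
  have e1 : v * u * v⁻¹ = u * w := by
    have c1 : z * v * (z' * u) * (z * v)⁻¹ = z' * (v * u * v⁻¹) := by
      calc z * v * (z' * u) * (z * v)⁻¹ = z * (v * z' * u * v⁻¹) * z⁻¹ := by group
        _ = _ := by rw [← mem_center_iff.1 hz, mem_center_iff.1 hz' v]; group
    rw [hw, c1]; group
  have e2 : u * v * u⁻¹ = v * w⁻¹ := by
    have : u = v * u * v⁻¹ * w⁻¹ := by rw [e1]; group
    calc u * v * u⁻¹ = v * u * v⁻¹ * w⁻¹ * v * u⁻¹ := by rw [← this]
      _ = v * u * v⁻¹ * (v * w⁻¹) * u⁻¹ := by rw [mem_center_iff.1 (inv_mem h1) v]; group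
      _ = v * (u * w⁻¹) * u⁻¹ := by group
      _ = _ := by rw [mem_center_iff.1 (inv_mem h1) u]; group
  have w1 : w = 1 := eq_one_of_pe (hu.of_dvd (cz h1 e1))
    (hv.of_dvd (by rw [← orderOf_inv]; exact cz (inv_mem h1) e2))
  rw [c1_mul hz', cent1_comm, c1_mul hz, cent1_comm, mem_cent1]
  rw [w1, mul_one] at e1
  exact mul_inv_eq_iff_eq_mul.1 e1

theorem Bcent (h : Hy m n x y) (px : PE[(Pn n)ᶜ] x) {b : G} (hb : b ∈ C1[y]) : C1[y] ≤ C1[b] := by
  have := h.Anorm px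
  intro c hc
  by_cases hz : b ∈ center G
  · exact mem_cent1.2 (mem_center_iff.1 hz c)
  obtain ⟨z, hz', u, hu, rfl⟩ := h.memB px hb
  have h1 : C1[z * u].index = m := by
    rw [c1_mul hz']; exact h.sF px hu fun h' => hz (mul_mem hz' h')
  obtain ⟨a, ha, d, hd, rfl⟩ := prod (H := C1[x]) (L := C1[z * u]) (h1 ▸ h.xc') c
  refine mul_mem (h.fix px ha hb ?_) hd
  have : a * (z * u) * a⁻¹ = a * d * (z * u) * (a * d)⁻¹ := by
    rw [mul_assoc a d, mem_cent1.1 hd]; group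
  rw [this]
  exact mul_mem (mul_mem hc hb) (inv_mem hc)

theorem Beq (h : Hy m n x y) (px : PE[(Pn n)ᶜ] x) {b : G} (hb : b ∈ C1[y]) (hz : b ∉ center G) :
    C1[y] = C1[b] := by
  apply eq_of_le_of_card (h.Bcent px hb)
  obtain ⟨z, hz', u, hu, rfl⟩ := h.memB px hb
  have h1 : C1[z * u].index = m := by
    rw [c1_mul hz']; exact h.sF px hu fun h' => hz (mul_mem hz' h')
  have h3 := C1[z * u].card_mul_index
  rw [h1, ← C1[y].card_mul_index, h.hy] at h3
  exact (Nat.eq_of_mul_eq_mul_right (by have := h.hmn; omega) h3).le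

theorem main (h : Hy m n x y) (px : PE[(Pn n)ᶜ] x) :
    IsMulCommutative C1[x] ∧ IsMulCommutative C1[y] ∧
    IsFrobeniusComplement (C1[y].map (QuotientGroup.mk' (center G))) ∧
    frobeniusKernel (C1[y].map (QuotientGroup.mk' (center G))) =
      (C1[x].map (QuotientGroup.mk' (center G)) : Set (G ⧸ center G)) := by
  have hA := h.Anorm px
  set π := QuotientGroup.mk' (center G) with hπ
  have hs : Function.Surjective π := QuotientGroup.mk'_surjective _
  have π1 : ∀ g, π g = 1 ↔ g ∈ center G := fun g => QuotientGroup.eq_one_iff g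
  have zle : ∀ w : G, π.ker ≤ C1[w] := fun w g hg => mem_cent1.2 (mem_center_iff.1 ((π1 g).1 hg) w).symm
  have mm : ∀ w g : G, π g ∈ C1[w].map π ↔ g ∈ C1[w] := fun w g => by
    rw [← mem_comap, comap_map_eq_self (zle w)]
  have hyz : y ∉ center G := fun e => by
    have := H8.index_centralizer_eq_one_iff.2 e
    have := h.hy; have := h.hn; have := h.hmn; omega
  have idx : (C1[y].map π).index = m := by rw [index_map_eq _ hs (zle y), h.hy]
  have hF : IsFrobeniusComplement (C1[y].map π) := by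
    refine ⟨ne_bot_of_mem (mem_map_of_mem π (cent1_self y)) fun e => hyz ((π1 y).1 e), fun e => ?_,
      fun g hg => ?_⟩
    · rw [e, index_top] at idx
      have := h.hn; have := h.hmn; omega
    obtain ⟨g, rfl⟩ := hs g
    rw [eq_bot_iff]
    rintro _ ⟨⟨b, hb, rfl⟩, h2⟩
    by_contra hne
    have hz : b ∉ center G := fun e => hne ((π1 b).2 e)
    have h3 : g⁻¹ * b * g ∈ C1[y] := by
      rw [← mm, map_mul, map_mul, map_inv]; exact H16.mem_cj.1 h2
    have hz' : g⁻¹ * b * g ∉ center G := fun e => hz (by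
      have := (inferInstance : (center G).Normal).conj_mem _ e g
      rwa [show g * (g⁻¹ * b * g) * g⁻¹ = b by group] at this)
    have h4 : g * y * g⁻¹ ∈ C1[y] := by
      have := mem_cent1.1 ((h.Beq px h3 hz').le (cent1_self y))
      rw [h.Beq px hb hz, mem_cent1]
      calc g * y * g⁻¹ * b = g * (y * (g⁻¹ * b * g)) * g⁻¹ := by group
        _ = _ := by rw [this]; group
    obtain ⟨d, hd, a, ha, rfl⟩ := prod (H := C1[y]) (L := C1[x]) (h.hy ▸ h.xc'.symm) g
    refine hg ((mm _ _).2 (mul_mem hd (h.fix px ha (cent1_self y) ?_)))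
    rw [show a * y * a⁻¹ = d⁻¹ * (d * a * y * (d * a)⁻¹) * d by group]
    exact mul_mem (mul_mem (inv_mem hd) h4) hd
  refine ⟨h.Acomm px, comm_iff.2 fun b hb => mem_cent.2 fun c hc => mem_cent1.1 (h.Bcent px hb hc),
    hF, ?_⟩
  symm
  refine Set.eq_of_subset_of_ncard_le ?_ ?_
  · rintro _ ⟨a, ha, rfl⟩
    rw [H2.mem_frobKernel_iff]
    by_cases hz : a ∈ center G
    · exact Or.inl ((π1 a).2 hz)
    refine Or.inr fun g hg => hz ?_
    obtain ⟨g, rfl⟩ := hs g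
    rw [← map_inv, ← map_mul, ← map_mul, mm] at hg
    have := (inferInstance : (center G).Normal).conj_mem _ (h.AB px (hA.conj_mem' _ ha g) hg) g
    rwa [show g * (g⁻¹ * a * g) * g⁻¹ = a by group] at this
  · rw [← Nat.card_coe_set_eq, H2.card_frobKernel hF, idx, ← Nat.card_coe_set_eq]
    change m ≤ Nat.card (C1[x].map π)
    rw [← relIndex_ker, ← h.hy, ← relIdx (H := C1[y]) (L := C1[x]) (h.hy ▸ h.xc'.symm)]
    exact relIndex_le_of_le_left (zle y) (H16.relIndex_pos _ _).ne'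

end Hy

end H17.Cs
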