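import Cfsg.Agent.H17.Exa1

/-! The central involution is not conjugate to a non-central involution of the extraspecial group. -/

set_option autoImplicit false
set_option linter.unusedSectionVars false
open Subgroup Equiv H7J

namespace H17.Exa

variable {G : Type*} [Group G] [Finite G] {ψ : P →* G}

theorem eq_iff (h : Hy ψ) {x y : P} : ψ x = ψ y ↔ Q x y := by
  rw [eq_comm, ← inv_mul_eq_one, ← map_inv, ← map_mul, h.ker, inv_mul_eq_one, inv_mul_eq_iff_eq_mul,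
    eq_comm, Q]

theorem exa (h : Hy ψ) : ¬ IsConj (ψ z0) (ψ a0) := by
  intro hc
  obtain ⟨g0, hg0⟩ := isConj_iff.1 hc
  have one : ∀ {x : P}, ψ x = 1 ↔ Q x 1 := fun {x} => by rw [← eq_iff h, map_one]
  have za : ψ a0 * ψ z0 = ψ z0 * ψ a0 := (h.cz _).2 ⟨_, rfl⟩
  have zz : ψ z0 * ψ z0 = 1 := by rw [← map_mul, one]; decide
  obtain ⟨g, g1, g2⟩ : ∃ g : G, g * ψ z0 * g⁻¹ = ψ a0 ∧ g * ψ a0 * g⁻¹ = ψ z0 := by
    obtain ⟨x, hx⟩ := (h.cz (g0⁻¹ * ψ z0 * g0)).1 (by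
      calc _ = g0⁻¹ * (ψ z0 * (g0 * ψ z0 * g0⁻¹)) * g0 := by group
        _ = g0⁻¹ * (g0 * ψ z0 * g0⁻¹ * ψ z0) * g0 := by rw [hg0, za]
        _ = _ := by group)
    have hx' : g0 * ψ x * g0⁻¹ = ψ z0 := by rw [hx]; group
    rcases cls x (one.1 (by
      rw [map_mul, hx]
      calc _ = g0⁻¹ * (ψ z0 * ψ z0) * g0 := by group
        _ = 1 := by rw [zz]; group)) with e | e | ⟨k, -, e⟩ | e
    · rw [one.2 e, mul_one, mul_inv_cancel] at hx'
      exact absurd (one.1 hx'.symm) (by decide)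
    · rw [(eq_iff h).2 e, hg0] at hx'
      exact absurd ((eq_iff h).1 hx') (by decide)
    · have e' := (eq_iff h).2 e
      rw [map_mul, map_mul] at e'
      have kz := (h.cz (ψ k)).2 ⟨_, rfl⟩
      refine ⟨g0 * (ψ k)⁻¹, ?_, ?_⟩
      · rw [← hg0]
        calc _ = g0 * ((ψ k)⁻¹ * (ψ z0 * ψ k)) * g0⁻¹ := by group
          _ = _ := by rw [← kz]; group
      · rw [← hx']
        calc _ = g0 * ((ψ k)⁻¹ * (ψ a0 * ψ k)) * g0⁻¹ := by group
          _ = _ := by rw [← e']; group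
    · exfalso
      generalize hr : (⟨qw, x.a⁻¹ * qw * x.a, false⟩ : P) = r at e
      have r3 : r * r * r = 1 := by
        subst hr
        refine P.ext (by change qw * qw * qw = 1; decide) ?_ rfl
        change x.a⁻¹ * qw * x.a * (x.a⁻¹ * qw * x.a) * (x.a⁻¹ * qw * x.a) = 1
        calc _ = x.a⁻¹ * (qw * qw * qw) * x.a := by group
          _ = 1 := by rw [show qw * qw * qw = 1 by decide]; group
      have r1 : ¬ Q r 1 := by
        subst hr
        rintro (e | e)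
        · exact absurd (show qw = (1 : P).a from congrArg P.a e) (by decide)
        · exact absurd (show qw = (1 * k0).a from congrArg P.a e) (by decide)
      obtain ⟨p, hp⟩ := (h.cz (g0 * ψ r * g0⁻¹)).1 (by
        rw [← hx']
        calc _ = g0 * ψ (r * x) * g0⁻¹ := by rw [map_mul]; group
          _ = _ := by rw [e, map_mul]; group)
      have rz := (h.cz (ψ r)).2 ⟨_, rfl⟩
      have := one.2 (no3 p ((eq_iff h).1 (by
        rw [map_mul, map_mul, hp, ← hg0]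
        calc _ = g0 * (ψ r * ψ z0) * g0⁻¹ := by group
          _ = _ := by rw [rz]; group)) (one.1 (by
        rw [map_mul, map_mul, hp]
        calc _ = g0 * ψ (r * r * r) * g0⁻¹ := by rw [map_mul, map_mul]; group
          _ = 1 := by rw [r3, map_one]; group)))
      rw [hp] at this
      exact r1 (one.1 (by simpa using this))
  have ad : ∀ c d, ψ (vv (c + d)) = ψ (vv c) * ψ (vv d) := fun c d => by
    rw [← map_mul, (eq_iff h).2 (v_add c d)]
  have ez : ψ (vv zv) = ψ z0 := (eq_iff h).2 v_z.1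
  have ea : ψ (vv av) = ψ a0 := (eq_iff h).2 v_z.2.1
  have e0 : ψ (vv 0) = 1 := by rw [v_z.2.2, map_one]
  have cm : ∀ c d, ψ (vv c) * ψ (vv d) = ψ (vv d) * ψ (vv c) := fun c d => by
    rw [← ad, ← ad, add_comm]
  have cad : ∀ c d, g * ψ (vv (c + d)) * g⁻¹ = g * ψ (vv c) * g⁻¹ * (g * ψ (vv d) * g⁻¹) :=
    fun c d => by rw [ad]; group
  have nZ : ∀ d, ∀ c ∈ Zl, g * ψ (vv d) * g⁻¹ = ψ (vv c) → d ∈ Zl := by
    intro d c hc e
    obtain ⟨c', hc', e'⟩ : ∃ c' ∈ Zl, g * ψ (vv c') * g⁻¹ = ψ (vv c) := by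
      simp only [Zl, List.mem_cons, List.not_mem_nil, or_false] at hc
      rcases hc with rfl | rfl | rfl | rfl
      · exact ⟨0, by decide, by rw [e0]; group⟩
      · exact ⟨av, by decide, by rw [ea, ez, g2]⟩
      · exact ⟨zv, by decide, by rw [ea, ez, g1]⟩
      · exact ⟨zv + av, by decide, by rw [cad, ad, ea, ez, g1, g2, za]⟩
    rw [v_inj d c' ((eq_iff h).1 (by simpa using e.trans e'.symm))]
    exact hc'
  have ty : ∀ d, (∃ c, g * ψ (vv d) * g⁻¹ = ψ (vv c)) ∨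
      ∃ c ∈ Zl, g * ψ (vv d) * g⁻¹ = ψ (o0 * vv c) := by
    intro d
    obtain ⟨x, hx⟩ := (h.cz (g * ψ (vv d) * g⁻¹)).1 (by
      rw [← g2, ← ea, ← cad, ← cad, add_comm])
    rw [← hx]
    rcases inS x (one.1 (by
        rw [map_mul, hx, ← cad, (by decide : ∀ d : B, d + d = 0), e0]; group))
      ((eq_iff h).1 (by rw [map_mul, map_mul, hx, ← g1, ← ez, ← cad, ← cad, add_comm]))
      with ⟨c, e⟩ | ⟨c, hc, e⟩
    · exact Or.inl ⟨c, (eq_iff h).2 e⟩
    · exact Or.inr ⟨c, hc, (eq_iff h).2 e⟩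
  have two : ∀ d d', d' ∉ Zl → d + d' ∉ Zl → ∃ c, g * ψ (vv d) * g⁻¹ = ψ (vv c) := by
    intro d d' n1 n2
    rcases ty d with e | ⟨c, hc, e⟩
    · exact e
    · exfalso
      rcases ty d' with ⟨c', e'⟩ | ⟨c', hc', e'⟩
      · refine n1 (nZ _ _ (o1 c hc c' ((eq_iff h).1 ?_)) e')
        rw [map_mul _ (o0 * vv c), map_mul _ (vv c'), ← e, ← e', ← cad, ← cad, add_comm]
      · obtain ⟨f, hf, q⟩ := o2 c hc c' hc'
        exact n2 (nZ _ f hf (by rw [cad, e, e', ← map_mul, (eq_iff h).2 q]))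
  obtain ⟨c1, h1⟩ := two (1, 0, 0, 0) (0, 0, 1, 0) (by decide) (by decide)
  obtain ⟨c3, h3⟩ := two (0, 0, 1, 0) (1, 0, 0, 0) (by decide) (by decide)
  have h2 : g * ψ (vv (0, 1, 0, 0)) * g⁻¹ = ψ (vv (c1 + zv)) := by
    rw [show ((0, 1, 0, 0) : B) = (1, 0, 0, 0) + av by decide, cad, h1, ea, g2, ad, ez]
  have h4 : g * ψ (vv (0, 0, 0, 1)) * g⁻¹ = ψ (vv (c3 + zv + av)) := by
    rw [show ((0, 0, 0, 1) : B) = (0, 0, 1, 0) + av + zv by decide, cad, cad, h3, ea, ez, g1, g2,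
      ad, ad, ez, ea]
  have sm : ∀ (k : ZMod 2) (d c : B), g * ψ (vv d) * g⁻¹ = ψ (vv c) →
      g * ψ (vv (k • d)) * g⁻¹ = ψ (vv (k • c)) := by
    intro k d c e
    obtain rfl | rfl : k = 0 ∨ k = 1 := by revert k; decide
    · rw [zero_smul, zero_smul, e0]; group
    · rw [one_smul, one_smul, e]
  have hX : ∀ c, g * ψ (vv c) * g⁻¹ = ψ (vv (fX c1 c3 c)) := fun c => by
    have : c = c.1 • ((1, 0, 0, 0) : B) + c.2.1 • ((0, 1, 0, 0) : B) + c.2.2.1 • ((0, 0, 1, 0) : B) +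
        c.2.2.2 • ((0, 0, 0, 1) : B) := by simp
    rw [fX, ad, ad, ad, ← sm _ _ _ h1, ← sm _ _ _ h2, ← sm _ _ _ h3, ← sm _ _ _ h4, ← cad, ← cad,
      ← cad, ← this]
  have act : ∀ u : List ℕ, ∃ n : G, ∀ c, n * ψ (vv c) * n⁻¹ = ψ (vv (ev c1 c3 u c)) := by
    intro u
    induction u with
    | nil => exact ⟨1, fun c => by simp [ev]⟩
    | cons l u ih =>
      obtain ⟨n, hn⟩ := ih
      obtain ⟨m, hm⟩ : ∃ m : G, ∀ c, m * ψ (vv c) * m⁻¹ =
          ψ (vv ((if l = 0 then fX c1 c3 else if l = 1 then fW else fY) c)) := by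
        split_ifs
        · exact ⟨g, hX⟩
        · exact ⟨ψ w0, fun c => by rw [← map_inv, ← map_mul, ← map_mul, (eq_iff h).2 (v_w c)]⟩
        · exact ⟨ψ y0, fun c => by rw [← map_inv, ← map_mul, ← map_mul, (eq_iff h).2 (v_y c)]⟩
      exact ⟨m * n, fun c => by rw [ev, ← hm, ← hn]; group⟩
  obtain ⟨u, -, u1, b, hb, u2⟩ := words c1 c3 (fun k => absurd (nZ _ _ k h1) (by decide))
    (fun k => absurd (nZ _ _ k h3) (by decide))
    (fun k => absurd (nZ ((1, 0, 0, 0) + (0, 0, 1, 0)) _ k (by rw [cad, h1, h3, ad])) (by decide))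
  obtain ⟨n, hn⟩ := act u
  obtain ⟨p, rfl⟩ := (h.cz n).1 (by
    have := hn zv
    rw [u1, ez] at this
    exact mul_inv_eq_iff_eq_mul.1 this)
  obtain ⟨q, hq⟩ := v_tq b hb
  have k := hn b
  rw [hq, ← map_inv, ← map_mul, ← map_mul] at k
  have := cj_tq p q
  rcases (eq_iff h).1 k with e | e <;> rw [e] at this
  · exact u2 (v_inv _ this.1 this.2)
  · exact u2 (v_inv' _ this.1 this.2)

end H17.Exa
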