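import Cfsg.Agent.H7.Jh

/-! Finite facts in the wreath product `SL2(3) wr 2`. -/

set_option autoImplicit false
set_option synthInstance.maxSize 4000
set_option synthInstance.maxHeartbeats 400000
open H7J

namespace H17.Exa

abbrev B := ZMod 2 × ZMod 2 × ZMod 2 × ZMod 2

def vv (c : B) : P := (if c.1 = 1 then pt 1 else 1) * (if c.2.1 = 1 then pt 2 else 1) *
  (if c.2.2.1 = 1 then pt 3 else 1) * (if c.2.2.2 = 1 then pt 4 else 1)

def Q (x y : P) : Prop := x = y ∨ x = y * k0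
instance (x y : P) : Decidable (Q x y) := by unfold Q; infer_instance

def zv : B := (1, 1, 1, 1)
def av : B := (1, 1, 0, 0)
def Zl : List B := [0, zv, av, zv + av]
def bs : List B := [(1, 0, 0, 0), (0, 1, 0, 0), (0, 0, 1, 0), (0, 0, 0, 1)]
def w0 : P := ⟨qw, qw, false⟩
def y0 : P := ⟨qi, 1, false⟩
def o0 : P := pt 1 * pt 3 * y0
def fW (c : B) : B := (c.1, c.2.2.2, c.2.1, c.2.2.1)
def fY (c : B) : B := (c.2.1, c.1, c.2.2.2, c.2.2.1)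
def fX (c1 c3 c : B) : B :=
  c.1 • c1 + c.2.1 • (c1 + zv) + c.2.2.1 • c3 + c.2.2.2 • (c3 + zv + av)
def ev (c1 c3 : B) : List ℕ → B → B
  | [], c => c
  | l :: u, c => (if l = 0 then fX c1 c3 else if l = 1 then fW else fY) (ev c1 c3 u c)
def WL : List (List ℕ) := [[0, 0], [0, 2, 0], [0, 1, 0, 1, 0, 1, 1, 0], [0, 1, 1, 0, 1, 0, 1, 0],
  [0, 1, 0, 2, 1, 0, 1, 1, 0], [0, 1, 0, 1, 0, 1, 2, 1, 0]]

theorem words : ∀ c1 c3 : B, c1 ∉ Zl → c3 ∉ Zl → c1 + c3 ∉ Zl →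
    ∃ u ∈ WL, ev c1 c3 u zv = zv ∧ ∃ b ∈ bs, ev c1 c3 u b ∉ bs := by decide +kernel

theorem v_add : ∀ c d : B, Q (vv c * vv d) (vv (c + d)) := by decide +kernel
theorem v_inj : ∀ c d : B, Q (vv c) (vv d) → c = d := by decide +kernel
theorem v_w : ∀ c : B, Q (w0 * vv c * w0⁻¹) (vv (fW c)) := by decide +kernel
theorem v_y : ∀ c : B, Q (y0 * vv c * y0⁻¹) (vv (fY c)) := by decide +kernel
theorem v_z : Q (vv zv) z0 ∧ Q (vv av) a0 ∧ vv 0 = 1 := by decide +kernel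
theorem v_inv : ∀ c : B, (vv c).s = true → (vv c).a * (vv c).b = 1 → c ∈ bs := by decide +kernel
theorem v_inv' : ∀ c : B, (vv c * k0).s = true → (vv c * k0).a * (vv c * k0).b = 1 → c ∈ bs := by
  decide +kernel
theorem v_tq : ∀ c ∈ bs, ∃ q, vv c = tq q := by
  intro c hc
  simp only [bs, List.mem_cons, List.not_mem_nil, or_false] at hc
  rcases hc with rfl | rfl | rfl | rfl
  exacts [⟨1, by decide⟩, ⟨qi, by decide⟩, ⟨qj, by decide⟩, ⟨qk, by decide⟩]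

theorem cj_tq (p : P) (q : S) :
    (p * tq q * p⁻¹).s = true ∧ (p * tq q * p⁻¹).a * (p * tq q * p⁻¹).b = 1 := by
  obtain ⟨a, b, _ | _⟩ := p
  · refine ⟨rfl, ?_⟩
    change a * q * b⁻¹ * (b * q⁻¹ * a⁻¹) = 1
    group
  · refine ⟨rfl, ?_⟩
    change a * q⁻¹ * b⁻¹ * (b * q * a⁻¹) = 1
    group

def Hl : List P := [1, qw, qw * qw].flatMap fun c => [1, qw, qw * qw].flatMap fun d =>
  [⟨c, d, false⟩, ⟨qj * c, d, false⟩]

theorem cls : ∀ x : P, Q (x * x) 1 → Q x 1 ∨ Q x z0 ∨ (∃ h ∈ Hl, Q (h * x) (a0 * h)) ∨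
    (⟨qw, x.a⁻¹ * qw * x.a, false⟩ : P) * x = x * ⟨qw, x.a⁻¹ * qw * x.a, false⟩ := by
  decide +kernel

theorem no3 : ∀ p : P, Q (p * a0) (a0 * p) → Q (p * p * p) 1 → Q p 1 := by decide +kernel

theorem inS : ∀ x : P, Q (x * x) 1 → Q (x * a0) (a0 * x) →
    (∃ c : B, Q x (vv c)) ∨ ∃ c ∈ Zl, Q x (o0 * vv c) := by decide +kernel

theorem o1 : ∀ c ∈ Zl, ∀ d : B, Q (o0 * vv c * vv d) (vv d * (o0 * vv c)) → d ∈ Zl := by
  decide +kernel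
theorem o2 : ∀ c ∈ Zl, ∀ d ∈ Zl, ∃ e ∈ Zl, Q (o0 * vv c * (o0 * vv d)) (vv e) := by
  decide +kernel

end H17.Exa
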