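import Cfsg.Agent.H17.T3d
import Cfsg.Agent.H4.GamL2
import Cfsg.Agent.H4.Sec
import Cfsg.Agent.H3.PComp
import Cfsg.Agent.H8.Sdp
import Cfsg.Agent.H3.Transfer2
import Cfsg.Agent.H4.Dk6
import Mathlib.GroupTheory.FixedPointFree

/-! Fixed-point-free operator groups that are `p`-nilpotent for all primes `p` dividing the group order. -/

set_option autoImplicit false
set_option linter.unusedSectionVars false

open Cfsg Subgroup H1 H16 H5 H26
open scoped commutatorElement MatrixGroups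

namespace H17.FP

universe u v

variable {X : Type u} [Group X] [Finite X] {G A B V L : Subgroup X} {p : ℕ}

/-- `A` has a normal `p`-complement for all primes `p ∣ n` -/
def PN (n : ℕ) (A : Subgroup X) : Prop := ∀ p, p.Prime → p ∣ n → Hl[{p}ᶜ] (Op[{p}ᶜ] A) A

theorem PN.le {n m : ℕ} (h : PN n A) (hB : B ≤ A) (hm : m ∣ n) : PN m B :=
  fun p hp hd => pnil_of_le (h p hp (hd.trans hm)) hB

theorem PN.map {n : ℕ} (h : PN n A) {Y : Type*} [Group Y] [Finite Y] (f : X →* Y) : PN n (A.map f) :=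
  fun p hp hd => by
    have := Fact.mk hp
    exact (pnil_iff hp).1 (H3.hasNormalPComplement_map f ((pnil_iff hp).2 (h p hp hd)))

theorem cent_ne_bot (hp : p.Prime) (h : Hl[{p}ᶜ] (Op[{p}ᶜ] A) A) (hV : Pg[p] V) (hn : A ≤ N[V])
    (h1 : V ⊓ C[Op[{p}ᶜ] A] ≠ ⊥) : V ⊓ C[A] ≠ ⊥ := by
  have := Fact.mk hp
  obtain ⟨S, hS⟩ := sy_exists p A
  have := pg_inf_cent_ne_bot hp (hl_pi hS) (IsPiNat.of_dvd hV (card_dvd inf_le_left))
    (hS.1.trans (norm_inf hn (norm_cent (H15.le_norm_piCoreOf _ (le_norm _))))) h1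
  rwa [inf_assoc, ← cent_sup, hl_sup_compl' h hS] at this

theorem quot (hp : p.Prime) (h : PN (Nat.card G) A) (hV : Pg[p] V) (h0 : V ≠ ⊥) (hG : V ≤ G) [V.Normal]
    (hn : A ≤ N[G]) (hf : G ⊓ C[A] = ⊥) :
    G.map (QuotientGroup.mk' V) ⊓ C[A.map (QuotientGroup.mk' V)] = ⊥ := by
  obtain ⟨q, hq, hd⟩ := exists_prime_dvd h0
  obtain rfl : q = p := hV q hq hd
  have hA := h q hp (hd.trans (card_dvd hG))
  have hR : Op[{q}ᶜ] A ≤ A := hA.1
  have h1 : V ⊓ C[Op[{q}ᶜ] A] = ⊥ := by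
    by_contra h1
    exact cent_ne_bot hp hA hV le_normalizer_of_normal h1 (eq_bot_of_le hf (inf_le_inf_right _ hG))
  have hk : (QuotientGroup.mk' V).ker = V := QuotientGroup.ker_mk' V
  rw [eq_bot_iff]
  intro x hx
  have h2 := mem_inf.2 ⟨hx.1, cent_anti (map_mono hR) hx.2⟩
  rw [← map_inf_centralizer _ (hR.trans hn) (by
    rw [hk, inf_of_le_right hG]; exact (IsPiNat.coprime hV (hl_pi hA)).symm) (Or.inr (by
    rw [hk, inf_of_le_right hG]; have := Fact.mk hp; exact sol_of_nil (pg_iff.1 hV).isNilpotent))] at h2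
  obtain ⟨y, hy, rfl⟩ := h2
  rw [eq_one_of_mem_bot hf (x := y) (mem_inf.2 ⟨hy.1, mem_cent.2 fun a ha => ?_⟩), map_one]
  · exact one_mem _
  have h3 : a * y * a⁻¹ * y⁻¹ ∈ V := by
    rw [← hk, MonoidHom.mem_ker, map_mul, map_mul, map_mul, hx.2 _ ⟨a, ha, rfl⟩]; simp
  have := eq_one_of_mem_bot h1 (mem_inf.2 ⟨h3, mul_mem (conj_mem (norm_cent (H15.le_norm_piCoreOf _ (le_norm _)) ha) hy.2) (inv_mem hy.2)⟩)
  rwa [mul_inv_eq_one, mul_inv_eq_iff_eq_mul] at this

/-- Lang's argument -/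
theorem fix_of_cyclic {S : Type*} [Group S] [Finite S] (β : MulAut S) {t : S} (h1 : t ≠ 1) (h : IsConj t (β t)) :
    ∃ s : S, s ≠ 1 ∧ β s = s := by
  by_contra hc
  have hf : MonoidHom.FixedPointFree β := fun s hs => by_contra fun e => hc ⟨s, e, hs⟩
  obtain ⟨g, e⟩ := isConj_iff.1 h
  obtain ⟨y, hy⟩ := hf.commutatorMap_surjective g⁻¹
  rw [MonoidHom.commutatorMap_apply, div_eq_mul_inv, eq_comm, inv_eq_iff_eq_inv] at hy
  refine h1 (H16.conj_eq_one_iff.1 (hf (y⁻¹ * t * y⁻¹⁻¹) ?_))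
  rw [map_mul, map_mul, ← e, hy, map_inv, inv_inv]; group

theorem fix_of_inn {S : Type*} [Group S] [Finite S] {B : Subgroup (MulAut S)} (h : PN (Nat.card S) B)
    (hz : center S = ⊥) (h1 : B ⊓ (MulAut.conj : S →* MulAut S).range ≠ ⊥) :
    ∃ s : S, s ≠ 1 ∧ ∀ β ∈ B, β s = s := by
  obtain ⟨p, hp, h2⟩ := exists_prime_dvd h1
  have := Fact.mk hp
  have hd := (card_dvd (inf_le_right : B ⊓ _ ≤ _)).trans (card_range_dvd (MulAut.conj : S →* MulAut S))
  have h3 := H3.isNilpotent_of_forall_hasNormalPComplement fun q hq e =>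
    (pnil_iff hq).2 (h.le inf_le_left hd q hq e)
  have h4 := hl_core_nil {p} h3
  have h5 := H15.le_norm_piCoreOf {p} (norm_inf (le_norm B) le_normalizer_of_normal : B ≤ N[B ⊓ MulAut.conj.range])
  have h6 := h p hp (h2.trans hd)
  obtain ⟨_, h7, h8⟩ := H16.exists_ne_one (cent_ne_bot hp h6 (hl_pi h4) h5 (by
    rw [inf_of_le_left (cent_symm (cent_of_pnil h6 (h4.1.trans inf_le_left) h6.1 (hl_pi h4) (hl_pi h6)
      (h6.1.trans h5)))]
    exact sy_ne_bot h4 hp h2))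
  obtain ⟨s, rfl⟩ := (h4.1 h7.1).2
  refine ⟨s, by rintro rfl; exact h8 (map_one _), fun β hβ => ?_⟩
  rw [eq_comm, ← inv_mul_eq_one]
  refine eq_one_of_mem_bot hz (mem_center_iff.2 fun g => ?_)
  have := DFunLike.congr_fun (h7.2 β hβ) (β⁻¹ g)
  simp only [MulAut.mul_apply, MulAut.conj_apply, map_mul, map_inv, MulAut.apply_inv_self] at this
  calc _ = s⁻¹ * (s * g * s⁻¹) * β s := by group
    _ = _ := by rw [← this]; group

/-- outer automorphism group cyclic and an invariant class -/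
def OC (S : Type*) [Group S] : Prop :=
  IsCyclic (MulAut S ⧸ (MulAut.conj : S →* MulAut S).range) ∧ ∃ t : S, t ≠ 1 ∧ ∀ β : MulAut S, IsConj t (β t)

theorem OC.fix {S : Type*} [Group S] [Finite S] (h0 : OC S) {B : Subgroup (MulAut S)} (h : PN (Nat.card S) B)
    (hz : center S = ⊥) : ∃ s : S, s ≠ 1 ∧ ∀ β ∈ B, β s = s := by
  by_cases h1 : B ⊓ (MulAut.conj : S →* MulAut S).range = ⊥
  · obtain ⟨_, t, h2, h3⟩ := h0
    obtain ⟨β, rfl⟩ := exists_gen (isCyclic_of_injective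
      ((QuotientGroup.mk' (MulAut.conj : S →* MulAut S).range).comp B.subtype) ((injective_iff_map_eq_one _).2
      fun x hx => Subtype.ext (eq_one_of_mem_bot h1 (mem_inf.2 ⟨x.2, (QuotientGroup.eq_one_iff _).1 hx⟩))))
    obtain ⟨s, h4, h5⟩ := fix_of_cyclic β h2 (h3 β)
    exact ⟨s, h4, fun γ hγ => (zpowers_le (H := MulAction.stabilizer (MulAut S) s)).2 h5 hγ⟩
  exact fix_of_inn h hz h1

theorem oc_sz {S F : Type*} [Group S] [Field F] [Fintype F] {m : ℕ} (M : SzModel S F m) : OC S := by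
  have := H22.isCyclic_ringAut (F := F)
  refine ⟨isCyclic_of_surjective ((QuotientGroup.mk' _).comp (T3.fa M)) fun x => ?_, M.u 0 1,
    by simp [M.u_eq_one_iff], fun β => ?_⟩
  · obtain ⟨α, rfl⟩ := QuotientGroup.mk_surjective x
    obtain ⟨g, τ, rfl⟩ := M.exists_aut_eq α
    exact ⟨τ, ((QuotientGroup.mk_mul _ _ _).trans
      (mul_eq_right.2 ((QuotientGroup.eq_one_iff _).2 (MonoidHom.mem_range.2 ⟨g, rfl⟩)))).symm⟩
  · obtain ⟨k, e⟩ := M.exists_conj_u_zero_one (x := β (M.u 0 1)) (by rw [← map_mul, M.u_zero_sq, map_one])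
      (by simp [M.u_eq_one_iff])
    exact isConj_iff.2 ⟨k, e.symm⟩

theorem conj_inj {S : Type*} [Group S] (hz : center S = ⊥) : Function.Injective (MulAut.conj : S →* MulAut S) :=
  (injective_iff_map_eq_one _).2 fun s hs => eq_one_of_mem_bot hz (mem_center_iff.2 fun g => by
    have := DFunLike.congr_fun hs g
    exact (mul_inv_eq_iff_eq_mul.1 this).symm)

theorem oc_psl {S F : Type*} [Group S] [Finite S] [Field F] [Fintype F] {n : ℕ} (hz : center S = ⊥)
    (he : 2 ∣ Nat.card S) (hF : Fintype.card F = 3 ^ (2 * n + 1)) (e : S ≃* PSL(2, F)) : OC S := by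
  have ho : Odd (Fintype.card F) := by rw [hF]; exact Odd.pow (by decide)
  have h2 : (2 : F) ≠ 0 := H4.two_ne_zero_of_odd ho
  have := Fact.mk Nat.prime_three
  have := Fact.mk Nat.prime_two
  obtain ⟨M, -⟩ := H4.exists_emb (E := (MulAut.conj : S →* MulAut S).range) (by
    rw [eq_bot_iff]
    intro β hβ
    ext g
    refine conj_inj hz (mul_right_cancel (b := β) ?_)
    rw [MulAut.one_apply, hβ _ ⟨g, rfl⟩]
    ext x; simp) h2 ((MonoidHom.ofInjective (conj_inj hz)).symm.trans e)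
  have hi := H4.index_pL (F := F) (Nat.odd_iff.1 ho)
  have := (H4.pL F).normal_of_index_eq_two hi
  let s : MulAut S →* PGL(2, F) ⧸ H4.pL F := MonoidHom.mk' (fun x => (M.f x : PGL(2, F) ⧸ H4.pL F))
    fun x y => by
      rw [M.mul, QuotientGroup.mk_mul, mul_right_inj, QuotientGroup.eq,
        Subgroup.mul_mem_iff_of_index_two hi, inv_mem_iff, H4.fld_mem_pL]
  have hc : IsCyclic ((PGL(2, F) ⧸ H4.pL F) × (F ≃+* F)) := Group.isCyclic_prod_iff.2
    ⟨isCyclic_of_prime_card hi, H22.isCyclic_ringAut, by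
      rw [H22.card_ringAut hF, ← index_eq_card, hi]; simp⟩
  have hk : (MulAut.conj : S →* MulAut S).range = (s.prod M.θ).ker := by
    ext x
    rw [M.mem, MonoidHom.mem_ker, MonoidHom.prod_apply, Prod.mk_eq_one, and_comm, ← QuotientGroup.eq_one_iff]
    rfl
  obtain ⟨t, ht⟩ := exists_prime_orderOf_dvd_card' 2 he
  refine ⟨isCyclic_of_injective ((QuotientGroup.kerLift _).comp (QuotientGroup.quotientMulEquivOfEq hk).toMonoidHom)
    ((QuotientGroup.kerLift_injective (s.prod M.θ)).comp (QuotientGroup.quotientMulEquivOfEq hk).injective),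
    t, by rintro rfl; simp at ht, fun β => ?_⟩
  simpa using e.symm.toMonoidHom.map_isConj (H4.psl_isConj_of_ord2 h2 (x := e t) (y := e (β t))
    (by simpa using ht) (by simpa using ht))

theorem exists_fix (hL : CompOf L G) (hz : L ⊓ C[L] = ⊥) (hn : A ≤ N[G]) {s : X} (hs : s ∈ L) (h1 : s ≠ 1)
    (h : s ∈ C[A ⊓ N[L]]) : G ⊓ C[A] ≠ ⊥ := by
  classical
  have := Fintype.ofFinite X
  let T : Finset X := Finset.univ.filter fun x => ∃ a ∈ A, x = a * s * a⁻¹
  have hT : ∀ {x}, x ∈ T ↔ ∃ a ∈ A, x = a * s * a⁻¹ := by simp [T]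
  have k0 : ∀ a ∈ A, a * s * a⁻¹ = s ∨ a * s * a⁻¹ ∈ C[L] := fun a ha => by
    by_cases e : a ∈ N[L]
    · exact Or.inl (mul_inv_eq_iff_eq_mul.2 (h a (mem_inf.2 ⟨ha, e⟩)))
    · exact Or.inr (commutator_eq_bot_iff'.1 (hL.commutator_eq_bot (hL.cj_of_mem (hn ha))
        fun e' => e (H5.cj_eq_self_iff.1 e'.symm)) (conj_mem_cj hs))
  have hc : (T : Set X).Pairwise (Function.onFun Commute id) := fun x hx y hy _ => by
    obtain ⟨a, ha, rfl⟩ := hT.1 hx
    obtain ⟨b, hb, rfl⟩ := hT.1 hy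
    have : s * (a⁻¹ * b * s * (a⁻¹ * b)⁻¹) = a⁻¹ * b * s * (a⁻¹ * b)⁻¹ * s := by
      rcases k0 _ (mul_mem (inv_mem ha) hb) with e | e
      · rw [e]
      · exact e s hs
    change _ * _ = _ * _
    calc _ = a * (s * (a⁻¹ * b * s * (a⁻¹ * b)⁻¹)) * a⁻¹ := by simp only [id]; group
      _ = _ := by rw [this]; simp only [id]; group
  refine ne_bot_of_mem (x := T.noncommProd id hc) (mem_inf.2 ⟨noncommProd_mem _ _ fun x hx => ?_,
    mem_cent.2 fun a ha => ?_⟩) fun e => h1 ?_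
  · obtain ⟨a, ha, rfl⟩ := hT.1 hx
    exact conj_mem (hn ha) (hL.le hs)
  · rw [← mul_inv_eq_iff_eq_mul]
    have h2 : T.map (MulAut.conj a).toEquiv.toEmbedding = T := by
      ext x
      rw [Finset.mem_map_equiv, hT, hT]
      refine ⟨fun ⟨b, hb, e⟩ => ⟨a * b, mul_mem ha hb, ?_⟩, fun ⟨b, hb, e⟩ => ⟨a⁻¹ * b, mul_mem (inv_mem ha) hb, ?_⟩⟩
      · rw [Equiv.symm_apply_eq] at e; rw [e]; simp [mul_assoc]
      · rw [e]; simp [mul_assoc]
    refine (Finset.map_noncommProd T id hc (MulAut.conj a)).trans ?_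
    simp only [Finset.noncommProd]
    congr 1
    rw [Multiset.map_id]
    exact congrArg Finset.val h2
  · have hsT : s ∈ T := hT.2 ⟨1, one_mem _, by simp⟩
    rw [← Finset.mul_noncommProd_erase T hsT] at e
    refine eq_one_of_mem_bot hz (mem_inf.2 ⟨hs, ?_⟩)
    rw [show s = _ from eq_inv_of_mul_eq_one_left e]
    refine inv_mem (noncommProd_mem _ _ fun x hx => ?_)
    obtain ⟨a, ha, rfl⟩ := hT.1 (Finset.mem_of_mem_erase hx)
    exact (k0 a ha).resolve_left (Finset.ne_of_mem_erase hx)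

/-- the classification of the `S₃`-free simple groups -/
def CL : Prop := ∀ (S : Type u) [Group S] [Finite S], IsSimpleGroup S → ¬ IsMulCommutative S →
  ¬ H4.IsSec (Equiv.Perm (Fin 3)) (⊤ : Subgroup S) → IsSuzukiOrPSL2OddPowerThree S

theorem solv (cl : CL.{u}) (n : ℕ) : ∀ (X : Type u) [Group X] [Finite X] (G : Subgroup X) [G.Normal] (A : Subgroup X),
    Nat.card G = n → PN (Nat.card G) A → G ⊓ C[A] = ⊥ → ¬ H4.IsSec (Equiv.Perm (Fin 3)) G → Group.IsSolvable G := by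
  induction n using Nat.strong_induction_on with
  | _ n ih =>
  intro X _ _ G _ A hc h hf h3
  by_cases hF : fitOf G = ⊥
  · by_cases h0 : G = ⊥
    · rw [h0]; infer_instance
    obtain ⟨L, hL, -⟩ := exists_compOf_le (SN.refl G) (by rw [hF, inf_bot_eq]; exact bot_le)
      (by rwa [hF, le_bot_iff])
    have hz : L ⊓ C[L] = ⊥ := eq_bot_of_le hF hL.sn.zOf_le_fitOf
    obtain ⟨a, b⟩ := isSimpleGroup_of_qs hL.qs hz
    have hz' : center L = ⊥ := eq_bot_iff.2 fun x hx => Subtype.ext (eq_one_of_mem_bot hz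
      (mem_inf.2 ⟨x.2, fun g hg => congrArg Subtype.val (mem_center_iff.1 hx ⟨g, hg⟩)⟩))
    have ho : OC L := by
      rcases cl L a b fun e => h3 (e.of_subgroup.mono hL.le) with e | ⟨F, _, _, m, h1, ⟨e⟩⟩
      · obtain ⟨F, _, _, m, ⟨M⟩⟩ := T3.exists_model e
        exact oc_sz M
      · obtain ⟨t, h4, h5⟩ := exists_ord2_of_qs hL.qs
        exact oc_psl hz' (h5 ▸ orderOf_dvd_card h4) h1 e
    obtain ⟨s, h1, h2⟩ := ho.fix (B := (A.subgroupOf N[L]).map L.normalizerMonoidHom) (PN.map (fun p hp hd => by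
      have := Fact.mk hp
      rw [← inf_subgroupOf_right, ← pnil_iff hp, H3.hasNormalPComplement_subgroupOf inf_le_right, pnil_iff hp]
      exact h.le inf_le_left (card_dvd hL.le) p hp hd) _) hz'
    exact (exists_fix hL hz le_normalizer_of_normal s.2 (fun e => h1 (Subtype.ext e)) (fun x hx =>
      mul_inv_eq_iff_eq_mul.1 (congrArg Subtype.val (h2 _ ⟨⟨x, hx.2⟩, hx.1, rfl⟩))) hf).elim
  obtain ⟨p, hp, hd⟩ := exists_prime_dvd hF
  have := Fact.mk hp
  have h1 : opOf p G ≠ ⊥ := by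
    obtain ⟨x, h1, h2⟩ := exists_card_prime hp hd
    exact ne_bot_of_le (ne_bot_of_card hp h2) (le_opOf_of_le_fitOf (.of_card (h2.trans (pow_one p).symm)) h1)
  have e := card_dvd_card_map_mul (QuotientGroup.mk' (opOf p G)) G
  rw [QuotientGroup.ker_mk', inf_of_le_right (opOf_le p G)] at e
  have := Subgroup.Normal.map ‹G.Normal› _ (QuotientGroup.mk'_surjective (opOf p G))
  refine isSolvable_of_map (QuotientGroup.mk' (opOf p G)) (ih _ ?_ _ _ _ rfl ((h.map _).le le_rfl (card_map_dvd _ _))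
    (quot hp h (pg_iff.2 (isPGroup_opOf p G)) h1 (opOf_le p G) le_normalizer_of_normal hf) fun e => h3 e.of_map) (by
    rw [QuotientGroup.ker_mk', inf_of_le_right (opOf_le p G)]; exact sol_of_nil (isPGroup_opOf p G).isNilpotent)
  rw [← hc, e]
  exact lt_mul_of_one_lt_right Nat.card_pos ((one_lt_card_iff_ne_bot _).2 h1)

theorem main {G : Type u} {A : Type v} [Group G] [Finite G] [Group A] [Finite A] (cl : CL.{max u v})
    (φ : A →* MulAut G) (hf : ∀ g : G, (∀ a : A, φ a g = g) → g = 1) (h3 : ¬ Involves (Equiv.Perm (Fin 3)) G)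
    (h : ∀ p, p.Prime → p ∣ Nat.card G → HasNormalPComplement p A) : Group.IsSolvable G := by
  have := solv cl _ _ (H8.sdL φ ⊤) (H8.sdR φ ⊤) rfl (PN.map (fun p hp hd => by
    have := Fact.mk hp
    rw [← pnil_iff hp, H3.hasNormalPComplement_top]
    exact h p hp (by rwa [H8.card_sdL, card_top] at hd)) _) (eq_bot_iff.2 (by
      rintro _ ⟨⟨g, -, rfl⟩, hg⟩
      rw [hf g fun a => (H8.inl_mem_centralizer_sdR φ).1 hg a trivial]
      exact one_mem _)) fun e => h3 (by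
    obtain ⟨K, L, _, -, e⟩ := H4.isSec_iff.1 e.of_map
    exact ⟨K, L, _, e⟩)
  exact Group.isSolvable_of_isSolvable_injective (f := (topEquiv.symm.trans (H8.sdLEquiv φ ⊤)).toMonoidHom)
    (topEquiv.symm.trans (H8.sdLEquiv φ ⊤)).injective

theorem pn_of {A : Type*} [Group A] [Finite A] {n : ℕ}
    (h1 : ∃ H : Subgroup A, IsPiHall {r : ℕ | r.Prime ∧ r ∣ n} H ∧ Group.IsNilpotent H)
    (h2 : ∃ K : Subgroup A, K.Normal ∧ (∀ r : ℕ, r.Prime → r ∣ Nat.card K → ¬ r ∣ n) ∧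
      ∀ r : ℕ, r.Prime → r ∣ K.index → r ∣ n) (p : ℕ) (hp : p.Prime) (hd : p ∣ n) : HasNormalPComplement p A := by
  obtain ⟨H, h1, h3⟩ := h1
  obtain ⟨K, _, h2, h4⟩ := h2
  have := Fact.mk hp
  have h5 : H ⊔ K = ⊤ := sup_eq_of_idx le_top le_top (hl_idx (hl_top_iff.2 h1)) (by
    rw [compl_compl, relIndex_top_right]; exact fun r hr e => ⟨hr, h4 r hr e⟩)
  refine H3.hasNormalPComplement_of_quotient_coprime K
    ((Nat.Prime.coprime_iff_not_dvd hp).2 fun e => h2 p hp e hd).symm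
    (H3.hasNormalPComplement_of_surjective ((QuotientGroup.mk' K).comp H.subtype) (fun x => ?_)
      (H3.hasNormalPComplement_of_isNilpotent H))
  obtain ⟨x, rfl⟩ := QuotientGroup.mk_surjective x
  obtain ⟨a, ha, k, hk, rfl⟩ := (mem_sup_r le_normalizer_of_normal).1 (h5 ▸ mem_top x)
  exact ⟨⟨a, ha⟩, QuotientGroup.eq.2 (by simpa using hk)⟩

end H17.FP
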