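import Cfsg.Agent.H16.Misc
import Cfsg.Agent.H9.Basic

/-! Konvisser–Jonah: for odd `p`, a `p`-group with an elementary abelian subgroup of order `p ^ 4`
has a normal one. -/

set_option autoImplicit false
set_option linter.unusedSectionVars false

open Subgroup Cfsg H1 H16
open scoped commutatorElement

namespace H17.Kv

variable {G : Type*} [Group G] [Finite G] {p : ℕ} [hp : Fact p.Prime] {B D L W Y K : Subgroup G}
  {a b c t u : G}

theorem card_le_cent (h : ∀ w ∈ W, ⁅w, c⁆ ∈ Y) :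
    Nat.card W ≤ Nat.card Y * Nat.card (W ⊓ C1[c] : Subgroup G) := by
  have e := H16.card_inf_mul_relIndex C1[c] W
  have : (C1[c]).relIndex W ≤ Nat.card Y := by
    unfold Subgroup.relIndex Subgroup.index
    refine Nat.card_le_card_of_injective
      (fun q => (⟨⁅((Quotient.out q : W) : G), c⁆, h _ (Quotient.out q).2⟩ : Y)) ?_
    intro q r e
    have e1 : ⁅((Quotient.out q : W) : G), c⁆ = ⁅((Quotient.out r : W) : G), c⁆ := congrArg Subtype.val e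
    rw [← Quotient.out_eq q, ← Quotient.out_eq r]
    apply QuotientGroup.eq.2
    rw [mem_subgroupOf, mem_cent1]
    simp only [commutatorElement_def] at e1
    push_cast
    set x : G := ((Quotient.out q : W) : G)
    set y : G := ((Quotient.out r : W) : G)
    have e2 : x * c * x⁻¹ = y * c * y⁻¹ := mul_right_cancel e1
    calc x⁻¹ * y * c = x⁻¹ * (y * c * y⁻¹) * y := by group
      _ = c * (x⁻¹ * y) := by rw [← e2]; group
  rw [inf_comm, ← e, mul_comm]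
  exact Nat.mul_le_mul_right _ this

abbrev EA (p : ℕ) (B : Subgroup G) : Prop := IsElementaryAbelian p B

theorem step (hB : EA p B) (hu : u ∈ C[B]) (hn : u ∉ B) (hup : u ^ p = 1) :
    EA p (B ⊔ zpowers u) ∧ Nat.card (B ⊔ zpowers u : Subgroup G) = p * Nat.card B := by
  refine ⟨⟨H9.isMulCommutative_sup_zpowers hB.1 hu, fun x hx => ?_⟩,
    H9.card_sup_zpowers hp.out (cent_le_norm _ hu) hn (by rw [hup]; exact one_mem _)⟩
  obtain ⟨n, hn, k, rfl⟩ := (H9.mem_sup_zpowers_nat (cent_le_norm _ hu)).1 hx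
  have : Commute n (u ^ k) := Commute.pow_right (mem_cent.1 hu n hn) k
  rw [this.mul_pow, hB.2 n hn, ← pow_mul, mul_comm k, pow_mul, hup]; simp

theorem exists_not_mem (h : Nat.card B < Nat.card W) : ∃ u ∈ W, u ∉ B := by
  by_contra hc
  push Not at hc
  exact absurd (card_le (show W ≤ B from hc)) (by omega)

structure Cl (p : ℕ) (D L : Subgroup G) : Prop where
  le : D ≤ L
  cen : L ≤ C[D]
  com : ∀ x ∈ L, ∀ y ∈ L, ⁅x, y⁆ ∈ D
  exp : ∀ x ∈ L, x ^ p = 1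

def Mem (p : ℕ) (E : Subgroup G) : Prop := EA p E ∧ Nat.card E = p ^ 4

theorem Cl.ea (h : Cl p D L) : EA p D := ⟨comm_iff.2 (h.le.trans h.cen), fun x hx => h.exp x (h.le hx)⟩

theorem Cl.cm (h : Cl p D L) (ha : a ∈ L) (hb : b ∈ L) (hc : c ∈ L) : Commute a ⁅b, c⁆ :=
  (mem_cent.1 (h.cen ha) _ (h.com b hb c hc)).symm

theorem plt {i j : ℕ} (h : i < j) : p ^ i < p ^ j := Nat.pow_lt_pow_right hp.out.one_lt h

theorem div_le {n m k : ℕ} (h1 : p ^ (k + 1) ≤ n) (h2 : n ≤ p * m) : p ^ k ≤ m := by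
  have : p * p ^ k ≤ p * m := by rw [← pow_succ']; omega
  exact Nat.le_of_mul_le_mul_left this hp.out.pos

theorem cent_sup1 (h1 : u ∈ C[B]) (h2 : u ∈ C1[a]) : u ∈ C[B ⊔ zpowers a] := by
  rw [cent_sup, H16.cent_zpowers]; exact mem_inf.2 ⟨h1, h2⟩

theorem Cl.one (h : Cl p D L) (hD : Nat.card D = p) (hL : p ^ 6 ≤ Nat.card L) : ∃ E ≤ L, Mem p E := by
  obtain ⟨a, ha, a1⟩ := exists_not_mem (B := D) (W := L) (by
    rw [hD]; have := plt (p := p) (show 1 < 6 by norm_num); rw [pow_one] at this; omega)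
  obtain ⟨e1, c1⟩ := step h.ea (h.cen ha) a1 (h.exp a ha)
  have w1 := card_le_cent (W := L) (Y := D) (c := a) fun w hw => h.com w hw a ha
  rw [hD] at w1 c1
  have w1 := div_le hL w1
  obtain ⟨b, hb, b1⟩ := exists_not_mem (B := D ⊔ zpowers a) (W := L ⊓ C1[a]) (by
    rw [c1, ← sq]; have := plt (p := p) (show 2 < 5 by norm_num); omega)
  obtain ⟨e2, c2⟩ := step e1 (cent_sup1 (h.cen hb.1) hb.2) b1 (h.exp b hb.1)
  have w2 := card_le_cent (W := L ⊓ C1[a]) (Y := D) (c := b) fun w hw => h.com w hw.1 b hb.1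
  rw [hD] at w2
  have w2 := div_le w1 w2
  rw [c1] at c2
  obtain ⟨c, hc, c3⟩ := exists_not_mem (B := D ⊔ zpowers a ⊔ zpowers b) (W := L ⊓ C1[a] ⊓ C1[b]) (by
    rw [c2, show p * (p * p) = p ^ 3 by ring]; have := plt (p := p) (show 3 < 4 by norm_num); omega)
  obtain ⟨e3, c4⟩ := step e2 (cent_sup1 (cent_sup1 (h.cen hc.1.1) hc.1.2) hc.2) c3 (h.exp c hc.1.1)
  refine ⟨_, sup_le (sup_le (sup_le h.le (zpowers_le.2 ha)) (zpowers_le.2 hb.1)) (zpowers_le.2 hc.1.1),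
    e3, ?_⟩
  rw [c4, c2]; ring

theorem Cl.fin (h : Cl p D L) (hD : Nat.card D = p ^ 2) (hc : c ∈ L) (c1 : c ∉ D) (hW : W ≤ L)
    (hW4 : p ^ 4 ≤ Nat.card (W ⊓ C1[c] : Subgroup G)) : ∃ E ≤ L, Mem p E := by
  obtain ⟨e1, c2⟩ := step h.ea (h.cen hc) c1 (h.exp c hc)
  rw [hD] at c2
  obtain ⟨b, hb, b1⟩ := exists_not_mem (B := D ⊔ zpowers c) (W := W ⊓ C1[c]) (by
    rw [c2, ← pow_succ']; have := plt (p := p) (show 2 + 1 < 4 by norm_num); omega)
  obtain ⟨e2, c3⟩ := step e1 (cent_sup1 (h.cen (hW hb.1)) hb.2) b1 (h.exp b (hW hb.1))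
  refine ⟨_, sup_le (sup_le h.le (zpowers_le.2 hc)) (zpowers_le.2 (hW hb.1)), e2, ?_⟩
  rw [c3, c2]; ring

/-- `{w ∈ L | [w, c] ∈ Y}` -/
def Cl.sub (h : Cl p D L) (hc : c ∈ L) (Y : Subgroup G) : Subgroup G where
  carrier := {w | w ∈ L ∧ ⁅w, c⁆ ∈ Y}
  one_mem' := ⟨one_mem _, by simp⟩
  mul_mem' := fun {x y} hx hy => ⟨mul_mem hx.1 hy.1, by
    rw [H9.commutator_mul_left_of_commute (h.cm hx.1 hy.1 hc)]; exact mul_mem hy.2 hx.2⟩
  inv_mem' := fun {x} hx => ⟨inv_mem hx.1, by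
    have := H9.commutator_zpow_left (h.cm hx.1 hx.1 hc) (-1)
    simp only [zpow_neg_one] at this
    rw [this]; exact inv_mem hx.2⟩

theorem Cl.nrm (h : Cl p D L) (h1 : D ≤ B) (h2 : B ≤ L) (ha : a ∈ L) : a ∈ N[B] := by
  refine mem_norm_of_cj_le (cj_le_forall.2 fun x hx => ?_)
  have : a * x * a⁻¹ = ⁅a, x⁆ * x := by simp [commutatorElement_def]
  rw [this]; exact mul_mem (h1 (h.com a ha x (h2 hx))) hx

theorem Cl.two (h : Cl p D L) (hD : Nat.card D = p ^ 2) (hL : p ^ 5 ≤ Nat.card L) :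
    ∃ E ≤ L, Mem p E := by
  obtain ⟨a, ha, a1⟩ := exists_not_mem (B := D) (W := L) (by
    rw [hD]; have := plt (p := p) (show 2 < 5 by norm_num); omega)
  obtain ⟨-, c1⟩ := step h.ea (h.cen ha) a1 (h.exp a ha)
  rw [hD] at c1
  have l1 : D ⊔ zpowers a ≤ L := sup_le h.le (zpowers_le.2 ha)
  obtain ⟨b, hb, b1⟩ := exists_not_mem (B := D ⊔ zpowers a) (W := L) (by
    rw [c1, ← pow_succ']; have := plt (p := p) (show 2 + 1 < 5 by norm_num); omega)
  have c2 := H9.card_sup_zpowers hp.out (h.nrm le_sup_left l1 hb) b1 (by rw [h.exp b hb]; exact one_mem _)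
  have l2 : D ⊔ zpowers a ⊔ zpowers b ≤ L := sup_le l1 (zpowers_le.2 hb)
  rw [c1] at c2
  obtain ⟨t, ht, t1⟩ := exists_not_mem (B := D ⊔ zpowers a ⊔ zpowers b) (W := L) (by
    rw [c2, ← pow_succ', ← pow_succ']; have := plt (p := p) (show 2 + 1 + 1 < 5 by norm_num); omega)
  have c3 := H9.card_sup_zpowers hp.out (h.nrm (le_sup_left.trans le_sup_left) l2 ht) t1
    (by rw [h.exp t ht]; exact one_mem _)
  rw [c2] at c3
  have l3 : D ⊔ zpowers a ⊔ zpowers b ⊔ zpowers t ≤ L := sup_le l2 (zpowers_le.2 ht)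
  -- `Y = ⟨[a,b]⟩`
  have hY : Nat.card (zpowers ⁅a, b⁆) ≤ p := by
    rw [card_zpowers]
    exact Nat.le_of_dvd hp.out.pos (orderOf_dvd_of_pow_eq_one (h.exp _ (h.le (h.com a ha b hb))))
  have fin : ∀ c ∈ L, c ∉ D → ⁅a, c⁆ ∈ zpowers ⁅a, b⁆ → ⁅b, c⁆ ∈ zpowers ⁅a, b⁆ →
      ⁅t, c⁆ ∈ zpowers ⁅a, b⁆ → ∃ E ≤ L, Mem p E := by
    intro c hc c0 x1 x2 x3
    refine h.fin hD hc c0 l3 (div_le (k := 4) (n := Nat.card (D ⊔ zpowers a ⊔ zpowers b ⊔ zpowers t : Subgroup G))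
      (by rw [c3]; apply le_of_eq; ring) ?_)
    have : D ⊔ zpowers a ⊔ zpowers b ⊔ zpowers t ≤ h.sub hc (zpowers ⁅a, b⁆) := by
      refine sup_le (sup_le (sup_le (fun d hd => ⟨h.le hd, ?_⟩) (zpowers_le.2 ⟨ha, x1⟩))
        (zpowers_le.2 ⟨hb, x2⟩)) (zpowers_le.2 ⟨ht, x3⟩)
      rw [commutatorElement_eq_one_iff_mul_comm.2 (mem_cent.1 (h.cen hc) d hd)]; exact one_mem _
    exact (card_le_cent fun w hw => (this hw).2).trans (Nat.mul_le_mul_right _ hY)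
  have ba : ⁅b, a⁆ ∈ zpowers ⁅a, b⁆ := by
    rw [← commutatorElement_inv a b]; exact inv_mem (mem_zpowers _)
  by_cases h0 : ⁅a, b⁆ = 1
  · obtain ⟨e1, -⟩ := step h.ea (h.cen ha) a1 (h.exp a ha)
    have : b ∈ C1[a] := mem_cent1.2 (commutatorElement_eq_one_iff_mul_comm.1 h0).symm
    obtain ⟨e2, -⟩ := step e1 (cent_sup1 (h.cen hb) this) b1 (h.exp b hb)
    exact ⟨_, l2, e2, by rw [c2]; ring⟩
  by_cases hx : ⁅t, a⁆ ∈ zpowers ⁅a, b⁆
  · exact fin a ha a1 (by simp) ba hx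
  have hY' : Nat.card (zpowers ⁅a, b⁆) = p := by
    rw [card_zpowers]; exact orderOf_eq_prime (h.exp _ (h.le (h.com a ha b hb))) h0
  have yD : zpowers ⁅a, b⁆ ≤ D := zpowers_le.2 (h.com a ha b hb)
  have n1 : ⁅t, a⁆ ∈ N[zpowers ⁅a, b⁆] :=
    cent_le_norm _ (cent_anti yD (h.cen (h.le (h.com t ht a ha))))
  have c5 := H9.card_sup_zpowers hp.out n1 hx
    (by rw [h.exp _ (h.le (h.com t ht a ha))]; exact one_mem _)
  have eD : zpowers ⁅a, b⁆ ⊔ zpowers ⁅t, a⁆ = D :=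
    eq_of_le_of_card (sup_le yD (zpowers_le.2 (h.com t ht a ha))) (by rw [c5, hY', hD, sq])
  have := h.com t ht b hb
  rw [← eD] at this
  obtain ⟨n, hn, k, ek⟩ := (H9.mem_sup_zpowers n1).1 this
  have hak : a ^ (-k) ∈ L := zpow_mem ha _
  refine fin (b * a ^ (-k)) (mul_mem hb hak) (fun hd => b1 ?_) ?_ ?_ ?_
  · have : b = b * a ^ (-k) * a ^ k := by group
    rw [this]; exact mul_mem (mem_sup_left hd) (mem_sup_right (zpow_mem (mem_zpowers a) k))
  · rw [H9.commutator_mul_right_of_commute (h.cm hb ha hak),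
      H9.commutator_zpow_right (h.cm ha ha ha)]
    simp
  · rw [H9.commutator_mul_right_of_commute (h.cm hb hb hak),
      H9.commutator_zpow_right (h.cm ha hb ha)]
    simpa using zpow_mem ba _
  · rw [H9.commutator_mul_right_of_commute (h.cm hb ht hak),
      H9.commutator_zpow_right (h.cm ha ht ha), ek]
    simpa using hn

theorem Cl.main (h : Cl p D L) {δ : ℕ} (hδ : δ ≤ 4) (hD : Nat.card D = p ^ δ)
    (hL : p ^ (7 - δ) ≤ Nat.card L) : ∃ E ≤ L, Mem p E := by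
  interval_cases δ
  · have hD0 : D = ⊥ := by simpa using hD
    obtain ⟨a, ha, a1⟩ := exists_not_mem (B := D) (W := L) (by
      rw [hD]; have := plt (p := p) (show 0 < 7 - 0 by norm_num); omega)
    have cm : ∀ x ∈ L, ∀ y ∈ L, ⁅x, y⁆ = 1 := fun x hx y hy => by simpa [hD0] using h.com x hx y hy
    refine Cl.one (D := zpowers a) ⟨zpowers_le.2 ha, fun x hx => ?_, fun x hx y hy => by simp [cm x hx y hy],
      h.exp⟩ ?_ ((plt (by norm_num)).le.trans hL)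
    · rw [H16.cent_zpowers]; exact mem_cent1.2 (commutatorElement_eq_one_iff_mul_comm.1 (cm x hx a ha))
    · rw [card_zpowers]; exact orderOf_eq_prime (h.exp a ha) (by rintro rfl; exact a1 (one_mem _))
  · exact h.one (by simpa using hD) hL
  · exact h.two hD hL
  · obtain ⟨a, ha, a1⟩ := exists_not_mem (B := D) (W := L) (by
      rw [hD]; have := plt (p := p) (show 3 < 7 - 3 by norm_num); omega)
    obtain ⟨e1, c1⟩ := step h.ea (h.cen ha) a1 (h.exp a ha)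
    exact ⟨_, sup_le h.le (zpowers_le.2 ha), e1, by rw [c1, hD]; ring⟩
  · exact ⟨D, h.le, h.ea, hD⟩

theorem cl_sup (h2 : p ≠ 2) {E F : Subgroup G} (hE : EA p E) (hF : EA p F) (n1 : E ≤ N[F])
    (n2 : F ≤ N[E]) : Cl p (E ⊓ F) (E ⊔ F) := by
  have cE := comm_iff.1 hE.1
  have cF := comm_iff.1 hF.1
  have cen : E ⊔ F ≤ C[E ⊓ F] :=
    sup_le (cE.trans (cent_anti inf_le_left)) (cF.trans (cent_anti inf_le_right))
  have nE : E ≤ N[E ⊓ F] := norm_of_cent (le_sup_left.trans cen)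
  have nF : F ≤ N[E ⊓ F] := norm_of_cent (le_sup_right.trans cen)
  have EF : ⁅E, F⁆ ≤ E ⊓ F := le_inf (H16.comm_le_left n2) (H16.comm_le_right n1)
  have com : ⁅E ⊔ F, E ⊔ F⁆ ≤ E ⊓ F := by
    refine sup_comm_le (comm_sup_le ?_ EF nE nF) (comm_sup_le ?_ ?_ nE nF) nE nF
    · rw [der_eq_bot.2 hE.1]; exact bot_le
    · rw [commutator_comm]; exact EF
    · rw [der_eq_bot.2 hF.1]; exact bot_le
  refine ⟨inf_le_left.trans le_sup_left, cen, fun x hx y hy => com (commutator_mem_commutator hx hy),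
    fun x hx => ?_⟩
  obtain ⟨a, ha, b, hb, rfl⟩ := (mem_sup_r n1).1 hx
  have hc : ⁅b, a⁆ ∈ E ⊓ F := com (commutator_mem_commutator (mem_sup_right hb) (mem_sup_left ha))
  rw [H9.mul_pow_of_odd (mem_cent.1 (cen (mem_sup_left ha)) _ hc).symm
    (mem_cent.1 (cen (mem_sup_right hb)) _ hc).symm (hp.out.odd_of_ne_two h2) (hE.2 _ hc.1),
    hE.2 a ha, hF.2 b hb, one_mul]

abbrev Hm (p : ℕ) (K : Subgroup G) := K →* Multiplicative (ZMod p)

def kk (φ : Hm p K) : Subgroup G := φ.ker.map K.subtype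

theorem mem_kk {φ : Hm p K} {x : G} : x ∈ kk φ ↔ ∃ h : x ∈ K, φ ⟨x, h⟩ = 1 := by
  simp [kk]

theorem kk_le (φ : Hm p K) : kk φ ≤ K := map_subtype_le _

theorem kk_lt {φ : Hm p K} (h : φ ≠ 1) : kk φ < K := by
  refine lt_of_le_of_ne (kk_le φ) fun e => h (MonoidHom.ext fun x => ?_)
  obtain ⟨_, h⟩ := mem_kk.1 (show (x : G) ∈ kk φ by rw [e]; exact x.2)
  exact h

theorem kk_norm (φ : Hm p K) : K ≤ N[kk φ] := le_norm_iff.2 fun a ha x hx => by
  obtain ⟨h, e⟩ := mem_kk.1 hx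
  refine mem_kk.2 ⟨mul_mem (mul_mem ha h) (inv_mem ha), ?_⟩
  have : (⟨a * x * a⁻¹, mul_mem (mul_mem ha h) (inv_mem ha)⟩ : K) = ⟨a, ha⟩ * ⟨x, h⟩ * ⟨a, ha⟩⁻¹ := rfl
  rw [this, map_mul, map_mul, e, map_inv]; simp

theorem kk_card (φ : Hm p K) (h : W ≤ K) : Nat.card W ≤ p * Nat.card (W ⊓ kk φ : Subgroup G) := by
  have e := H16.card_inf_mul_relIndex (kk φ) W
  have h1 : (kk φ).relIndex K ≤ p := by
    unfold Subgroup.relIndex
    have : (kk φ).subgroupOf K = φ.ker := comap_map_eq_self_of_injective K.subtype_injective _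
    rw [this, index_ker]
    have := Nat.card_le_card_of_injective _ φ.range.subtype_injective
    simpa using this
  have h2 := relIndex_le_of_le_right h (relIndex_pos (kk φ) K).ne'
  rw [inf_comm, ← e, mul_comm]
  exact Nat.mul_le_mul_right _ (h2.trans h1)

theorem line (h2 : p ≠ 2) {E F : Subgroup G} (hE : Mem p E) (hF : Mem p F) {φ ψ : Hm p K}
    (e1 : E ≤ kk φ) (e2 : F ≤ kk ψ) (n1 : K ≤ N[E]) (n2 : K ≤ N[F]) : ∃ X ≤ kk (φ * ψ), Mem p X := by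
  have EK := e1.trans (kk_le φ)
  have FK := e2.trans (kk_le ψ)
  have h := cl_sup h2 hE.1 hF.1 (EK.trans n2) (FK.trans n1)
  obtain ⟨δ, hδ, hD⟩ := pg_card_cases hp.out hE.2 (inf_le_left : E ⊓ F ≤ E)
  have c := card_sup_mul_inf (H := E) (K := F) (Or.inl (EK.trans n2))
  rw [hD, hE.2, hF.2, ← pow_add, show 4 + 4 = (7 - δ + 1) + δ by omega, pow_add] at c
  have c := Nat.eq_of_mul_eq_mul_right (pow_pos hp.out.pos δ) c
  have h' : Cl p (E ⊓ F) ((E ⊔ F) ⊓ kk (φ * ψ)) := by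
    refine ⟨le_inf h.le fun x hx => ?_, inf_le_left.trans h.cen, fun x hx y hy => h.com x hx.1 y hy.1,
      fun x hx => h.exp x hx.1⟩
    obtain ⟨m, a1⟩ := mem_kk.1 (e1 hx.1)
    obtain ⟨_, a2⟩ := mem_kk.1 (e2 hx.2)
    exact mem_kk.2 ⟨m, by rw [MonoidHom.mul_apply, a1, a2, one_mul]⟩
  obtain ⟨X, hX, m⟩ := h'.main hδ hD (div_le c.ge (kk_card _ (sup_le EK FK)))
  exact ⟨X, hX.trans inf_le_right, m⟩

theorem exists_hom (hG : IsPGroup p G) {E : Subgroup G} (h : E < K) :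
    ∃ φ : Hm p K, φ ≠ 1 ∧ E ≤ kk φ := by
  have hK : IsPGroup p K := hG.to_subgroup K
  have hne : E.subgroupOf K ≠ ⊤ := fun e => h.not_ge (subgroupOf_eq_top.1 e)
  obtain ⟨M, hM, hEM⟩ := (eq_top_or_exists_le_coatom (E.subgroupOf K)).resolve_left hne
  have hi := H9.index_of_isCoatom hK hM
  have := H9.normal_of_index_eq_prime hK hi
  let e : (K ⧸ M) ≃* Multiplicative (ZMod p) := mulEquivOfPrimeCardEq hi (by simp)
  refine ⟨e.toMonoidHom.comp (QuotientGroup.mk' M), fun e1 => hM.1 (eq_top_iff.2 fun x _ => ?_),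
    fun x hx => mem_kk.2 ⟨h.le hx, ?_⟩⟩
  · have := DFunLike.congr_fun e1 x
    simpa using this
  · simpa using hEM (show (⟨x, h.le hx⟩ : K) ∈ E.subgroupOf K from hx)

theorem Mem.cj {E : Subgroup G} (h : Mem p E) (g : G) : Mem p (E :^ g) := by
  refine ⟨⟨(comm_cj g).2 h.1.1, fun x hx => ?_⟩, by rw [card_cj, h.2]⟩
  have := h.1.2 _ (H16.mem_cj.1 hx)
  rw [show g⁻¹ * x * g = g⁻¹ * x * g⁻¹⁻¹ by simp, conj_pow] at this
  exact H16.conj_eq_one_iff.1 this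

theorem main (h2 : p ≠ 2) (hG : IsPGroup p G) (K : Subgroup G) :
    (∃ E ≤ K, Mem p E) → ∃ E ≤ K, Mem p E ∧ N[K] ≤ N[E] := by
  refine ind_down (C := fun K => (∃ E ≤ K, Mem p E) → ∃ E ≤ K, Mem p E ∧ N[K] ≤ N[E])
    (fun K ih ⟨E, hEK, hE⟩ => ?_) K
  rcases hEK.eq_or_lt with rfl | hlt
  · exact ⟨E, le_rfl, hE, le_rfl⟩
  let U : Subgroup (Hm p K) :=
    { carrier := {φ | ∃ X ≤ kk φ, Mem p X}
      one_mem' := ⟨E, fun x hx => mem_kk.2 ⟨hEK hx, rfl⟩, hE⟩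
      inv_mem' := fun {φ} ⟨X, hX, m⟩ => ⟨X, fun x hx => by
        obtain ⟨h, e⟩ := mem_kk.1 (hX hx)
        exact mem_kk.2 ⟨h, by rw [MonoidHom.inv_apply, e, inv_one]⟩, m⟩
      mul_mem' := fun {φ ψ} hφ hψ => by
        by_cases a1 : φ = 1
        · rw [a1, one_mul]; exact hψ
        by_cases a2 : ψ = 1
        · rw [a2, mul_one]; exact hφ
        obtain ⟨X, hX, mX, nX⟩ := ih _ (kk_lt a1) hφ
        obtain ⟨Y, hY, mY, nY⟩ := ih _ (kk_lt a2) hψ
        exact line h2 mX mY hX hY ((kk_norm φ).trans nX) ((kk_norm ψ).trans nY) }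
  have val : ∀ (x : N[K]) (y : K), ((K.normalizerMonoidHom x y : K) : G) = x * y * (x : G)⁻¹ :=
    fun x y => rfl
  let _ : MulAction N[K] U :=
    { smul := fun x φ => ⟨φ.1.comp (K.normalizerMonoidHom x⁻¹).toMonoidHom, by
        obtain ⟨X, hX, m⟩ := φ.2
        refine ⟨X :^ (x : G), fun y hy => ?_, m.cj _⟩
        obtain ⟨h, e⟩ := mem_kk.1 (hX (H16.mem_cj.1 hy))
        have hy' : y ∈ K := by simpa [mul_assoc] using conj_mem x.2 h
        refine mem_kk.2 ⟨hy', ?_⟩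
        rw [← e]
        exact congrArg φ.1 (Subtype.ext (by rw [MulEquiv.coe_toMonoidHom, val]; simp))⟩
      one_smul := fun φ => Subtype.ext (MonoidHom.ext fun y => by
        show φ.1 (K.normalizerMonoidHom 1⁻¹ y) = _
        simp)
      mul_smul := fun x z φ => Subtype.ext (MonoidHom.ext fun y => by
        show φ.1 (K.normalizerMonoidHom (x * z)⁻¹ y) =
          φ.1 (K.normalizerMonoidHom z⁻¹ (K.normalizerMonoidHom x⁻¹ y))
        simp) }
  have : Finite (Hm p K) := Finite.of_injective (fun φ : Hm p K => (φ : K → _)) DFunLike.coe_injective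
  obtain ⟨φ0, f1, f2⟩ := exists_hom hG hlt
  have hd : p ∣ Nat.card U := by
    have : orderOf (⟨φ0, E, f2, hE⟩ : U) = p := by
      refine orderOf_eq_prime (Subtype.ext (MonoidHom.ext fun y => ?_)) fun e => f1 (congrArg Subtype.val e)
      show (φ0 y) ^ p = 1
      have := pow_card_eq_one' (x := φ0 y)
      simpa using this
    exact this.symm.dvd.trans (orderOf_dvd_natCard _)
  obtain ⟨ψ, hψ, ne⟩ := (hG.to_subgroup N[K]).exists_fixed_point_of_prime_dvd_card_of_fixed_point U hd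
    (a := 1) (fun x => rfl)
  have n1 : ψ.1 ≠ 1 := fun e => ne (Subtype.ext e.symm)
  obtain ⟨X, hX, m, nX⟩ := ih _ (kk_lt n1) ψ.2
  refine ⟨X, hX.trans (kk_le _), m, le_trans (le_norm_iff.2 fun a ha y hy => ?_) nX⟩
  obtain ⟨h, e⟩ := mem_kk.1 hy
  refine mem_kk.2 ⟨conj_mem ha h, ?_⟩
  have := DFunLike.congr_fun (congrArg Subtype.val (hψ ⟨a, ha⟩)) ⟨a * y * a⁻¹, conj_mem ha h⟩
  rw [← this, ← e]
  exact congrArg ψ.1 (Subtype.ext (by
    show ((K.normalizerMonoidHom (⟨a, ha⟩ : N[K])⁻¹ _ : K) : G) = y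
    rw [val]; simp [mul_assoc]))

theorem normal4 (h2 : p ≠ 2) (hG : IsPGroup p G) {E : Subgroup G} (hE : Mem p E) :
    ∃ A : Subgroup G, A.Normal ∧ IsElementaryAbelian p A ∧ Nat.card A = p ^ 4 := by
  obtain ⟨A, -, m, n⟩ := main h2 hG ⊤ ⟨E, le_top, hE⟩
  rw [norm_top, top_le_iff] at n
  exact ⟨A, normalizer_eq_top_iff.1 n, m.1, m.2⟩

end H17.Kv
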