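import Cfsg.Agent.H4.GamL2
import Cfsg.Agent.H4.Dk5
import Cfsg.Agent.H4.Tor
import Cfsg.Agent.H5.Four
import Cfsg.Agent.H6.Count
import Cfsg.Agent.Lead.GW2
import Cfsg.Agent.H16.Misc
import Cfsg.Agent.S2119

/-! Involutory automorphisms of `L₂(q)` and `A₇` centralizing no four-group. -/

set_option autoImplicit false
set_option linter.unusedSectionVars false

open Subgroup Cfsg H1 H16 H4
open scoped MatrixGroups

namespace H17.Od

variable {F : Type*} [Field F] [Fintype F]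

theorem six_le (h2 : (2 : F) ≠ 0) (h4 : 4 ≤ Fintype.card F) {g : GL (Fin 2) F} (h : g.1.trace = 0)
    (hL : pmk g ∉ pL F) : ∃ x ∈ pT g, 6 ≤ orderOf x ∧ Fintype.card F - 1 ≤ orderOf x := by
  obtain ⟨x, h1, h3⟩ := (dih_pN (disc_of_trace_zero h2 h)).exists_orderOf
  have := card_pT_outer h2 h hL
  exact ⟨x, h1, by omega, by omega⟩

theorem sq_ne {G : Type*} [Group G] {x : G} (h : 6 ≤ orderOf x) : x * x ≠ 1 := fun e => by
  have := orderOf_le_of_pow_eq_one (x := x) two_pos (by rw [pow_two, e]); omega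

theorem eq_pN (h2 : (2 : F) ≠ 0) (h4 : 4 ≤ Fintype.card F) {g : GL (Fin 2) F} (h : g.1.trace = 0)
    (hL : pmk g ∉ pL F) {M : Subgroup PGL(2, F)} (hM : IsCoatom M) (h1 : pN g ≤ M) : M = pN g := by
  have hd := disc_of_trace_zero h2 h
  obtain ⟨x, a1, a2, a3⟩ := six_le h2 h4 h hL
  have a4 := h1 (pT_le_pN g a1)
  rcases max_pgl h2 h4 hM (fun e => hM.1 (top_le_iff.1 fun y _ => by
      by_cases hy : y ∈ pL F
      · exact e hy
      · exact (M.mul_mem_cancel_right (h1 (pT_le_pN g (pmk_mem_pT_self g)))).1 (e (mul_mem_pL h2 hy hL)))) with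
    ⟨y, rfl⟩ | ⟨k, b1, rfl, -⟩ | ⟨-, -, e⟩ | ⟨E, r, P, b1, b2, b3, rfl⟩
  · exact (not_pN_inf_le_stab h2 hd y (inf_le_left.trans h1)).elim
  · obtain ⟨x, rfl⟩ := Matrix.ProjGenLinGroup.mk_surjective x
    have b2 : ¬ Sc x.1 := fun e => sq_ne a2 (by rw [pmk_eq_one_iff.2 e, mul_one])
    rw [← pN_eq_of_mem hd b2 a1, ← pN_eq_of_mem b1 b2 ((dih_pN b1).mem_of_sq a4 (sq_ne a2))]
  · have := orderOf_le_of_equiv e orderOf_s4 a4; omega
  · have b4 := orderOf_le_of_mem_pglS (H4.mem_cj.1 a4)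
    rw [H4.orderOf_cj] at b4
    have b5 : Nat.card E ^ 3 ≤ Nat.card E ^ r := Nat.pow_le_pow_right Nat.card_pos (by
      have := b1.two_le; have := Nat.odd_iff.1 b2; omega)
    have b6 := one_lt_card_subfield E
    have : Nat.card E ^ 3 ≤ Nat.card E + 2 := by omega
    nlinarith [sq_nonneg (Nat.card E)]

theorem pgl_eq (h2 : (2 : F) ≠ 0) (h4 : 4 ≤ Fintype.card F) {a b : PGL(2, F)} (ha : orderOf a = 2)
    (hb : orderOf b = 2) (ha' : a ∉ pL F) (hb' : b ∉ pL F) {H : Subgroup PGL(2, F)} (h : H ≠ ⊤)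
    (h1 : C1[a] ≤ H) (h3 : C1[b] ≤ H) : a = b := by
  obtain ⟨g, rfl, a1⟩ := exists_trace_zero ha
  obtain ⟨k, rfl, a2⟩ := exists_trace_zero hb
  obtain ⟨M, a3, a4⟩ := (eq_top_or_exists_le_coatom H).resolve_left h
  have a5 := eq_pN h2 h4 a1 ha' a3 fun y hy => a4 (h1 (mem_cent1.2 ((commute_iff_mem_pN a1).2 hy)))
  have a6 := eq_pN h2 h4 a2 hb' a3 fun y hy => a4 (h3 (mem_cent1.2 ((commute_iff_mem_pN a2).2 hy)))
  obtain ⟨x, b1, b2, -⟩ := six_le h2 h4 a1 ha'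
  have hd := disc_of_trace_zero h2 a1
  have b3 : pmk k ∈ pT g := mem_pT_of_comm h2 (fun e => by
    rw [pmk_eq_one_iff.2 e, orderOf_one] at ha; omega) b1 (sq_ne b2)
    ((commute_iff_mem_pN a2).2 (a6 ▸ a5 ▸ pT_le_pN g b1)).symm
  exact H6.ord2_unique_of_isCyclic (isCyclic_pT hd) (pmk_mem_pT_self g) b3 ha hb

theorem exists_refl' (h2 : (2 : F) ≠ 0) {a : PGL(2, F)} (ha : orderOf a = 2) : ∃ s ∈ pL F, Four a s := by
  obtain ⟨g, rfl, a1⟩ := exists_trace_zero ha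
  have hd := disc_of_trace_zero h2 a1
  obtain ⟨s, b1, b2, b3⟩ := exists_refl hd
  exact ⟨s, b1, ha, orderOf_eq_prime (by rw [pow_two, (dih_pN hd).sq s b2 b3]) fun e => b3 (e ▸ one_mem _),
    fun e => b3 (e ▸ pmk_mem_pT_self g), ((commute_iff_mem_pN a1).2 b2).symm⟩

variable {G : Type*} [Group G] [Finite G] {E : Subgroup G}

theorem outer (M : Emb E F) (h2 : (2 : F) ≠ 0) {x : G} (hx : x * x = 1)
    (h : ∀ a ∈ E, ∀ b ∈ E, Four a b → Commute x a → ¬ Commute x b) :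
    M.θ x = 1 ∧ orderOf (M.f x) = 2 ∧ M.f x ∉ pL F := by
  have h1 : M.θ x = 1 := by
    by_contra e
    obtain ⟨a, h1, b, h3, h4, h5, h6⟩ := M.exists_four_comm h2 hx e
    exact h a h1 b h3 h4 h5 h6
  have k : ∀ a ∈ pL F, ∀ b ∈ pL F, Four a b → Commute (M.f x) a → ¬ Commute (M.f x) b := fun a ha b hb h3 h4 h5 => by
    obtain ⟨a, a1, rfl⟩ := M.surj a ha
    obtain ⟨b, b1, rfl⟩ := M.surj b hb
    exact h a a1 b b1 ((M.four_iff (M.θ_of_mem a1) (M.θ_of_mem b1)).1 h3)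
      ((M.commute_iff h1 (M.θ_of_mem a1)).1 h4) ((M.commute_iff h1 (M.θ_of_mem b1)).1 h5)
  have h3 : orderOf (M.f x) = 2 := orderOf_eq_prime (by rw [pow_two, ← M.mul' h1, hx, M.f_one]) fun e => by
    obtain ⟨a, ha, b, hb, h4, -⟩ := exists_four_mem h2 (⊤ : Subfield F)
    exact k a (pslS_le_pL _ ha) b (pslS_le_pL _ hb) h4 (e ▸ Commute.one_left a) (e ▸ Commute.one_left b)
  refine ⟨h1, h3, fun e => ?_⟩
  obtain ⟨s, h4, h5⟩ := exists_refl' h2 h3
  exact k _ e s h4 h5 (Commute.refl _) h5.comm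

theorem emb_eq (M : Emb E F) (h2 : (2 : F) ≠ 0) (h4 : 4 ≤ Fintype.card F) {x y : G} (hx : x * x = 1)
    (hy : y * y = 1) (h : ∀ a ∈ E, ∀ b ∈ E, Four a b → Commute x a → ¬ Commute x b)
    (h' : ∀ a ∈ E, ∀ b ∈ E, Four a b → Commute y a → ¬ Commute y b) {K : Subgroup G}
    (hK : E ≤ N[K] → K = ⊥) (h1 : E ⊓ C1[x] ≤ K) (h3 : E ⊓ C1[y] ≤ K) (h5 : x ∈ N[K]) (h6 : y ∈ N[K]) : x = y := by
  obtain ⟨a1, a2, a3⟩ := outer M h2 hx h
  obtain ⟨b1, b2, b3⟩ := outer M h2 hy h'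
  have k : ∀ x, M.θ x = 1 → M.f x ∉ pL F → E ⊓ C1[x] ≤ K → x ∈ N[K] → C1[M.f x] ≤ M.im N[K] := by
    intro x a1 a3 h1 h5
    have k : ∀ z ∈ pL F, z ∈ C1[M.f x] → z ∈ M.im N[K] := fun z hz c => by
      obtain ⟨z, c1, rfl⟩ := M.surj z hz
      exact (M.f_mem_im (M.θ_of_mem c1)).2 (le_norm _ (h1 ⟨c1, mem_cent1.2
        ((M.commute_iff (M.θ_of_mem c1) a1).1 (mem_cent1.1 c))⟩))
    intro z hz
    by_cases e : z ∈ pL F
    · exact k z e hz
    · exact (Subgroup.mul_mem_cancel_right _ ((M.f_mem_im a1).2 h5)).1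
        (k _ (mul_mem_pL h2 e a3) (mul_mem hz (cent1_self _)))
  refine M.eq_of a1 b1 (pgl_eq h2 h4 a2 b2 a3 b3 (fun e => ?_) (k x a1 a3 h1 h5) (k y b1 b3 h3 h6))
  obtain ⟨s, c1, c2⟩ := exists_refl' h2 a2
  obtain ⟨s, c3, rfl⟩ := M.surj s c1
  have := h1 ⟨c3, mem_cent1.2 ((M.commute_iff a1 (M.θ_of_mem c3)).1 c2.comm).symm⟩
  rw [hK fun z hz => (M.f_mem_im (M.θ_of_mem hz)).1 (e ▸ mem_top _), mem_bot] at this
  have c4 := c2.ob
  rw [this, M.f_one, orderOf_one] at c4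
  omega

open Equiv Equiv.Perm in
theorem s7_four {g : Perm (Fin 7)} (h : g * g = 1) : ∃ a b : alternatingGroup (Fin 7), Four a b ∧
    Commute g a ∧ Commute g b := by
  have k : ∃ w, IsConj w g ∧ Commute w (swap 0 1 * swap 2 3) ∧ Commute w (swap 0 1 * swap 4 5) := by
    by_cases e : g = 1
    · exact ⟨1, e ▸ IsConj.refl _, Commute.one_left _, Commute.one_left _⟩
    have h0 : orderOf g = 2 := orderOf_eq_prime (by rw [pow_two, h]) e
    obtain ⟨n, hn⟩ := cycleType_prime_order (σ := g) (h0 ▸ Nat.prime_two)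
    have h1 := g.sum_cycleType_le
    simp only [isConj_iff_cycleType_eq]
    rw [hn, h0] at h1 ⊢
    simp only [Multiset.sum_replicate, smul_eq_mul, Fintype.card_fin] at h1
    have : n ≤ 2 := by omega
    interval_cases n
    · exact ⟨swap 0 1, by decide +kernel, show _ = _ by decide, show _ = _ by decide⟩
    · exact ⟨swap 0 1 * swap 2 3, by decide +kernel, show _ = _ by decide, show _ = _ by decide⟩
    · exact ⟨swap 0 1 * swap 2 3 * swap 4 5, by decide +kernel, show _ = _ by decide, show _ = _ by decide⟩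
  obtain ⟨w, h1, h2, h3⟩ := k
  obtain ⟨c, rfl⟩ := isConj_iff.1 h1
  have h4 : Four (⟨swap 0 1 * swap 2 3, mem_alternatingGroup.2 (by decide)⟩ : alternatingGroup (Fin 7))
      ⟨swap 0 1 * swap 4 5, mem_alternatingGroup.2 (by decide)⟩ :=
    ⟨orderOf_eq_prime (by decide) (by decide), orderOf_eq_prime (by decide) (by decide), by decide,
      show _ = _ by decide⟩
  exact ⟨_, _, h4.map (f := (MulAut.conjNormal c).toMonoidHom) (MulAut.conjNormal c).injective,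
    h2.map (MulAut.conj c), h3.map (MulAut.conj c)⟩

theorem aut_eq {S : Type*} [Group S] [Finite S] (hs : IsSimpleGroup S) (hn : ¬ IsMulCommutative S)
    (hk : GW.Known S) {α β : MulAut S} (h1 : α * α = 1) (h2 : β * β = 1)
    (h3 : ∀ x y, Four x y → α x = x → α y ≠ y) (h4 : ∀ x y, Four x y → β x = x → β y ≠ y)
    {K : Subgroup S} (hK : K ≠ ⊤) (h5 : ∀ x, α x = x → x ∈ K) (h6 : ∀ x, β x = x → x ∈ K)
    (h7 : ∀ x ∈ K, α x ∈ K) (h8 : ∀ x ∈ K, β x ∈ K) : α = β := by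
  rcases hk with ⟨F, _, _, ho, hF, ⟨e⟩⟩ | ⟨⟨e⟩⟩
  · have hz : center S = ⊥ := (hs.eq_bot_or_eq_top_of_normal _ inferInstance).resolve_right fun e =>
      hn ⟨⟨fun a b => mem_center_iff.1 (e ▸ mem_top b) a⟩⟩
    have hi : Function.Injective (MulAut.conj : S →* MulAut S) := (injective_iff_map_eq_one _).2 fun a e => by
      rw [← mem_bot, ← hz, mem_center_iff]
      exact fun g => (mul_inv_eq_iff_eq_mul.1 (DFunLike.congr_fun e g)).symm
    have k : ∀ (γ : MulAut S) (x : S), γ * MulAut.conj x * γ⁻¹ = MulAut.conj (γ x) := fun γ x => by ext; simp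
    have k1 : ∀ (γ : MulAut S) (x : S), Commute γ (MulAut.conj x) → γ x = x := fun γ x e =>
      hi (by rw [← k, e.eq, mul_inv_cancel_right])
    obtain ⟨M, -⟩ := exists_emb (E := (MulAut.conj : S →* MulAut S).range) (eq_bot_iff.2 fun γ hγ =>
      MulEquiv.ext fun g => k1 γ g (hγ _ ⟨g, rfl⟩).symm) (two_ne_zero_of_odd ho)
      ((MonoidHom.ofInjective hi).symm.trans e)
    have k2 : ∀ γ : MulAut S, (∀ x ∈ K, γ x ∈ K) → γ ∈ N[K.map MulAut.conj] := fun γ h =>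
      mem_normalizer_fintype (by rintro _ ⟨x, hx, rfl⟩; exact ⟨_, h x hx, (k γ x).symm⟩)
    refine emb_eq M (two_ne_zero_of_odd ho) hF h1 h2 ?_ ?_ (K := K.map MulAut.conj) (fun e => ?_) ?_ ?_
      (k2 α h7) (k2 β h8)
    · rintro _ ⟨x, rfl⟩ _ ⟨y, rfl⟩ a1 a2 a3
      exact h3 x y (a1.of_map hi) (k1 _ _ a2) (k1 _ _ a3)
    · rintro _ ⟨x, rfl⟩ _ ⟨y, rfl⟩ a1 a2 a3
      exact h4 x y (a1.of_map hi) (k1 _ _ a2) (k1 _ _ a3)
    · rw [(hs.eq_bot_or_eq_top_of_normal K ⟨fun x hx g => ?_⟩).resolve_right hK, Subgroup.map_bot]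
      have := (mem_normalizer_iff.1 (e ⟨g, rfl⟩) _).1 (mem_map_of_mem MulAut.conj hx)
      rwa [k, mem_map_iff_mem hi] at this
    · rintro _ ⟨⟨x, rfl⟩, hx⟩
      exact mem_map_of_mem _ (h5 x (k1 _ _ (mem_cent1.1 hx).symm))
    · rintro _ ⟨⟨x, rfl⟩, hx⟩
      exact mem_map_of_mem _ (h6 x (k1 _ _ (mem_cent1.1 hx).symm))
  · have hb := Cfsg.Agent.S2119.result 7 (by norm_num) (by norm_num)
    obtain ⟨g, hg⟩ := hb.2 (MulAut.congr e α)
    obtain ⟨a, b, a1, a2, a3⟩ := s7_four (g := g) (hb.1 (by rw [map_mul, hg, ← map_mul, h1, map_one, map_one]))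
    have k : ∀ a : alternatingGroup (Fin 7), Commute g a → α (e.symm a) = e.symm a := fun a h => by
      have : MulAut.conjNormal g a = a := Subtype.ext (mul_inv_eq_iff_eq_mul.2 h)
      rw [hg] at this
      exact e.injective (by simpa using this)
    exact (h3 _ _ (a1.map (f := e.symm.toMonoidHom) e.symm.injective) (k a a2) (k b a3)).elim

end H17.Od
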