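import Cfsg.Agent.H17.PH
import Cfsg.Agent.S0877

/-! `π`-homogeneous `D_π`-groups all of whose proper subgroups are `π`-separable. -/

set_option autoImplicit false
set_option linter.unusedSectionVars false

open Subgroup Cfsg H1 H16

namespace H17.Ho

universe u

variable {G : Type u} [Group G] [Finite G] {π : Set ℕ}

theorem PH.cent (h : PH π G) {H : Subgroup G} (hH : Pi[π] H) {x : G} (hx : IsPiNat πᶜ (orderOf x))
    (hn : x ∈ N[H]) : x ∈ C[H] := by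
  refine le_cent1.1 (le_of_sy fun r hr hd => ?_)
  have := Fact.mk hr
  obtain ⟨P, h1, h2⟩ := sy_inv r (zpowers_le.2 hn) (by rw [card_zpowers]; exact (IsPiNat.coprime hH hx).symm)
    (Or.inl (sol_of_comm (comm_of_cyclic (cyclic_zpowers x))))
  exact ⟨P, h1, le_cent1.2 (h r hr (hH r hr hd) P (sy_pg h1) x hx (h2 (mem_zpowers x)))⟩

theorem PH.hom (h : PH π G) (H : Subgroup G) (hH : IsPiNat π (Nat.card H)) : IsPiNat π (C[H].relIndex N[H]) := by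
  intro p hp hd
  by_contra hπ
  have := Fact.mk hp
  obtain ⟨y, hy⟩ := exists_prime_orderOf_dvd_card' (G := N[H] ⧸ C[H].subgroupOf N[H]) p hd
  obtain ⟨x, rfl, hx⟩ := H8.exists_lift_coprime _ (QuotientGroup.mk'_surjective _) y
  have h2 : (x : G) ∈ C[H] := h.cent hH (fun q hq hq' => by
    rwa [(Nat.prime_dvd_prime_iff_eq hq hp).1 (hy ▸ hx q hq (by rwa [orderOf_coe] at hq'))]) x.2
  rw [show QuotientGroup.mk' _ x = 1 from (QuotientGroup.eq_one_iff x).2 h2, orderOf_one] at hy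
  exact hp.one_lt.ne hy

/-- a normal `π`-complement of a `π`-separable subgroup -/
theorem PH.compl (h : PH π G) {M : Subgroup G} (hM : PiSep π M) : ∃ O, Hl[πᶜ] O M ∧ M ≤ N[O] := by
  have h1 := H8.isPiNat_quot (H8.piClosed_iff.1 (closed hM fun H _ => (h.sub M).hom H))
  refine ⟨(piCore πᶜ M).map M.subtype, hl_mk (map_subtype_le _) (by
    unfold IsPiSubgroup; rw [card_map_of_injective M.subtype_injective]; exact isPiNat_card_piCore _) ?_,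
    fun g hg => ?_⟩
  · rwa [relIndex, subgroupOf, comap_map_eq_self_of_injective M.subtype_injective]
  · exact le_normalizer_map _ ⟨⟨g, hg⟩, by rw [normalizer_eq_top]; trivial, rfl⟩

/-- all `π`-subgroups are conjugate into one -/
def DP (π : Set ℕ) (X : Type*) [Group X] : Prop :=
  ∃ H : Subgroup X, Pi[π] H ∧ ∀ U : Subgroup X, Pi[π] U → ∃ g, U ≤ H :^ g

theorem dp_of (h : IsDPiGroup π G) : DP π G := by
  have key : ∀ U : Subgroup G, Pi[π] U → ∃ V, U ≤ V ∧ Maximal (IsPiSubgroup π) V := fun U hU => by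
    obtain ⟨V, a, b, c⟩ := exists_max_of (C := Pi[π]) hU
    exact ⟨V, a, b, fun W d e => (c W d e).le⟩
  obtain ⟨H, -, hH⟩ := key ⊥ (by unfold IsPiSubgroup; rw [card_bot]; exact IsPiNat.one π)
  refine ⟨H, hH.1, fun U hU => ?_⟩
  obtain ⟨V, a, b⟩ := key U hU
  obtain ⟨g, rfl⟩ := h H V hH b
  exact ⟨g, a⟩

theorem DP.surj (h : DP π G) {X : Type*} [Group X] (f : G →* X) (hf : Function.Surjective f) : DP π X := by
  obtain ⟨H, h1, h2⟩ := h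
  refine ⟨H.map f, IsPiNat.of_dvd h1 (card_map_dvd _ _), fun U hU => ?_⟩
  obtain ⟨V, hV, rfl⟩ := exists_lift_pi f hf hU
  obtain ⟨g, hg⟩ := h2 V hV
  refine ⟨f g, ?_⟩
  rintro _ ⟨v, hv, rfl⟩
  exact mem_cj.2 ⟨_, mem_cj.1 (hg hv), by simp⟩

theorem DP.hall (h : DP π G) : ∃ H : Subgroup G, Hl[π] H ⊤ ∧ ∀ U : Subgroup G, Pi[π] U → ∃ g, U ≤ H :^ g := by
  obtain ⟨H, h1, h2⟩ := h
  refine ⟨H, ⟨le_top, h1, fun p hp hπ hd => ?_⟩, h2⟩
  have := Fact.mk hp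
  obtain ⟨P, hP⟩ := sy_exists p (⊤ : Subgroup G)
  obtain ⟨g, hg⟩ := h2 P (IsPiNat.mono (hl_pi hP) (Set.singleton_subset_iff.2 hπ))
  rw [← relIndex_cj _ _ g, cj_top] at hd
  exact sy_not_dvd hP hp (hd.trans (relIndex_dvd_of_le_left _ hg))

theorem DP.ge (h : DP π G) {U : Subgroup G} (hU : Pi[π] U) : ∃ H, Hl[π] H ⊤ ∧ U ≤ H := by
  obtain ⟨H, h1, h2⟩ := h.hall
  obtain ⟨g, hg⟩ := h2 U hU
  exact ⟨_, hl_cj_top h1 g, hg⟩

theorem DP.conj (h : DP π G) {H K : Subgroup G} (hH : Hl[π] H ⊤) (hK : Hl[π] K ⊤) : ∃ g, H :^ g = K := by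
  obtain ⟨L, h1, h2⟩ := h.hall
  obtain ⟨a, ha⟩ := h2 H (hl_pi hH)
  obtain ⟨b, hb⟩ := h2 K (hl_pi hK)
  exact ⟨b * a⁻¹, by rw [hl_eq_of_le hH (hl_cj_top h1 a) ha, hl_eq_of_le hK (hl_cj_top h1 b) hb, cj_cj,
    inv_mul_cancel_right]⟩

structure Mn (π : Set ℕ) (G : Type u) [Group G] : Prop where
  ph : PH π G
  dp : DP π G
  sep : ∀ M : Subgroup G, M ≠ ⊤ → PiSep π M

theorem pi_elt {O : Subgroup G} (h : Pi[π] O) {x : G} (hx : x ∈ O) : IsPiNat π (orderOf x) :=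
  IsPiNat.of_dvd h (orderOf_dvd_card hx)

theorem Mn.trans (h : Mn π G) {p : ℕ} (hp : p.Prime) (hπ : p ∈ π)
    (hN : ∀ D : Subgroup G, D ≠ ⊥ → Pg[p] D → N[D] ≠ ⊤) (D : Subgroup G) :
    D ≠ ⊥ → Pg[p] D → ∀ H K, Hl[π] H ⊤ → Hl[π] K ⊤ → D ≤ H → D ≤ K → ∃ c ∈ C[D], H :^ c = K := by
  have := Fact.mk hp
  have hs : ({p} : Set ℕ) ⊆ π := Set.singleton_subset_iff.2 hπ
  induction D using ind_up with
  | h D ih =>
  intro h0 hD H K hH hK h1 h2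
  have hM := h.sep _ (hN D h0 hD)
  obtain ⟨O, hO, hn⟩ := h.ph.compl hM
  have hC : O ≤ C[D] := fun x hx => h.ph.cent (IsPiNat.mono hD hs) (pi_elt (hl_pi hO) hx) (hO.1 hx)
  by_cases hS : Sy[p] D ⊤
  · have key : ∀ H K, Hl[π] H ⊤ → Hl[π] K ⊤ → D ≤ H → D ≤ K → ∃ n ∈ N[D], H :^ n = K := by
      intro H K hH hK h1 h2
      obtain ⟨g, rfl⟩ := h.dp.conj hH hK
      obtain ⟨k, a, b⟩ := sy_conj (hl_of_le (hl_cj_top hS g) (cj_mono g h1) le_top) (hl_of_le hS h2 le_top)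
      exact ⟨k * g, cj_eq_self_iff.1 (by rw [← cj_cj, b]), by rw [← cj_cj, cj_self a]⟩
    obtain ⟨L, hL, h3⟩ := hM.hallOK'.exists_ge (le_norm D) (IsPiNat.mono hD hs)
    obtain ⟨H₃, h4, h5⟩ := h.dp.ge (hl_pi hL)
    obtain ⟨n, a, rfl⟩ := key _ _ h4 hH (h3.trans h5) h1
    obtain ⟨n', b, rfl⟩ := key _ _ hH hK h1 h2
    rw [← hl_sup_compl' hO (hl_cj_mem hL a), mem_sup_l ((hl_cj_mem hL a).1.trans hn)] at b
    obtain ⟨o, c, l, d, rfl⟩ := b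
    exact ⟨o, hC c, by rw [← cj_cj _ l o, cj_self (cj_mono n h5 d)]⟩
  have key : ∀ H, Hl[π] H ⊤ → D ≤ H → ∃ E, D < E ∧ E ≤ H ∧ E ≤ N[D] ∧ Pg[p] E := fun H hH h1 => by
    obtain ⟨P, a, b⟩ := sy_exists_ge h1 hD
    exact ⟨P ⊓ N[D], lt_sy_norm a (lt_of_le_of_ne b fun e => hS (e ▸ sy_trans a hH hπ)),
      inf_le_left.trans a.1, inf_le_right, IsPiNat.of_dvd (hl_pi a) (card_dvd inf_le_left)⟩
  obtain ⟨D₁, a1, a2, a3, a4⟩ := key H hH h1
  obtain ⟨D₂, b1, b2, b3, b4⟩ := key K hK h2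
  obtain ⟨L, hL, h3⟩ := hM.hallOK'.exists_ge a3 (IsPiNat.mono a4 hs)
  obtain ⟨k, hk, h4⟩ : ∃ k ∈ N[D], D₂ :^ k ≤ L := hM.hallOK'.exists_conj_le b3 (IsPiNat.mono b4 hs) hL
  rw [← hl_sup_compl hL hO, mem_sup_r (hL.1.trans hn)] at hk
  obtain ⟨l, c, o, d, rfl⟩ := hk
  rw [← cj_cj, cj_le_iff, cj_self (inv_mem c)] at h4
  obtain ⟨H₃, h5, h6⟩ := h.dp.ge (hl_pi hL)
  obtain ⟨c₁, e1, e2⟩ := ih D₁ a1 (ne_bot_of_le h0 a1.le) a4 H H₃ hH h5 a2 (h3.trans h6)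
  have b5 : D < D₂ :^ o := by rw [← cj_cent (hC d)]; exact cj_lt_cj.2 b1
  obtain ⟨c₂, e3, e4⟩ := ih _ b5 (ne_bot_of_le h0 b5.le) (by unfold IsPiSubgroup; rwa [card_cj]) H₃ (K :^ o) h5
    (hl_cj_top hK o) (h4.trans h6) (cj_mono o b2)
  exact ⟨o⁻¹ * (c₂ * c₁), mul_mem (inv_mem (hC d)) (mul_mem (cent_anti b5.le e3) (cent_anti a1.le e1)),
    by rw [← cj_cj, ← cj_cj, e2, e4, cj_cj_inv]⟩

theorem Mn.trans1 (h : Mn π G) (hN : ∀ p : ℕ, p.Prime → ∀ D : Subgroup G, D ≠ ⊥ → Pg[p] D → N[D] ≠ ⊤)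
    {x : G} (h0 : x ≠ 1) {H K : Subgroup G} (hH : Hl[π] H ⊤) (hK : Hl[π] K ⊤) (h1 : x ∈ H) (h2 : x ∈ K) :
    ∃ c ∈ C1[x], H :^ c = K := by
  obtain ⟨p, hp, hd⟩ := exists_prime_dvd (zpowers_ne_bot' h0)
  obtain ⟨D, h3, h4⟩ := exists_card_prime hp hd
  have hπ : p ∈ π := hl_pi hH p hp (hd.trans (card_dvd (zpowers_le.2 h1)))
  have hD : Pg[p] D := fun q hq e => (Nat.prime_dvd_prime_iff_eq hq hp).1 (h4 ▸ e)
  have hb := ne_bot_of_card hp h4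
  have hc : zpowers x ≤ C[D] := comm_cent (comm_of_cyclic (cyclic_zpowers x)) le_rfl h3
  have hM := h.sep C[D] fun e => hN p hp D hb hD (eq_top_iff.2 (e ▸ cent_le_norm D))
  obtain ⟨O, hO, hn⟩ := h.ph.compl hM
  obtain ⟨L, hL, h5⟩ := hM.hallOK'.exists_ge (h3.trans hc) (IsPiNat.mono hD (Set.singleton_subset_iff.2 hπ))
  obtain ⟨H₃, h6, h7⟩ := h.dp.ge (hl_pi hL)
  have T := h.trans hp hπ (hN p hp) D hb hD
  obtain ⟨c, a, rfl⟩ := T _ _ h6 hH (h5.trans h7) (h3.trans (zpowers_le.2 h1))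
  obtain ⟨c', b, rfl⟩ := T _ _ hH hK (h3.trans (zpowers_le.2 h1)) (h3.trans (zpowers_le.2 h2))
  rw [← hl_sup_compl' hO (hl_cj_mem hL a), mem_sup_l ((hl_cj_mem hL a).1.trans hn)] at b
  obtain ⟨o, e, l, d, rfl⟩ := b
  rw [← cj_cj _ l o, cj_self (cj_mono c h7 d)] at h2 ⊢
  refine ⟨o, mem_cent1.2 ?_, rfl⟩
  have := eq_one_of_mem_bot (hl_inf_compl hH hO) (x := x⁻¹ * (o⁻¹ * x * o)) (mem_inf.2 ⟨mul_mem (inv_mem h1) (mem_cj.1 h2), by
    simpa [mul_assoc] using mul_mem (conj_mem' (hn (hc (mem_zpowers x))) (inv_mem e)) e⟩)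
  rw [inv_mul_eq_one, mul_assoc, eq_inv_mul_iff_mul_eq] at this
  exact this

theorem Mn.simple (h : Mn π G) (hs : IsSimpleGroup G) (hc : ¬ IsMulCommutative G) :
    IsPiNat π (Nat.card G) ∨ IsPiNat πᶜ (Nat.card G) := by
  have hN : ∀ p : ℕ, p.Prime → ∀ D : Subgroup G, D ≠ ⊥ → Pg[p] D → N[D] ≠ ⊤ := fun p hp D h0 hD e => by
    have := Fact.mk hp
    obtain rfl := (hs.eq_bot_or_eq_top_of_normal D (normalizer_eq_top_iff.1 e)).resolve_left h0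
    have := ((pg_iff.1 hD).of_equiv topEquiv).isNilpotent
    exact hc ⟨⟨IsSimpleGroup.comm_iff_isSolvable.2 inferInstance⟩⟩
  obtain ⟨H, hH, h1⟩ := h.dp.hall
  have fin : H.Normal → IsPiNat π (Nat.card G) ∨ IsPiNat πᶜ (Nat.card G) := fun e => by
    rw [← card_top]
    exact (hs.eq_bot_or_eq_top_of_normal H e).symm.imp (fun e : H = ⊤ => e ▸ hl_pi hH) (pi_of_hl_bot hH)
  by_cases hM : N[H] = ⊤
  · exact fin (normalizer_eq_top_iff.1 hM)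
  obtain ⟨O, hO, hn⟩ := h.ph.compl (h.sep _ hM)
  have hL := hl_of_le hH (le_norm H) le_top
  obtain ⟨K, a, b, c⟩ := Agent.S0877.result H (by simpa using hl_coprime hH) (fun x hx y hy e => by
    by_cases h0 : x = 1
    · exact ⟨1, one_mem _, by simpa [h0] using e⟩
    obtain ⟨g, rfl⟩ := isConj_iff.1 e
    obtain ⟨c, a, b⟩ := h.trans1 hN h0 hH (hl_cj_top hH g⁻¹) hx (mem_cj.2 (by simpa using hy))
    have d : g * c ∈ N[H] := cj_eq_self_iff.1 (by rw [← cj_cj, b, cj_inv_cj])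
    rw [← hl_sup_compl hL hO, mem_sup_r (hL.1.trans hn)] at d
    obtain ⟨l, e1, o, e2, e3⟩ := d
    have e4 := cent_of_inf_bot hO.1 (hL.1.trans hn) (by rw [inf_comm]; exact hl_inf_compl hH hO) e2 x hx
    refine ⟨l, e1, ?_⟩
    calc _ = (l * o) * x * (l * o)⁻¹ := by rw [mul_assoc l o, ← e4]; group
      _ = _ := by rw [e3, mul_assoc g, mem_cent1.1 a]; group) (fun E p _ _ hd => by
    obtain ⟨g, hg⟩ := h1 E (IsPiNat.of_dvd (hl_pi hH) hd)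
    exact ⟨g⁻¹, le_cj_iff.1 hg⟩)
  rcases hs.eq_bot_or_eq_top_of_normal K a with rfl | rfl
  · exact fin (by rw [bot_sup_eq] at b; rw [b]; infer_instance)
  · exact fin (by rw [top_inf_eq] at c; rw [c]; infer_instance)

theorem Mn.piSep (X : Type u) [Group X] [Finite X] (h : Mn π X) : PiSep π X := by
  induction hn : Nat.card X using Nat.strong_induction_on generalizing X with
  | _ n ih =>
  subst hn
  by_cases hc : IsMulCommutative X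
  · exact piSep_of_isSolvable π (Group.isSolvable_of_comm hc.1.1)
  by_cases hs : IsSimpleGroup X
  · exact (h.simple hs hc).elim piSep_of_isPiNat piSep_of_isPiNat_compl
  have : Nontrivial X := by
    by_contra e
    rw [not_nontrivial_iff_subsingleton] at e
    exact hc ⟨⟨fun a b => Subsingleton.elim _ _⟩⟩
  obtain ⟨N, hN, a, b⟩ : ∃ N : Subgroup X, N.Normal ∧ N ≠ ⊥ ∧ N ≠ ⊤ := by
    by_contra! e
    exact hs ⟨fun N hN => or_iff_not_imp_left.2 (e N hN)⟩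
  have hf := QuotientGroup.mk'_surjective N
  refine PiSep.of_normal_quotient N (h.sep N b) (ih _ ?_ _ ⟨h.ph.surj _ hf, h.dp.surj _ hf, fun M hM => ?_⟩ rfl)
  · rw [card_eq_card_quotient_mul_card_subgroup N]
    exact lt_mul_of_one_lt_right Nat.card_pos ((one_lt_card_iff_ne_bot N).2 a)
  · rw [← map_comap_eq_self_of_surjective hf M]
    refine (h.sep _ fun e => hM ?_).map _
    rw [← map_comap_eq_self_of_surjective hf M, e, map_top_of_surjective _ hf]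

end H17.Ho
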