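import Cfsg.Agent.H12.Syl
import Cfsg.Agent.H1.Cores
import Cfsg.Agent.S0949

set_option autoImplicit false
set_option linter.style.haveILetI false
set_option linter.unusedSectionVars false

open Subgroup H12

namespace H17.Sa

universe u
variable {G : Type u} [Group G]

/-- `H⟨x⟩` when `x` normalises `H` and `x² ∈ H` -/
def ext2 (H : Subgroup G) (x : G) (hn : ∀ h ∈ H, x * h * x⁻¹ ∈ H) (hx : x * x ∈ H) :
    Subgroup G where
  carrier := {g | g ∈ H ∨ ∃ h ∈ H, g = h * x}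
  one_mem' := Or.inl H.one_mem
  mul_mem' := by
    rintro a b (ha | ⟨a, ha, rfl⟩) (hb | ⟨b, hb, rfl⟩)
    · exact Or.inl (H.mul_mem ha hb)
    · exact Or.inr ⟨_, H.mul_mem ha hb, by group⟩
    · exact Or.inr ⟨_, H.mul_mem ha (hn b hb), by group⟩
    · exact Or.inl (by
        have := H.mul_mem (H.mul_mem ha (hn b hb)) hx
        convert this using 1; group)
  inv_mem' := by
    rintro a (ha | ⟨a, ha, rfl⟩)
    · exact Or.inl (H.inv_mem ha)
    · exact Or.inr ⟨_, H.mul_mem (H.inv_mem hx) (hn _ (H.inv_mem ha)), by group⟩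

theorem mem_ext2 {H : Subgroup G} {x g : G} {hn hx} :
    g ∈ ext2 H x hn hx ↔ g ∈ H ∨ ∃ h ∈ H, g = h * x := Iff.rfl

theorem le_ext2 {H : Subgroup G} {x g : G} {hn hx} (h : g ∈ H) : g ∈ ext2 H x hn hx := Or.inl h

theorem self_ext2 {H : Subgroup G} {x : G} {hn hx} : x ∈ ext2 H x hn hx :=
  Or.inr ⟨1, H.one_mem, (one_mul x).symm⟩

theorem ext2_le {H K : Subgroup G} {x : G} {hn hx} (h : H ≤ K) (h' : x ∈ K) :
    ext2 H x hn hx ≤ K := by
  rintro g (hg | ⟨a, ha, rfl⟩)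
  · exact h hg
  · exact K.mul_mem (h ha) h'

theorem grow [Finite G] {S N : Subgroup G} (hS : IsPGroup 2 S) (hN : N ≤ S) (h : ¬ S ≤ N) :
    ∃ x ∈ S, x ∉ N ∧ (∀ n ∈ N, x * n * x⁻¹ ∈ N) ∧ x * x ∈ N := by
  haveI := Fact.mk Nat.prime_two
  obtain ⟨y, hy, yN⟩ := SetLike.exists_of_lt
    (lt_inf_normalizer hS (lt_of_le_of_ne hN fun e => h e.ge))
  obtain ⟨k, hk⟩ := hS ⟨y, hy.1⟩
  have hk' : y ^ 2 ^ k ∈ N := by
    have : y ^ 2 ^ k = 1 := congrArg Subtype.val hk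
    rw [this]; exact N.one_mem
  clear hk
  induction k generalizing y with
  | zero => exact absurd (by simpa using hk') yN
  | succ k ih =>
    by_cases h2 : y * y ∈ N
    · exact ⟨y, hy.1, yN, fun n hn => (mem_normalizer_iff.1 hy.2 n).1 hn, h2⟩
    · exact ih (y * y) (mul_mem hy hy) h2 (by rwa [← pow_two, ← pow_mul, ← pow_succ'])

theorem comm2 {M T K : Subgroup G} (h2 : ∀ p ∈ T, ∀ q ∈ T, p ∉ M → q ∉ M → q * p⁻¹ ∈ M)
    (h : ∀ s ∈ T, ∀ m ∈ M, s * m * s⁻¹ * m⁻¹ ∈ K) :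
    ∀ p ∈ T, ∀ q ∈ T, p * q * p⁻¹ * q⁻¹ ∈ K := by
  intro p hp q hq
  by_cases qM : q ∈ M
  · exact h p hp q qM
  by_cases pM : p ∈ M
  · have := K.inv_mem (h q hq p pM)
    convert this using 1; group
  have := h p hp _ (h2 p hp q hq pM qM)
  convert this using 1; group

theorem tr_pow [Finite G] {S : Subgroup G} {C : Type*} [CommGroup C] (φ : S →* C) {y : G}
    (yy : y * y = 1) {c : C} (cc : c * c = 1)
    (h : ∀ g : G, ∀ m : g * y * g⁻¹ ∈ S, φ ⟨_, m⟩ = c) : MonoidHom.transfer φ y = c ^ S.index := by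
  classical
  haveI := Fintype.ofFinite (Quotient (MulAction.orbitRel (zpowers y) (G ⧸ S)))
  rw [MonoidHom.transfer_eq_prod_quotient_orbitRel_zpowers_quot,
    index_eq_sum_minimalPeriod S y, ← Finset.prod_pow_eq_pow_sum]
  refine Finset.prod_congr rfl fun q _ => ?_
  have key : ∀ (k : ℕ) (g : G) (m : g⁻¹ * y ^ k * g ∈ S), φ ⟨_, m⟩ = c ^ k := by
    intro k g m
    have y2 : y ^ 2 = 1 := by rw [pow_two, yy]
    have c2 : c ^ 2 = 1 := by rw [pow_two, cc]
    rcases Nat.even_or_odd' k with ⟨j, rfl | rfl⟩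
    · have : (⟨_, m⟩ : S) = 1 := Subtype.ext (by simp [pow_mul, y2])
      rw [this, map_one, pow_mul, c2, one_pow]
    · have e : g⁻¹ * y ^ (2 * j + 1) * g = g⁻¹ * y * g⁻¹⁻¹ := by
        rw [pow_succ, pow_mul, y2]; simp
      have : (⟨_, m⟩ : S) = ⟨_, e ▸ m⟩ := Subtype.ext e
      rw [this, h, pow_succ, pow_mul, c2, one_pow, one_mul]
  exact key _ _ _

theorem tr0 [Finite G] {S K : Subgroup G} (ho : ¬ 2 ∣ S.index)
    (hK : ∀ p ∈ S, ∀ q ∈ S, p * q * p⁻¹ * q⁻¹ ∈ K) :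
    ∃ (C : Type u) (_ : CommGroup C) (V : G →* C),
      (∀ y ∈ S, y * y = 1 → y ∉ K → (∀ g, g * y * g⁻¹ ∈ S → g * y * g⁻¹ * y ∈ K) → V y ≠ 1) ∧
      ∀ y, y * y = 1 → (∀ g, g * y * g⁻¹ ∈ S → g * y * g⁻¹ ∈ K) → V y = 1 := by
  let K' := (K.subgroupOf S).map (Abelianization.of (G := S))
  let φ : S →* Abelianization S ⧸ K' := (QuotientGroup.mk' K').comp Abelianization.of
  have hφ : ∀ s : S, φ s = 1 ↔ (s : G) ∈ K := fun s => by
    change ((Abelianization.of s : Abelianization S) : Abelianization S ⧸ K') = 1 ↔ _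
    rw [QuotientGroup.eq_one_iff]
    refine ⟨fun ⟨k, hk, e⟩ => ?_, fun h => ⟨s, h, rfl⟩⟩
    have h1 : k⁻¹ * s ∈ commutator S := QuotientGroup.eq.1 e
    have h2 : commutator S ≤ K.subgroupOf S :=
      commutator_le.2 fun p _ q _ => hK p p.2 q q.2
    have := (K.subgroupOf S).mul_mem hk (h2 h1)
    rwa [mul_inv_cancel_left] at this
  refine ⟨_, inferInstance, MonoidHom.transfer φ, fun y yS yy yK h => ?_, fun y yy h => ?_⟩
  · have cc : φ ⟨y, yS⟩ * φ ⟨y, yS⟩ = 1 := by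
      rw [← map_mul]; exact (hφ _).2 (by change y * y ∈ K; rw [yy]; exact K.one_mem)
    rw [tr_pow φ yy cc fun g m => ?_]
    · obtain ⟨j, hj⟩ := Nat.odd_iff.2 (Nat.two_dvd_ne_zero.1 ho)
      rw [hj, pow_succ, pow_mul, pow_two, cc, one_pow, one_mul]
      exact fun e => yK ((hφ _).1 e)
    · have := (hφ (⟨_, m⟩ * ⟨y, yS⟩)).2 (h g m)
      rw [map_mul, ← cc] at this
      exact mul_right_cancel this
  · rw [tr_pow φ yy (one_mul 1) fun g m => (hφ _).2 (h g m), one_pow]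

theorem perf_ker {A : Subgroup G} (hA : commutator A = ⊤) {C : Type*} [CommGroup C] (V : G →* C)
    {y : G} (hy : y ∈ A) : V y = 1 :=
  Abelianization.commutator_subset_ker (V.comp A.subtype)
    (hA ▸ mem_top _ : (⟨y, hy⟩ : A) ∈ commutator A)

theorem tr1 [Finite G] {A T K : Subgroup G} (hA : commutator A = ⊤) (hT : SylIn 2 T A)
    (hK : ∀ p ∈ T, ∀ q ∈ T, p * q * p⁻¹ * q⁻¹ ∈ K) {y : G} (yT : y ∈ T) (yy : y * y = 1)
    (yK : y ∉ K) : ∃ g ∈ A, g * y * g⁻¹ ∈ T ∧ g * y * g⁻¹ * y ∉ K := by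
  by_contra hc
  obtain ⟨C, _, V, h1, -⟩ := tr0 (G := A) (S := T.subgroupOf A) (K := K.subgroupOf A) hT.not_dvd
    fun p hp q hq => hK p hp q hq
  refine h1 ⟨y, hT.le yT⟩ yT (Subtype.ext yy) yK (fun g hg => ?_)
    (Abelianization.commutator_subset_ker V (hA ▸ mem_top _))
  by_contra h
  exact hc ⟨g, g.2, hg, h⟩

theorem ext [Finite G] {H S P : Subgroup G} (hS : SylIn 2 S H) {z w g : G}
    (hz : ∀ s ∈ S, s * z = z * s) (hg : g ∈ H) (e : g * w * g⁻¹ = z) (hP : IsPGroup 2 P)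
    (PH : P ≤ H) (Pw : ∀ p ∈ P, p * w = w * p) :
    ∃ g ∈ H, g * w * g⁻¹ = z ∧ ∀ p ∈ P, g * p * g⁻¹ ∈ S := by
  haveI := Fact.mk Nat.prime_two
  have h1 : SylIn 2 S (H ⊓ centralizer ({z} : Set G)) :=
    hS.of_le (le_inf hS.le fun s hs => mem_centralizer_singleton_iff.2 (hz s hs)) inf_le_left
  obtain ⟨x, hx, hle⟩ := h1.exists_cj_le (R := cj(g, P)) (hP.map _) (by
    rintro _ ⟨p, hp, rfl⟩
    refine ⟨H.mul_mem (H.mul_mem hg (PH hp)) (H.inv_mem hg), mem_centralizer_singleton_iff.2 ?_⟩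
    change g * p * g⁻¹ * z = z * (g * p * g⁻¹)
    rw [← e]
    calc g * p * g⁻¹ * (g * w * g⁻¹) = g * (p * w) * g⁻¹ := by group
      _ = g * (w * p) * g⁻¹ := by rw [Pw p hp]
      _ = _ := by group)
  refine ⟨x * g, H.mul_mem hx.1 hg, ?_, fun p hp => ?_⟩
  · have := mem_centralizer_singleton_iff.1 hx.2
    calc x * g * w * (x * g)⁻¹ = x * (g * w * g⁻¹) * x⁻¹ := by group
      _ = z := by rw [e, this, mul_inv_cancel_right]
  · have := hle ⟨_, ⟨p, hp, rfl⟩, rfl⟩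
    change x * (g * p * g⁻¹) * x⁻¹ ∈ S at this
    convert this using 1; group

theorem brauer0 [Finite G] (hG : commutator G = ⊤) (P : Sylow 2 G) {x y : G}
    (xP : x ∈ (P : Subgroup G)) (yP : y ∈ (P : Subgroup G)) (c : Commute x y) (x4 : x ^ 4 = 1)
    (y4 : y ^ 4 = 1) (y2 : y ^ 2 ≠ 1) (hx : x ^ 2 ∉ zpowers y)
    (hP : ∀ p ∈ (P : Subgroup G), ∃ i j : ℕ, p = x ^ i * y ^ j) : False := by
  haveI := Fact.mk Nat.prime_two
  have pm : ∀ {g : G}, g ^ 4 = 1 → ∀ n : ℕ, g ^ (n % 4) = g ^ n := fun {g} h n => by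
    conv_rhs => rw [← Nat.mod_add_div n 4, pow_add, pow_mul, h, one_pow, mul_one]
  have pm' : ∀ {g : G}, g ^ 4 = 1 → ∀ n : ℕ, g ^ (n % 2 ^ 2) = g ^ n := pm
  let f : Multiplicative (ZMod (2 ^ 2) × ZMod (2 ^ 2)) →* G := MonoidHom.mk'
    (fun p => x ^ (p.toAdd.1.val) * y ^ (p.toAdd.2.val)) fun p q => by
      simp only [toAdd_mul, Prod.fst_add, Prod.snd_add, ZMod.val_add]
      rw [pm' x4, pm' y4, pow_add, pow_add,
        (c.pow_pow _ _).symm.mul_mul_mul_comm]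
  have hf : ∀ p, f p = 1 → p = 1 := by
    intro p hp
    change x ^ (p.toAdd.1.val) * y ^ (p.toAdd.2.val) = 1 at hp
    have h1 : x ^ (p.toAdd.1.val) ∈ zpowers y := by
      rw [eq_inv_of_mul_eq_one_left hp]
      exact inv_mem (npow_mem_zpowers y _)
    have l1 := ZMod.val_lt p.toAdd.1
    have l2 := ZMod.val_lt p.toAdd.2
    have e1 : p.toAdd.1.val = 0 := by
      by_contra h
      have := (zpowers y).pow_mem h1 (if p.toAdd.1.val = 2 then 1 else 2)
      rw [← pow_mul, ← pm x4] at this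
      apply hx
      generalize p.toAdd.1.val = n at *
      interval_cases n <;> simp_all
    rw [e1, pow_zero, one_mul] at hp
    have e2 : p.toAdd.2.val = 0 := by
      by_contra h
      have := congrArg (· ^ (if p.toAdd.2.val = 2 then 1 else 2)) hp
      simp only [one_pow] at this
      rw [← pow_mul, ← pm y4] at this
      apply y2
      generalize p.toAdd.2.val = n at *
      interval_cases n <;> simp_all
    rw [ZMod.val_eq_zero] at e1 e2
    exact Multiplicative.toAdd.injective (Prod.ext e1 e2)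
  let O := Cfsg.piCore ({2}ᶜ : Set ℕ) G
  let π := QuotientGroup.mk' O
  have hs : Function.Surjective π := QuotientGroup.mk'_surjective O
  have hi : Function.Injective (π.comp f) := (injective_iff_map_eq_one _).2 fun p hp => by
    have m : f p ∈ O := (QuotientGroup.eq_one_iff _).1 hp
    have h1 : (Nat.card O).Coprime 2 :=
      (H1.isPiNat_compl_singleton_iff Nat.prime_two).1 (H1.isPiNat_card_piCore _)
    have h2 : orderOf (f p) ∣ 2 ^ 2 := orderOf_dvd_of_pow_eq_one (by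
      rw [← map_pow, (by decide : ∀ p : Multiplicative (ZMod (2 ^ 2) × ZMod (2 ^ 2)),
        p ^ 2 ^ 2 = 1) p, map_one])
    exact hf p (orderOf_eq_one_iff.1
      (Nat.eq_one_of_dvd_coprimes (h1.pow_right 2) (O.orderOf_dvd_natCard m) h2))
  have hr : (π.comp f).range = (P.mapSurjective hs : Subgroup (G ⧸ O)) := by
    rw [Sylow.coe_mapSurjective]
    apply le_antisymm
    · rintro _ ⟨p, rfl⟩
      exact ⟨f p, mul_mem (pow_mem xP _) (pow_mem yP _), rfl⟩
    · rintro _ ⟨p, hp, rfl⟩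
      obtain ⟨i, j, rfl⟩ := hP p hp
      refine ⟨Multiplicative.ofAdd ((i : ZMod (2 ^ 2)), (j : ZMod (2 ^ 2))), congrArg π ?_⟩
      change x ^ (i : ZMod (2 ^ 2)).val * y ^ (j : ZMod (2 ^ 2)).val = _
      rw [ZMod.val_natCast, ZMod.val_natCast, pm' x4, pm' y4]
  obtain ⟨hn, hc, h13⟩ := Cfsg.Agent.S0949.result (P.mapSurjective hs) 2 le_rfl
    ((MonoidHom.ofInjective hi).trans (MulEquiv.subgroupCongr hr)).symm fun N hN ho =>
      H1.piCore_eq_bot_iff.1 (H1.piCore_quotient_piCore ({2}ᶜ : Set ℕ)) N hN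
        ((H1.isPiNat_compl_singleton_iff Nat.prime_two).2 (Nat.coprime_two_right.2 ho))
  have hq : commutator (G ⧸ O) = ⊤ := by
    rw [_root_.commutator_def, ← map_top_of_surjective π hs, ← map_commutator,
      ← _root_.commutator_def, hG]
  have ht : (P.mapSurjective hs : Subgroup (G ⧸ O)) = ⊤ := by
    rcases h13 with h | h
    · exact index_eq_one.1 h
    · haveI := Fact.mk Nat.prime_three
      haveI := isCyclic_of_prime_card (p := 3) h
      rw [eq_top_iff, ← hq]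
      exact Normal.quotient_commutative_iff_commutator_le.1 inferInstance
  have hb : commutator (G ⧸ O) = ⊥ := by
    rw [_root_.commutator_def, commutator_eq_bot_iff_le_centralizer, ← ht]
    exact hc.ge
  have : (π.comp f) (Multiplicative.ofAdd (1, 0)) = (π.comp f) 1 := by
    rw [map_one, ← mem_bot, ← hb, hq]; trivial
  exact absurd (hi this) (by decide)

theorem brauer [Finite G] {A T : Subgroup G} (hA : commutator A = ⊤) (hT : SylIn 2 T A) {x y : G}
    (xP : x ∈ T) (yP : y ∈ T) (c : Commute x y) (x4 : x ^ 4 = 1)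
    (y4 : y ^ 4 = 1) (y2 : y ^ 2 ≠ 1) (hx : x ^ 2 ∉ zpowers y)
    (hP : ∀ p ∈ T, ∃ i j : ℕ, p = x ^ i * y ^ j) : False := by
  haveI := Fact.mk Nat.prime_two
  refine brauer0 hA hT.toSylow (x := ⟨x, hT.le xP⟩) (y := ⟨y, hT.le yP⟩) xP yP (Subtype.ext c)
    (Subtype.ext x4) (Subtype.ext y4) (fun e => y2 (congrArg Subtype.val e))
    (fun ⟨k, hk⟩ => hx ⟨k, congrArg Subtype.val hk⟩) fun p hp => ?_
  obtain ⟨i, j, e⟩ := hP p hp
  exact ⟨i, j, Subtype.ext e⟩

end H17.Sa
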