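import Cfsg.Agent.H17.Sa1

set_option autoImplicit false
set_option linter.style.haveILetI false
set_option linter.unusedSectionVars false

open Subgroup H12

namespace H17.Sa

universe u
variable {G : Type u} [Group G] [Finite G]

theorem inv_zp {s g β : G} (h : s * g = g⁻¹ * s) (hβ : β ∈ zpowers g) : s * β = β⁻¹ * s := by
  obtain ⟨n, rfl⟩ := hβ
  have := (SemiconjBy.zpow_right (a := s) (x := g) (y := g⁻¹) h n).eq
  rwa [inv_zpow] at this

theorem com_zp {s g β : G} (h : s * g = g * s) (hβ : β ∈ zpowers g) : s * β = β * s := by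
  obtain ⟨n, rfl⟩ := hβ
  exact (Commute.zpow_right (a := s) (b := g) h n).eq

theorem zp_com {g β γ : G} (hβ : β ∈ zpowers g) (hγ : γ ∈ zpowers g) : β * γ = γ * β :=
  com_zp (com_zp rfl hβ).symm hγ

theorem sq_mem {g β : G} (hβ : β ∈ zpowers g) : β * β ∈ zpowers (g * g) := by
  obtain ⟨n, rfl⟩ := hβ
  exact ⟨n, ((Commute.refl g).mul_zpow n)⟩

theorem sq_root {g γ : G} (h : γ ∈ zpowers (g * g)) : ∃ δ ∈ zpowers g, γ = δ * δ := by
  obtain ⟨n, rfl⟩ := h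
  exact ⟨g ^ n, ⟨n, rfl⟩, ((Commute.refl g).mul_zpow n)⟩

theorem sq_le {g γ : G} (h : γ ∈ zpowers (g * g)) : γ ∈ zpowers g :=
  (zpowers_le.2 (mul_mem (mem_zpowers g) (mem_zpowers g))) h

theorem par {g β : G} (hβ : β ∈ zpowers g) (h : β ∉ zpowers (g * g)) :
    ∃ n : ℤ, β = (g * g) ^ n * g := by
  obtain ⟨n, rfl⟩ := hβ
  rcases Int.even_or_odd' n with ⟨j, rfl | rfl⟩
  · exact absurd ⟨j, by simp only [← pow_two, ← zpow_natCast, ← zpow_mul]; rfl⟩ h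
  · exact ⟨j, by simp only [← pow_two, ← zpow_natCast, ← zpow_mul, zpow_add_one]; rfl⟩

theorem par2 {g β γ : G} (hβ : β ∈ zpowers g) (h : β ∉ zpowers (g * g)) (hγ : γ ∈ zpowers g)
    (h' : γ ∉ zpowers (g * g)) : β * γ⁻¹ ∈ zpowers (g * g) := by
  obtain ⟨n, rfl⟩ := par hβ h
  obtain ⟨m, rfl⟩ := par hγ h'
  exact ⟨n - m, by simp only [zpow_sub]; group⟩

theorem gen {S : Subgroup G} (hS : IsPGroup 2 S) {g β : G} (gS : g ∈ S) (hβ : β ∈ zpowers g)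
    (h : β ∉ zpowers (g * g)) : g ∈ zpowers β := by
  haveI := Fact.mk Nat.prime_two
  obtain ⟨k, hk⟩ := IsPGroup.iff_orderOf.1 hS ⟨g, gS⟩
  rw [← orderOf_coe] at hk
  obtain ⟨n, rfl⟩ := par hβ h
  have : (g * g) ^ n * g = g ^ (2 * n + 1) := by
    simp only [← pow_two, ← zpow_natCast, ← zpow_mul, zpow_add_one]; rfl
  rw [this, mem_zpowers_zpow_iff, hk, ← Int.isCoprime_iff_gcd_eq_one]
  push_cast
  exact IsCoprime.pow_right ⟨1, -n, by ring⟩

theorem not_sq {S : Subgroup G} (hS : IsPGroup 2 S) {g : G} (gS : g ∈ S) (g1 : g ≠ 1) :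
    g ∉ zpowers (g * g) := by
  haveI := Fact.mk Nat.prime_two
  obtain ⟨k, hk⟩ := IsPGroup.iff_orderOf.1 hS ⟨g, gS⟩
  rw [← orderOf_coe] at hk
  rw [← pow_two, mem_zpowers_pow_iff, hk]
  rcases k with _ | k
  · exact absurd (orderOf_eq_one_iff.1 hk) g1
  · rw [Nat.gcd_eq_left (dvd_pow_self 2 k.succ_ne_zero)]; norm_num

/-- the basic setting -/
structure Cx (A S : Subgroup G) (t z r : G) : Prop where
  nA : A.Normal
  perf : commutator A = ⊤
  i2 : ∀ p q, p ∉ A → q ∉ A → p * q ∈ A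
  syl : SylIn 2 S ⊤
  tt : t * t = 1
  tA : t ∉ A
  tS : t ∈ S
  rS : r ∈ S
  rA : r ∈ A
  rr : r * r = z
  zz : z * z = 1
  z1 : z ≠ 1
  rt : r * t = t * r
  zc : ∀ s ∈ S, s * z = z * s
  hC : ∀ s ∈ S, s ∈ A → s * t = t * s → s ∈ zpowers r
  h1 : ∀ g u, g * t * g⁻¹ ∈ S → u ∈ S → u ∈ A → u * u = 1 →
    u * (g * t * g⁻¹) = g * t * g⁻¹ * u → u = 1 ∨ u = z

namespace Cx
variable {A S : Subgroup G} {t z r : G} (h : Cx A S t z r)
include h

theorem zS : z ∈ S := h.rr ▸ S.mul_mem h.rS h.rS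
theorem zA : z ∈ A := h.rr ▸ A.mul_mem h.rA h.rA
theorem ti : t⁻¹ = t := inv_eq_of_mul_eq_one_left h.tt
theorem zi : z⁻¹ = z := inv_eq_of_mul_eq_one_left h.zz
theorem pg : IsPGroup 2 S := h.syl.pgrp
theorem nA1 {p q : G} (hp : p ∉ A) (hq : q ∈ A) : p * q ∉ A := fun e =>
  hp (by simpa using A.mul_mem e (A.inv_mem hq))
theorem nA2 {p q : G} (hp : p ∈ A) (hq : q ∉ A) : p * q ∉ A := fun e =>
  hq (by simpa using A.mul_mem (A.inv_mem hp) e)
theorem cA (g : G) {p : G} (hp : p ∉ A) : g * p * g⁻¹ ∉ A := fun e =>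
  hp (by simpa [mul_assoc] using h.nA.conj_mem _ e g⁻¹)
theorem sylT : SylIn 2 (S ⊓ A) A := by
  haveI := Fact.mk Nat.prime_two
  haveI := h.nA
  exact h.syl.inf_of_le (by rw [normalizer_eq_top]) le_top

theorem h0 {u : G} (uS : u ∈ S) (uA : u ∈ A) (uu : u * u = 1) (c : u * t = t * u) :
    u = 1 ∨ u = z := h.h1 1 u (by simpa using h.tS) uS uA uu (by simpa using c)

theorem nf {c : G} (cS : c ∈ S) (ct : c * t = t * c) :
    c ∈ zpowers r ∨ ∃ ρ ∈ zpowers r, c = ρ * t := by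
  by_cases cA : c ∈ A
  · exact Or.inl (h.hC c cS cA ct)
  · refine Or.inr ⟨c * t, h.hC _ (S.mul_mem cS h.tS) (h.i2 _ _ cA h.tA) ?_, ?_⟩
    · rw [mul_assoc, ← mul_assoc t, ← ct, mul_assoc]
    · rw [mul_assoc, h.tt, mul_one]

theorem c2 {c d : G} (cS : c ∈ S) (ct : c * t = t * c) (dS : d ∈ S) (dt : d * t = t * d) :
    c * d = d * c := by
  have : ∀ e ∈ S, e * t = t * e → e * r = r * e := fun e eS et => by
    rcases h.nf eS et with he | ⟨ρ, he, rfl⟩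
    · exact (com_zp rfl he).symm
    · rw [mul_assoc, ← h.rt, ← mul_assoc, ← com_zp rfl he, mul_assoc]
  rcases h.nf dS dt with he | ⟨ρ, he, rfl⟩
  · exact com_zp (this c cS ct) he
  · rw [← mul_assoc, com_zp (this c cS ct) he, mul_assoc, ct, mul_assoc]

theorem c1 {c : G} (cS : c ∈ S) (ct : c * t = t * c) : c * c = 1 ∨ c * c = z := by
  have : ∀ ρ ∈ zpowers r, ρ * ρ = 1 ∨ ρ * ρ = z := fun ρ he => by
    have m := sq_mem he
    have hr : zpowers (r * r) ≤ S ⊓ A := zpowers_le.2 (h.rr ▸ ⟨h.zS, h.zA⟩)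
    refine h.h0 (hr m).1 (hr m).2 ?_ (com_zp (s := t) (h.rr ▸ h.zc t h.tS) m).symm
    rw [h.rr] at m
    have := sq_mem m
    rwa [h.zz, zpowers_one_eq_bot, mem_bot] at this
  rcases h.nf cS ct with he | ⟨ρ, he, rfl⟩
  · exact this c he
  · rw [mul_assoc, ← mul_assoc t, com_zp h.rt.symm he, mul_assoc, h.tt, mul_one]
    exact this ρ he

theorem cback {y g : G} (c : g * (y * t * y⁻¹) = y * t * y⁻¹ * g) :
    y⁻¹ * g * y * t = t * (y⁻¹ * g * y) :=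
  calc y⁻¹ * g * y * t = y⁻¹ * (g * (y * t * y⁻¹)) * y := by group
    _ = _ := by rw [c]; group

theorem c2' {y c d : G} (yS : y ∈ S) (cS : c ∈ S) (ct : c * (y * t * y⁻¹) = y * t * y⁻¹ * c)
    (dS : d ∈ S) (dt : d * (y * t * y⁻¹) = y * t * y⁻¹ * d) : c * d = d * c := by
  have := h.c2 (S.mul_mem (S.mul_mem (S.inv_mem yS) cS) yS) (h.cback ct)
    (S.mul_mem (S.mul_mem (S.inv_mem yS) dS) yS) (h.cback dt)
  calc c * d = y * (y⁻¹ * c * y * (y⁻¹ * d * y)) * y⁻¹ := by group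
    _ = _ := by rw [this]; group

theorem c1' {y c : G} (yS : y ∈ S) (cS : c ∈ S) (ct : c * (y * t * y⁻¹) = y * t * y⁻¹ * c) :
    c * c = 1 ∨ c * c = z := by
  have e : c * c = y * (y⁻¹ * c * y * (y⁻¹ * c * y)) * y⁻¹ := by group
  rcases h.c1 (S.mul_mem (S.mul_mem (S.inv_mem yS) cS) yS) (h.cback ct) with e1 | e1
  · left; rw [e, e1]; group
  · right; rw [e, e1, h.zc y yS]; group

theorem cc {y : G} : y * t * y⁻¹ * (y * t * y⁻¹) = 1 := by
  calc y * t * y⁻¹ * (y * t * y⁻¹) = y * (t * t) * y⁻¹ := by group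
    _ = 1 := by rw [h.tt]; group

/-- case of a subgroup of index at most two with a unique involution in `A` -/
theorem IIa {N : Subgroup G} (h2 : ∀ p ∈ S, ∀ q ∈ S, p ∉ N → q ∉ N → p * q ∈ N)
    (hn : ∀ s ∈ S, ∀ n ∈ N, s * n * s⁻¹ ∈ N)
    (hu : ∀ w ∈ S, w ∈ N → w ∈ A → w * w = 1 → w = 1 ∨ w = z) {u a : G} (uS : u ∈ S) (uA : u ∈ A)
    (uN : u ∉ N) (uu : u * u = 1) (aS : a ∈ S) (aa : a * a = z) (au : a * u = u * a) : False := by
  have sq : ∀ p ∈ S, p * p ∈ N := fun p hp => by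
    by_cases pN : p ∈ N
    · exact N.mul_mem pN pN
    · exact h2 p hp p hp pN pN
  obtain ⟨g, gA, m, hg⟩ := tr1 (K := N) h.perf h.sylT (comm2 (M := N)
    (fun p hp q hq pN qN => h2 q hq.1 _ (S.inv_mem hp.1) qN (by rwa [N.inv_mem_iff]))
    fun s hs m hm => N.mul_mem (hn s hs.1 m hm) (N.inv_mem hm)) (y := u) ⟨uS, uA⟩ uu uN
  have cj : ∀ g w : G, w * w = 1 → g * w * g⁻¹ * (g * w * g⁻¹) = 1 := fun g w ww =>
    calc g * w * g⁻¹ * (g * w * g⁻¹) = g * (w * w) * g⁻¹ := by group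
      _ = 1 := by rw [ww]; group
  have u1 : u ≠ 1 := fun e => uN (e ▸ N.one_mem)
  have mN : g * u * g⁻¹ ∈ N := by
    by_contra e; exact hg (h2 _ m.1 _ uS e uN)
  have e := (hu _ m.1 mN m.2 (cj g u uu)).resolve_left (by simpa using u1)
  obtain ⟨g', -, e', hP⟩ := ext (P := zpowers a) h.syl h.zc (mem_top g) e
    (h.pg.to_le (zpowers_le.2 aS)) le_top fun p hp => (com_zp au.symm hp).symm
  have m' := hP a (mem_zpowers a)
  have e2 : g' * a * g'⁻¹ * (g' * a * g'⁻¹) = g' * z * g'⁻¹ := by rw [← aa]; group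
  have e3 := (hu _ (e2 ▸ S.mul_mem m' m') (e2 ▸ sq _ m') (h.nA.conj_mem _ h.zA g')
    (cj g' z h.zz)).resolve_left (by simpa using h.z1)
  have : u = z := by simpa using e'.trans e3.symm
  exact uN (this ▸ aa ▸ sq a aS)

end Cx

end H17.Sa
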