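import Cfsg.Agent.H17.Sa2

set_option autoImplicit false
set_option linter.style.haveILetI false
set_option linter.unusedSectionVars false

open Subgroup H12

namespace H17.Sa

universe u
variable {G : Type u} [Group G] [Finite G]

structure Bd (A S : Subgroup G) (t z r a b c : G) : Prop extends Cx A S t z r where
  aS : a ∈ S
  aa : a * a = z
  ta : a * t = t * a
  ar : a = r ∨ a = r * t
  bS : b ∈ S
  bA : b ∈ A
  tb : t * b = b⁻¹ * t
  ab : a * b = b * a
  cB : c ∈ zpowers b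
  c2z : c * c = z

namespace Bd
variable {A S : Subgroup G} {t z r a b c : G} (h : Bd A S t z r a b c)
include h

theorem zB2 : z ∈ zpowers (b * b) := h.c2z ▸ sq_mem h.cB
theorem zB : z ∈ zpowers b := sq_le h.zB2
theorem BS {β : G} (hβ : β ∈ zpowers b) : β ∈ S := zpowers_le.2 h.bS hβ
theorem BA {β : G} (hβ : β ∈ zpowers b) : β ∈ A := zpowers_le.2 h.bA hβ
theorem tB {β : G} (hβ : β ∈ zpowers b) : t * β = β⁻¹ * t := inv_zp h.tb hβ
theorem aB {β : G} (hβ : β ∈ zpowers b) : a * β = β * a := com_zp h.ab hβ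
theorem invB {β : G} (hβ : β ∈ zpowers b) (e : β * β = 1) : β = 1 ∨ β = z :=
  h.toCx.h0 (h.BS hβ) (h.BA hβ) e (by rw [h.tB hβ, inv_eq_of_mul_eq_one_left e])
theorem ci : c⁻¹ = c * z := by
  rw [inv_eq_iff_mul_eq_one, ← mul_assoc, h.c2z, h.zz]
theorem rootB {β : G} (hβ : β ∈ zpowers b) (e : β * β = z) : β = c ∨ β = c * z := by
  have m := mul_mem (inv_mem h.cB) hβ
  have : c⁻¹ * β * (c⁻¹ * β) = 1 := by
    rw [mul_assoc, ← mul_assoc β, zp_com hβ (inv_mem h.cB), mul_assoc, e, ← h.c2z]; group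
  rcases h.invB m this with e1 | e1
  · left; exact (inv_mul_eq_one.1 e1).symm
  · right; exact (inv_mul_eq_iff_eq_mul.1 e1)
theorem aNB : a ∉ zpowers b := fun e => h.z1 (by
  have := h.tB e
  rw [← h.ta, mul_left_inj] at this
  rw [← h.aa]; nth_rewrite 1 [this]; exact inv_mul_cancel a)
theorem b1 : b * b ≠ 1 := fun e => by
  have := h.zB2
  rw [e, zpowers_one_eq_bot, mem_bot] at this
  exact h.z1 this
theorem bN : b ∉ zpowers (b * b) := not_sq h.toCx.pg h.bS fun e => h.b1 (by rw [e, one_mul])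
theorem genB {β : G} (hβ : β ∈ zpowers b) (e : β ∉ zpowers (b * b)) : b ∈ zpowers β :=
  gen h.toCx.pg h.bS hβ e

def M : Subgroup G := ext2 (zpowers b) a
  (fun β hβ => by rw [h.aB hβ, mul_inv_cancel_right]; exact hβ) (h.aa ▸ h.zB)

theorem memM {g : G} : g ∈ h.M ↔ g ∈ zpowers b ∨ ∃ β ∈ zpowers b, g = β * a := Iff.rfl
theorem BM {β : G} (hβ : β ∈ zpowers b) : β ∈ h.M := Or.inl hβ
theorem aM : a ∈ h.M := self_ext2
theorem MS : h.M ≤ S := ext2_le (zpowers_le.2 h.bS) h.aS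
theorem Mc' {s : G} (h1 : s * a = a * s) (h2 : s * b = b * s) {m : G} (hm : m ∈ h.M) :
    s * m = m * s := by
  rcases hm with hm | ⟨β, hβ, rfl⟩
  · exact com_zp h2 hm
  · rw [← mul_assoc, com_zp h2 hβ, mul_assoc, h1, mul_assoc]
theorem Mc {m n : G} (hm : m ∈ h.M) (hn : n ∈ h.M) : m * n = n * m :=
  h.Mc' (h.Mc' rfl h.ab hm).symm (h.Mc' h.ab.symm rfl hm).symm hn
theorem tM {m : G} (hm : m ∈ h.M) : t * m * t⁻¹ ∈ h.M := by
  rcases hm with hm | ⟨β, hβ, rfl⟩
  · rw [h.tB hm, mul_inv_cancel_right]; exact h.BM (inv_mem hm)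
  · rw [← mul_assoc, h.tB hβ, mul_assoc β⁻¹, ← h.ta, ← mul_assoc, mul_inv_cancel_right]
    exact Or.inr ⟨_, inv_mem hβ, rfl⟩
theorem sqa {β : G} (hβ : β ∈ zpowers b) : β * a * (β * a) = β * β * z := by
  rw [mul_assoc, ← mul_assoc a, h.aB hβ, ← h.aa]; group
theorem sqM {m : G} (hm : m ∈ h.M) : m * m ∈ zpowers (b * b) := by
  rcases hm with hm | ⟨β, hβ, rfl⟩
  · exact sq_mem hm
  · rw [h.sqa hβ]; exact mul_mem (sq_mem hβ) h.zB2
theorem invM {m : G} (hm : m ∈ h.M) (e : m * m = 1) :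
    m = 1 ∨ m = z ∨ m = c * a ∨ m = c * a * z := by
  rcases hm with hm | ⟨β, hβ, rfl⟩
  · rcases h.invB hm e with e | e <;> simp [e]
  · rw [h.sqa hβ, mul_eq_one_iff_eq_inv, h.toCx.zi] at e
    rcases h.rootB hβ e with rfl | rfl
    · simp
    · rw [mul_assoc, ← h.zc a h.aS, ← mul_assoc]; simp
theorem vM : c * a ∈ h.M := Or.inr ⟨c, h.cB, rfl⟩
theorem vv : c * a * (c * a) = 1 := by rw [h.sqa h.cB, h.c2z, h.zz]
theorem vB : c * a ∉ zpowers b := fun e => h.aNB (by simpa using mul_mem (inv_mem h.cB) e)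
theorem tv : t * (c * a) * t⁻¹ = c * a * z := by
  rw [← mul_assoc, h.tB h.cB, h.ci, mul_assoc _ t, ← h.ta, ← mul_assoc, mul_inv_cancel_right,
    mul_assoc, ← h.zc a h.aS, mul_assoc]

def N : Subgroup G := ext2 h.M t (fun _ hm => h.tM hm) (h.tt ▸ one_mem _)

theorem memN {g : G} : g ∈ h.N ↔ g ∈ h.M ∨ ∃ m ∈ h.M, g = m * t := Iff.rfl
theorem MN {m : G} (hm : m ∈ h.M) : m ∈ h.N := Or.inl hm
theorem tN : t ∈ h.N := self_ext2
theorem NS : h.N ≤ S := ext2_le h.MS h.tS
theorem CN {g : G} (gS : g ∈ S) (gt : g * t = t * g) : g ∈ h.N := by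
  have rN : r ∈ h.N := by
    rcases h.ar with e | e
    · exact (congrArg (· ∈ h.N) e).mp (h.MN h.aM)
    · have : r = a * t := by rw [e, mul_assoc, h.tt, mul_one]
      exact (congrArg (· ∈ h.N) this).mpr (mul_mem (h.MN h.aM) h.tN)
  rcases h.toCx.nf gS gt with e | ⟨ρ, e, rfl⟩
  · exact zpowers_le.2 rN e
  · exact mul_mem (zpowers_le.2 rN e) h.tN
theorem sqt {β : G} (hβ : β ∈ zpowers b) : β * t * (β * t) = 1 := by
  rw [mul_assoc, ← mul_assoc t, h.tB hβ, mul_assoc, h.tt]; group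
theorem sqat {β : G} (hβ : β ∈ zpowers b) : β * a * t * (β * a * t) = z := by
  calc β * a * t * (β * a * t) = β * a * (t * β) * (a * t) := by group
    _ = β * (a * β⁻¹) * (t * a) * t := by rw [h.tB hβ]; group
    _ = a * a * (t * t) := by rw [h.aB (inv_mem hβ), ← h.ta]; group
    _ = z := by rw [h.tt, h.aa, mul_one]
theorem invN {s : G} (hs : s ∈ h.N) (e : s * s = 1) :
    s ∈ h.M ∨ ∃ β ∈ zpowers b, s = β * t := by
  rcases hs with hs | ⟨m, hm | ⟨β, hβ, rfl⟩, rfl⟩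
  · exact Or.inl hs
  · exact Or.inr ⟨m, hm, rfl⟩
  · exact absurd ((h.sqat hβ).symm.trans e) h.z1
theorem na {n : G} (hn : n ∈ h.N) : n * a = a * n := by
  rcases hn with hn | ⟨m, hm, rfl⟩
  · exact h.Mc hn h.aM
  · rw [mul_assoc, ← h.ta, ← mul_assoc, h.Mc hm h.aM, mul_assoc]
theorem nB {n β : G} (hn : n ∈ h.N) (hβ : β ∈ zpowers b) :
    n * β * n⁻¹ = β ∨ n * β * n⁻¹ = β⁻¹ := by
  rcases hn with hn | ⟨m, hm, rfl⟩
  · left; rw [h.Mc hn (h.BM hβ), mul_inv_cancel_right]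
  · right; rw [mul_assoc m, h.tB hβ, ← mul_assoc, h.Mc hm (h.BM (inv_mem hβ))]; group
theorem cjB {β : G} (hβ : β ∈ zpowers b) : β * t * β⁻¹ = β * β * t := by
  rw [mul_assoc, h.tB (inv_mem hβ), inv_inv, mul_assoc]
theorem nt {n : G} (hn : n ∈ h.N) : ∃ γ ∈ zpowers (b * b), n * t * n⁻¹ = γ * t := by
  have : ∀ m ∈ h.M, ∃ γ ∈ zpowers (b * b), m * t * m⁻¹ = γ * t := by
    rintro m (hm | ⟨β, hβ, rfl⟩)
    · exact ⟨_, sq_mem hm, h.cjB hm⟩
    · exact ⟨_, sq_mem hβ, by rw [← h.cjB hβ, mul_assoc β, h.ta]; group⟩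
  rcases hn with hn | ⟨m, hm, rfl⟩
  · exact this n hn
  · obtain ⟨γ, hγ, e⟩ := this m hm
    exact ⟨γ, hγ, by rw [← e]; group⟩
theorem back {K : Subgroup G} (hK : h.N ≤ K) {y n : G} (yS : y ∈ S) (nS : n ∈ S) (nK : n ∈ K)
    (e : y * t * y⁻¹ = n * t * n⁻¹) : y ∈ K := by
  have : n⁻¹ * y ∈ K := hK (h.CN (mul_mem (inv_mem nS) yS) (by
    calc n⁻¹ * y * t = n⁻¹ * (y * t * y⁻¹) * y := by group
      _ = _ := by rw [e]; group))
  simpa using mul_mem nK this

structure St : Prop where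
  s1 : ∀ p ∈ S, ∀ q ∈ S, p ∉ h.N → q ∉ h.N → p * q ∈ h.N
  s2 : ∀ s ∈ S, s ∉ h.N → ∃ β ∈ zpowers b, β ∉ zpowers (b * b) ∧ s * t * s⁻¹ = β * t
  s3 : ∀ s ∈ S, ∀ β ∈ zpowers b, s * β * s⁻¹ ∈ zpowers b
  s4 : ∀ s ∈ S, s * a * s⁻¹ = a ∨ s * a * s⁻¹ = a * z

theorem st0 (e : S ≤ h.N) : h.St :=
  ⟨fun p hp _ _ pN => absurd (e hp) pN, fun p hp pN => absurd (e hp) pN, fun s hs β hβ => by
    rcases h.nB (e hs) hβ with e | e <;> simpa [e], fun s hs =>
      Or.inl (by rw [h.na (e hs), mul_inv_cancel_right])⟩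

theorem st1 (hmax : ∀ b' c', Bd A S t z r a b' c' → orderOf b' ≤ orderOf b) {x β₁ : G} (xS : x ∈ S)
    (_xN : x ∉ h.N) (xn : ∀ n ∈ h.N, x * n * x⁻¹ ∈ h.N) (xx : x * x ∈ h.N)
    (hβ : β₁ ∈ zpowers b) (hβ' : β₁ ∉ zpowers (b * b)) (xt : x * t * x⁻¹ = β₁ * t) : h.St := by
  have xb : ∀ β ∈ zpowers b, x * β * x⁻¹ ∈ zpowers b := by
    obtain ⟨γ, hγ, e⟩ := h.nt xx
    have e1 : x * β₁ * x⁻¹ = γ * β₁⁻¹ := by
      calc x * β₁ * x⁻¹ = x * (β₁ * t) * x⁻¹ * (x * t * x⁻¹)⁻¹ := by group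
        _ = x * x * t * (x * x)⁻¹ * (β₁ * t)⁻¹ := by rw [← xt]; group
        _ = _ := by rw [e]; group
    have e2 : (zpowers β₁).map (MulAut.conj x).toMonoidHom ≤ zpowers b := by
      rw [MonoidHom.map_zpowers, zpowers_le]
      change x * β₁ * x⁻¹ ∈ _
      rw [e1]; exact mul_mem (sq_le hγ) (inv_mem hβ)
    exact fun β m => e2 ⟨β, zpowers_le.2 (h.genB hβ hβ') m, rfl⟩
  have xi : ∀ n ∈ h.N, x⁻¹ * n * x ∈ h.N := fun n hn => by
    have := mul_mem (mul_mem (inv_mem xx) (xn n hn)) xx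
    convert this using 1; group
  have xa : x * a * x⁻¹ = a ∨ x * a * x⁻¹ = a * z := by
    have com : ∀ n ∈ h.N, x * a * x⁻¹ * n = n * (x * a * x⁻¹) := fun n hn =>
      calc x * a * x⁻¹ * n = x * (a * (x⁻¹ * n * x)) * x⁻¹ := by group
        _ = _ := by rw [← h.na (xi n hn)]; group
    have sq : x * a * x⁻¹ * (x * a * x⁻¹) = z :=
      calc x * a * x⁻¹ * (x * a * x⁻¹) = x * (a * a) * x⁻¹ := by group
        _ = z := by rw [h.aa, h.zc x xS, mul_inv_cancel_right]
    have c1 := com t h.tN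
    have c2 := com b (h.MN (h.BM (mem_zpowers b)))
    rcases xn a (h.MN h.aM) with (hm | ⟨β, hβ, e⟩) | ⟨m, hm, e⟩
    · rw [h.tB hm, mul_left_inj] at c1
      exact absurd (by rw [← sq]; nth_rewrite 1 [c1]; exact inv_mul_cancel _) h.z1
    · rw [e, mul_assoc, h.ta, ← mul_assoc, ← mul_assoc, mul_left_inj, h.tB hβ, mul_left_inj] at c1
      rcases h.invB hβ (by nth_rewrite 1 [c1]; exact inv_mul_cancel _) with e1 | e1
      · left; rw [e, e1, one_mul]
      · right; rw [e, e1, h.zc a h.aS]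
    · rw [e, mul_assoc, h.tb, ← mul_assoc, ← mul_assoc, mul_left_inj,
        ← h.Mc hm (h.BM (mem_zpowers b)), mul_right_inj] at c2
      exact absurd (by nth_rewrite 1 [← c2]; exact inv_mul_cancel _) h.b1
  let K := ext2 h.N x xn xx
  have KS : K ≤ S := ext2_le h.NS xS
  have NK : h.N ≤ K := fun _ => le_ext2
  have k2 : ∀ s ∈ K, s ∉ h.N → ∃ β ∈ zpowers b, β ∉ zpowers (b * b) ∧ s * t * s⁻¹ = β * t := by
    rintro s (hs | ⟨n, hn, rfl⟩) sN
    · exact absurd hs sN
    obtain ⟨γ, hγ, e⟩ := h.nt hn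
    refine ⟨n * β₁ * n⁻¹ * γ, ?_, fun e1 => hβ' ?_, ?_⟩
    · rcases h.nB hn hβ with e | e <;> rw [e]
      · exact mul_mem hβ (sq_le hγ)
      · exact mul_mem (inv_mem hβ) (sq_le hγ)
    · have := mul_mem e1 (inv_mem hγ)
      rcases h.nB hn hβ with e | e <;> simpa [e] using this
    · calc n * x * t * (n * x)⁻¹ = n * (x * t * x⁻¹) * n⁻¹ := by group
        _ = n * β₁ * n⁻¹ * (n * t * n⁻¹) := by rw [xt]; group
        _ = _ := by rw [e]; group
  have k4 : ∀ s ∈ K, s * a * s⁻¹ = a ∨ s * a * s⁻¹ = a * z := by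
    rintro s (hs | ⟨n, hn, rfl⟩)
    · left; rw [h.na hs, mul_inv_cancel_right]
    have e : n * x * a * (n * x)⁻¹ = n * (x * a * x⁻¹) * n⁻¹ := by group
    rcases xa with e1 | e1 <;> rw [e, e1]
    · left; rw [h.na hn, mul_inv_cancel_right]
    · right; rw [← mul_assoc, h.na hn, mul_assoc a, h.zc n (h.NS hn)]; group
  have SK : S ≤ K := by
    by_contra hc
    obtain ⟨y, yS, yK, yn, -⟩ := grow h.toCx.pg KS hc
    have sK := yn t (NK h.tN)
    have ss := h.toCx.cc (y := y)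
    have sA := h.toCx.cA y h.tA
    have sS := KS sK
    by_cases sN : y * t * y⁻¹ ∈ h.N
    · rcases h.invN sN ss with hm | ⟨β, hb, e⟩
      · have e : x * (y * t * y⁻¹) * x⁻¹ = y * t * y⁻¹ ∨
            x * (y * t * y⁻¹) * x⁻¹ = y * t * y⁻¹ * z := by
          have e1 : x * c * x⁻¹ = c ∨ x * c * x⁻¹ = c * z := h.rootB (xb c h.cB) (by
            calc x * c * x⁻¹ * (x * c * x⁻¹) = x * (c * c) * x⁻¹ := by group
              _ = z := by rw [h.c2z, h.zc x xS, mul_inv_cancel_right])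
          have e2 : x * (c * a) * x⁻¹ = c * a ∨ x * (c * a) * x⁻¹ = c * a * z := by
            have : x * (c * a) * x⁻¹ = x * c * x⁻¹ * (x * a * x⁻¹) := by group
            rw [this]
            rcases e1 with e1 | e1 <;> rcases xa with e2 | e2 <;> rw [e1, e2]
            · left; rfl
            · right; group
            · right; rw [mul_assoc, ← h.zc a h.aS, mul_assoc]
            · left; rw [mul_assoc, ← mul_assoc z, ← h.zc a h.aS, mul_assoc a, h.zz, mul_one]
          rcases h.invM hm ss with e | e | e | e <;> rw [e] at sA ⊢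
          · exact absurd A.one_mem sA
          · exact absurd h.toCx.zA sA
          · exact e2
          · have : x * (c * a * z) * x⁻¹ = x * (c * a) * x⁻¹ * z := by
              rw [mul_assoc _ x⁻¹, h.zc _ (inv_mem xS)]; group
            rw [this]
            rcases e2 with e2 | e2 <;> simp [e2]
        have et : t * (y * t * y⁻¹) * t⁻¹ = y * t * y⁻¹ * z := by
          rcases h.invM hm ss with e | e | e | e <;> rw [e] at sA ⊢
          · exact absurd A.one_mem sA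
          · exact absurd h.toCx.zA sA
          · exact h.tv
          · rw [← mul_assoc t, mul_assoc _ z, ← h.zc _ (inv_mem h.tS), ← mul_assoc, h.tv]
        obtain ⟨w, wS, wt, ws⟩ : ∃ w ∈ S, w * t * w⁻¹ = β₁ * t ∧
            w * (y * t * y⁻¹) = y * t * y⁻¹ * w := by
          rcases e with e | e
          · exact ⟨x, xS, xt, mul_inv_eq_iff_eq_mul.1 e⟩
          · refine ⟨x * t, mul_mem xS h.tS, by rw [← xt]; group, mul_inv_eq_iff_eq_mul.1 ?_⟩
            calc x * t * (y * t * y⁻¹) * (x * t)⁻¹ = x * (t * (y * t * y⁻¹) * t⁻¹) * x⁻¹ := by group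
              _ = x * (y * t * y⁻¹) * x⁻¹ * z := by
                rw [et, mul_assoc _ x⁻¹, h.zc _ (inv_mem xS)]; group
              _ = _ := by rw [e, mul_assoc, h.zz, mul_one]
        have c2 := h.toCx.c2' yS wS ws (h.BS hβ) (h.Mc (h.BM hβ) hm)
        have c1 : w * w * t = t * (w * w) := by
          rcases h.toCx.c1' yS wS ws with e | e <;> rw [e]
          · simp
          · exact (h.zc t h.tS).symm
        have : β₁ * β₁ = 1 := by
          have : β₁ * β₁ * t = t :=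
            calc β₁ * β₁ * t = β₁ * (w * t * w⁻¹) := by rw [wt]; group
              _ = w * (β₁ * t) * w⁻¹ := by rw [← mul_assoc, ← mul_assoc, ← c2]; group
              _ = w * w * t * (w * w)⁻¹ := by rw [← wt]; group
              _ = t := by rw [c1]; group
          simpa using this
        rcases h.invB hβ this with e | e
        · exact hβ' (e ▸ one_mem _)
        · exact hβ' (e ▸ h.zB2)
      · by_cases b2 : β ∈ zpowers (b * b)
        · obtain ⟨δ, hδ, rfl⟩ := sq_root b2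
          exact yK (h.back NK yS (h.BS hδ) (NK (h.MN (h.BM hδ))) (e.trans (h.cjB hδ).symm))
        · obtain ⟨δ, hδ, e1⟩ := sq_root (par2 hb b2 hβ hβ')
          refine yK (h.back NK yS (mul_mem (h.BS hδ) xS)
            (mul_mem (NK (h.MN (h.BM hδ))) self_ext2) ?_)
          calc y * t * y⁻¹ = β * β₁⁻¹ * β₁ * t := by rw [e]; group
            _ = δ * β₁ * (δ * t) := by
              rw [e1, mul_assoc δ δ β₁]; nth_rewrite 1 [zp_com hδ hβ]; group
            _ = δ * (β₁ * t) * δ⁻¹ := by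
              rw [mul_assoc δ, mul_assoc δ, mul_assoc β₁ t, h.tB (inv_mem hδ), inv_inv]
            _ = _ := by rw [← xt]; group
    · have H := h.h1 y
      obtain ⟨s, hs⟩ : ∃ s, s = y * t * y⁻¹ := ⟨_, rfl⟩
      rw [← hs] at sK ss sA sS sN H
      have si : s⁻¹ = s := inv_eq_of_mul_eq_one_left ss
      obtain ⟨β, hb, hb', e⟩ := k2 s sK sN
      have sq : s * t * (s * t) = β := by
        rw [si] at e
        rw [← mul_assoc, e, mul_assoc, h.tt, mul_one]
      have le : zpowers b ≤ zpowers (s * t) :=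
        zpowers_le.2 (zpowers_le.2 (sq ▸ mul_mem (mem_zpowers _) (mem_zpowers _)) (h.genB hb hb'))
      rcases k4 s sK with e4 | e4
      · have hb2 : Bd A S t z r a (s * t) c :=
          { h with
            bS := mul_mem sS h.tS
            bA := h.i2 _ _ sA h.tA
            tb := by rw [mul_inv_rev, si, h.toCx.ti, mul_assoc]
            ab := by rw [← mul_assoc, ← mul_inv_eq_iff_eq_mul.1 e4, mul_assoc, h.ta, mul_assoc]
            cB := le h.cB }
        have := eq_of_le_of_card_ge le (by rw [Nat.card_zpowers, Nat.card_zpowers]; exact hmax _ _ hb2)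
        have m : s * t ∈ h.N := h.MN (h.BM (this ▸ mem_zpowers _))
        exact sN (by simpa using mul_mem m (inv_mem h.tN))
      · have sc : s * c = c⁻¹ * s := inv_zp (g := s * t)
          (by rw [mul_inv_rev, si, h.toCx.ti, ← mul_assoc, ss, mul_assoc, ss]; group) (le h.cB)
        have sv : c * a * s = s * (c * a) := by
          rw [← mul_assoc, sc, mul_assoc c⁻¹, mul_inv_eq_iff_eq_mul.1 e4, h.ci, mul_assoc c z,
            ← mul_assoc z, ← mul_assoc z, ← h.zc a h.aS, mul_assoc a, h.zz, mul_one, mul_assoc]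
        by_cases vA : c * a ∈ A
        · rcases H _ sS (h.MS h.vM) vA h.vv sv with e | e
          · exact h.vB (e ▸ one_mem _)
          · exact h.vB (e ▸ h.zB)
        · have : c * a * s ∈ h.N := by
            rcases H (c * a * s) sS (mul_mem (h.MS h.vM) sS) (h.i2 _ _ vA sA) (by
              rw [mul_assoc (c * a) s, ← mul_assoc s, ← sv, mul_assoc (c * a) s s, ss, mul_one,
                h.vv])
              (by rw [← mul_assoc s, ← sv]) with e | e <;> rw [e]
            · exact one_mem _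
            · exact h.MN (h.BM h.zB)
          exact sN (by simpa [mul_assoc] using mul_mem (inv_mem (h.MN h.vM)) this)
  refine ⟨fun p hp q hq pN qN => ?_, fun s hs => k2 s (SK hs), fun s hs β hβ => ?_,
    fun s hs => k4 s (SK hs)⟩
  · rcases SK hp with e | ⟨n, hn, rfl⟩
    · exact absurd e pN
    rcases SK hq with e | ⟨m, hm, rfl⟩
    · exact absurd e qN
    have := mul_mem (mul_mem hn (xn m hm)) xx
    convert this using 1; group
  · rcases SK hs with e | ⟨n, hn, rfl⟩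
    · rcases h.nB e hβ with e | e <;> simpa [e]
    · have : n * x * β * (n * x)⁻¹ = n * (x * β * x⁻¹) * n⁻¹ := by group
      rw [this]
      rcases h.nB hn (xb β hβ) with e | e <;> rw [e]
      · exact xb β hβ
      · exact inv_mem (xb β hβ)

omit h in
theorem exSt (h0 : Bd A S t z r a b c) : ∃ b c, ∃ h : Bd A S t z r a b c, h.St := by
  obtain ⟨⟨⟨b, c⟩, h⟩, hmax⟩ := @Finite.exists_max {p : G × G // Bd A S t z r a p.1 p.2} ℕ _
    ⟨⟨(b, c), h0⟩⟩ _ (fun p => orderOf p.1.1)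
  have hm : ∀ b' c', Bd A S t z r a b' c' → orderOf b' ≤ orderOf b :=
    fun b' c' h' => hmax ⟨(b', c'), h'⟩
  dsimp only at h
  by_cases e : S ≤ h.N
  · exact ⟨b, c, h, h.st0 e⟩
  obtain ⟨x, xS, xN, xn, xx⟩ := grow h.toCx.pg h.NS e
  have ss := h.toCx.cc (y := x)
  have sA := h.toCx.cA x h.tA
  have sN := xn t h.tN
  rcases h.invN sN ss with hm' | ⟨β, hb, e1⟩
  · obtain ⟨β, hb, e1⟩ : ∃ β ∈ zpowers b, x * t * x⁻¹ = β * a :=
      hm'.resolve_left fun m => sA (h.BA m)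
    have bb : b * b = z := (h.toCx.c1' xS h.bS (h.Mc (h.BM (mem_zpowers b)) hm')).resolve_left h.b1
    have βN : β ∉ zpowers (b * b) := fun m => by
      have := sq_mem m
      rw [e1, h.sqa hb, mul_eq_one_iff_eq_inv, h.toCx.zi] at ss
      rw [bb, h.zz, zpowers_one_eq_bot, mem_bot, ss] at this
      exact h.z1 this
    have q := h.sqat hb
    have h' : Bd A S t z r a (β * a * t) (β * a * t) :=
      { h with
        bS := mul_mem (h.MS hm' |> (e1 ▸ ·)) h.tS
        bA := h.i2 _ _ (e1 ▸ sA) h.tA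
        tb := by
          rw [mul_inv_rev, h.toCx.ti, ← e1, inv_eq_of_mul_eq_one_left ss, mul_assoc t]
        ab := (h.na (Or.inr ⟨_, Or.inr ⟨β, hb, rfl⟩, rfl⟩)).symm
        cB := mem_zpowers _
        c2z := q }
    have eN : h'.N = h.N := by
      refine le_antisymm (ext2_le (ext2_le (zpowers_le.2 ?_) (h.MN h.aM)) h.tN)
        (ext2_le (ext2_le (zpowers_le.2 ?_) (h'.MN h'.aM)) h'.tN)
      · exact Or.inr ⟨_, Or.inr ⟨β, hb, rfl⟩, rfl⟩
      · refine zpowers_le.2 ?_ (h.genB hb βN)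
        have := mul_mem (mul_mem (h'.MN (h'.BM (mem_zpowers _))) (inv_mem h'.tN))
          (inv_mem (h'.MN h'.aM))
        simpa using this
    refine ⟨_, _, h', h'.st1 (fun b' c' h'' => (hm b' c' h'').trans ?_) xS (eN ▸ xN) (eN ▸ xn)
      (eN ▸ xx) (mem_zpowers _) h'.bN (by rw [e1, mul_assoc, h.tt, mul_one])⟩
    haveI := Fact.mk Nat.prime_two
    have o : ∀ g : G, g * g = z → orderOf g = 2 ^ 2 := fun g hg =>
      orderOf_eq_prime_pow (by rw [pow_one, pow_two, hg]; exact h.z1)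
        (by rw [show 2 ^ (1 + 1) = 2 * 2 from rfl, pow_mul, pow_two g, hg, pow_two, h.zz])
    rw [o b bb, o _ q]
  · refine ⟨b, c, h, h.st1 hm xS xN xn xx hb (fun b2 => ?_) e1⟩
    obtain ⟨δ, hδ, rfl⟩ := sq_root b2
    exact xN (h.back le_rfl xS (h.BS hδ) (h.MN (h.BM hδ)) (e1.trans (h.cjB hδ).symm))

end Bd

end H17.Sa
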