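import Cfsg.Agent.H17.Sa3

set_option autoImplicit false
set_option linter.style.haveILetI false
set_option linter.unusedSectionVars false

open Subgroup H12

namespace H17.Sa

universe u
variable {G : Type u} [Group G] [Finite G]

theorem cj2 (g : G) {w : G} (ww : w * w = 1) : g * w * g⁻¹ * (g * w * g⁻¹) = 1 :=
  calc g * w * g⁻¹ * (g * w * g⁻¹) = g * (w * w) * g⁻¹ := by group
    _ = 1 := by rw [ww]; group

namespace Bd
variable {A S : Subgroup G} {t z r a b c : G} {h : Bd A S t z r a b c} (st : h.St)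
include st

theorem St.f1 {s β : G} (sS : s ∈ S) (hβ : β ∈ zpowers b) :
    s * β * s⁻¹ * β⁻¹ ∈ zpowers (b * b) := by
  have m := st.s3 s sS b (mem_zpowers b)
  have n : s * b * s⁻¹ ∉ zpowers (b * b) := fun e => by
    obtain ⟨δ, hδ, e⟩ := sq_root e
    have := sq_mem (st.s3 s⁻¹ (inv_mem sS) δ hδ)
    refine h.bN ?_
    convert this using 1
    calc b = s⁻¹ * (s * b * s⁻¹) * s := by group
      _ = _ := by rw [e]; group
  obtain ⟨k, rfl⟩ := hβ
  have := zpow_mem (par2 m n (mem_zpowers b) h.bN) k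
  rwa [Commute.mul_zpow (zp_com m (inv_mem (mem_zpowers b))), conj_zpow, inv_zpow] at this

theorem St.f1M {s m : G} (sS : s ∈ S) (hm : m ∈ h.M) : s * m * s⁻¹ * m⁻¹ ∈ zpowers (b * b) := by
  rcases hm with hm | ⟨β, hβ, rfl⟩
  · exact st.f1 sS hm
  have e : s * (β * a) * s⁻¹ * (β * a)⁻¹ = s * β * s⁻¹ * (s * a * s⁻¹ * a⁻¹) * β⁻¹ := by group
  rcases st.s4 s sS with e1 | e1 <;> rw [e, e1]
  · simpa using st.f1 sS hβ
  · rw [h.zc a h.aS, mul_inv_cancel_right, mul_assoc _ z, ← h.zc _ (inv_mem (h.BS hβ)),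
      ← mul_assoc]
    exact mul_mem (st.f1 sS hβ) h.zB2

theorem St.tB {s : G} (sS : s ∈ S) : ∃ β ∈ zpowers b, s * t * s⁻¹ = β * t := by
  by_cases sN : s ∈ h.N
  · obtain ⟨γ, hγ, e⟩ := h.nt sN
    exact ⟨γ, sq_le hγ, e⟩
  · obtain ⟨γ, hγ, -, e⟩ := st.s2 s sS sN
    exact ⟨γ, hγ, e⟩

theorem St.fN {s n : G} (sS : s ∈ S) (hn : n ∈ h.N) : s * n * s⁻¹ * n⁻¹ ∈ zpowers b := by
  rcases hn with hm | ⟨m, hm, rfl⟩
  · exact sq_le (st.f1M sS hm)
  obtain ⟨β, hβ, e⟩ := st.tB sS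
  have : s * (m * t) * s⁻¹ * (m * t)⁻¹ = s * m * s⁻¹ * m⁻¹ * β :=
    calc s * (m * t) * s⁻¹ * (m * t)⁻¹ = s * m * s⁻¹ * (s * t * s⁻¹ * t⁻¹ * m⁻¹) := by group
      _ = _ := by rw [e, mul_inv_cancel_right, h.Mc (h.BM hβ) (inv_mem hm)]; group
  rw [this]
  exact mul_mem (sq_le (st.f1M sS hm)) hβ

theorem St.invU {u β : G} (uS : u ∈ S) (uN : u ∉ h.N) (uu : u * u = 1) (hβ : β ∈ zpowers b) :
    u * β = β⁻¹ * u := by
  obtain ⟨γ, hγ, hγ', e⟩ := st.s2 u uS uN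
  refine inv_zp (g := γ) ?_ (zpowers_le.2 (h.genB hγ hγ') hβ)
  have : u * γ * u⁻¹ * γ * t = t :=
    calc u * γ * u⁻¹ * γ * t = u * γ * u⁻¹ * (γ * t) := by group
      _ = u * (γ * t) * u⁻¹ := by nth_rewrite 1 [← e]; group
      _ = u * u * t * (u * u)⁻¹ := by rw [← e]; group
      _ = t := by rw [uu]; group
  rw [mul_eq_right, mul_eq_one_iff_eq_inv, mul_inv_eq_iff_eq_mul] at this
  exact this

theorem St.invM {u m : G} (uS : u ∈ S) (uN : u ∉ h.N) (uu : u * u = 1)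
    (ua : u * a * u⁻¹ = a * z) (hm : m ∈ h.M) : u * m = m⁻¹ * u := by
  rcases hm with hm | ⟨β, hβ, rfl⟩
  · exact st.invU uS uN uu hm
  have ai : a⁻¹ = a * z := by rw [inv_eq_iff_mul_eq_one, ← mul_assoc, h.aa, h.zz]
  rw [← mul_assoc, st.invU uS uN uu hβ, mul_assoc, mul_inv_eq_iff_eq_mul.1 ua, ← h.aB hβ,
    mul_inv_rev, ai]
  group

theorem St.tut {u : G} (uS : u ∈ S) (uN : u ∉ h.N) (uu : u * u = 1) :
    ∃ β ∈ zpowers b, β ∉ zpowers (b * b) ∧ t * u * t⁻¹ = β * u := by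
  obtain ⟨γ, hγ, hγ', e⟩ := st.s2 u uS uN
  refine ⟨γ⁻¹, inv_mem hγ, by rwa [inv_mem_iff], ?_⟩
  calc t * u * t⁻¹ = t * (u * t * u⁻¹) * u := by rw [h.toCx.ti]; group
    _ = t * γ * t * u := by rw [e]; group
    _ = _ := by rw [h.tB hγ, mul_assoc γ⁻¹ t t, h.tt, mul_one]

theorem St.IIb (aA : a ∉ A) {u : G} (uS : u ∈ S) (uA : u ∈ A) (uN : u ∉ h.N) (uu : u * u = 1)
    (ua : u * a * u⁻¹ = a * z) : False := by
  have iM : ∀ m ∈ h.M, u * m = m⁻¹ * u := fun m hm => st.invM uS uN uu ua hm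
  let K := ext2 h.M u (fun m hm => by rw [iM m hm, mul_inv_cancel_right]; exact inv_mem hm)
    (uu ▸ one_mem _)
  have MK : ∀ m ∈ h.M, m ∈ K := fun m hm => le_ext2 hm
  have vA : c * a ∉ A := h.toCx.nA2 (h.BA h.cB) aA
  have uv : u * (c * a) = c * a * u := by
    rw [iM _ h.vM, inv_eq_of_mul_eq_one_left h.vv]
  have zN : z ∈ h.N := h.MN (h.BM h.zB)
  have nu : ∀ g, g * t * g⁻¹ ∈ S → u * (g * t * g⁻¹) ≠ g * t * g⁻¹ * u := fun g m e => by
    rcases h.h1 g u m uS uA uu e with e | e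
    · exact uN (e ▸ one_mem _)
    · exact uN (e ▸ zN)
  have dec : ∀ s ∈ S, s ∉ h.N → ∃ n ∈ h.N, s = n * u := fun s sS sN =>
    ⟨_, st.s1 s sS u uS sN uN, by rw [mul_assoc, uu, mul_one]⟩
  obtain ⟨C, _, V, h1, h2⟩ := tr0 (S := S) (K := K) (by simpa using h.syl.not_dvd)
    (comm2 (M := h.N) (fun p hp q hq pN qN => st.s1 q hq _ (inv_mem hp) qN (by rwa [inv_mem_iff]))
      fun s hs n hn => MK _ (h.BM (st.fN hs hn)))
  have tM : t ∉ h.M := fun m => by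
    have := h.Mc m (h.BM (mem_zpowers b))
    rw [h.tb, mul_left_inj] at this
    exact h.b1 (by nth_rewrite 1 [← this]; exact inv_mul_cancel b)
  refine h1 t h.tS h.tt ?_ (fun g m => ?_) ?_
  · rintro (m | ⟨m, hm, e⟩)
    · exact tM m
    · exact uN (by simpa [e] using mul_mem (inv_mem (h.MN hm)) h.tN)
  · have H := h.h1 g
    have nu' := nu g m
    have sA := h.toCx.cA g h.tA
    have ss := h.toCx.cc (y := g)
    generalize g * t * g⁻¹ = s at *
    by_cases sN : s ∈ h.N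
    · rcases h.invN sN ss with hm | ⟨β, hβ, rfl⟩
      · exact absurd (by rw [iM s hm, inv_eq_of_mul_eq_one_left ss]) nu'
      · rw [mul_assoc, h.tt, mul_one]; exact MK _ (h.BM hβ)
    obtain ⟨n, hn | ⟨k, hk, rfl⟩, rfl⟩ := dec s m sN
    · have sv : c * a * (n * u) = n * u * (c * a) := by
        rw [mul_assoc n, uv, ← mul_assoc, h.Mc h.vM hn, mul_assoc]
      have : c * a * (n * u) ∈ h.N := by
        rcases H (c * a * (n * u)) m (mul_mem (h.MS h.vM) m) (h.i2 _ _ vA sA) (by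
          rw [mul_assoc (c * a) (n * u), ← mul_assoc (n * u), ← sv, mul_assoc (c * a) (n * u) (n * u),
            ss, mul_one, h.vv]) (by rw [← mul_assoc (n * u), ← sv]) with e | e <;> rw [e]
        · exact one_mem _
        · exact zN
      exact absurd (by simpa [mul_assoc] using mul_mem (inv_mem (h.MN h.vM)) this) sN
    · obtain ⟨β, hβ, -, e⟩ := st.tut uS uN uu
      rw [h.toCx.ti] at e
      exact Or.inr ⟨k * β, mul_mem hk (h.BM hβ), by rw [mul_assoc k β, ← e]; group⟩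
  · have e1 := perf_ker h.perf V (h.i2 _ _ h.tA vA)
    rw [map_mul, h2 _ h.vv fun g m => ?_, mul_one] at e1
    · exact e1
    have ss := cj2 g h.vv
    by_cases sN : g * (c * a) * g⁻¹ ∈ h.N
    · rcases h.invN sN ss with hm | ⟨β, hβ, e⟩
      · exact MK _ hm
      obtain ⟨y, hy⟩ : ∃ y, y * t * y⁻¹ = β * t := by
        by_cases b2 : β ∈ zpowers (b * b)
        · obtain ⟨δ, hδ, rfl⟩ := sq_root b2
          exact ⟨δ, h.cjB hδ⟩
        obtain ⟨γ, hγ, hγ', e⟩ := st.s2 u uS uN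
        obtain ⟨δ, hδ, e1⟩ := sq_root (par2 hβ b2 hγ hγ')
        refine ⟨δ * u, ?_⟩
        calc δ * u * t * (δ * u)⁻¹ = δ * (u * t * u⁻¹) * δ⁻¹ := by group
          _ = δ * γ * (t * δ⁻¹) := by rw [e]; group
          _ = δ * (γ * δ) * t := by rw [h.tB (inv_mem hδ)]; group
          _ = δ * δ * γ * t := by rw [zp_com hγ hδ]; group
          _ = _ := by rw [← e1]; group
      have e2 : g⁻¹ * y * t * (g⁻¹ * y)⁻¹ = c * a :=
        calc g⁻¹ * y * t * (g⁻¹ * y)⁻¹ = g⁻¹ * (y * t * y⁻¹) * g := by group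
          _ = _ := by rw [hy, ← e]; group
      exact absurd (by rw [e2, uv]) (nu (g⁻¹ * y) (e2 ▸ h.MS h.vM))
    obtain ⟨n, hn | ⟨k, hk, rfl⟩, e⟩ := dec _ m sN
    · exact Or.inr ⟨n, hn, e⟩
    · have e3 := st.invU m sN ss (mem_zpowers b)
      rw [e, mul_assoc _ u, st.invU uS uN uu (mem_zpowers b), ← mul_assoc, ← mul_assoc,
        mul_left_inj, mul_assoc k, h.tB (inv_mem (mem_zpowers b)), inv_inv, ← mul_assoc,
        ← mul_assoc, mul_left_inj, h.Mc hk (h.BM (mem_zpowers b)), mul_left_inj] at e3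
      exact absurd (by nth_rewrite 1 [e3]; exact inv_mul_cancel b) h.b1

theorem St.II (aA : a ∉ A) {u : G} (uS : u ∈ S) (uA : u ∈ A) (uu : u * u = 1) :
    u = 1 ∨ u = z := by
  have hu : ∀ w ∈ S, w ∈ h.N → w ∈ A → w * w = 1 → w = 1 ∨ w = z := fun w _ wN wA ww => by
    have vA : c * a ∉ A := h.toCx.nA2 (h.BA h.cB) aA
    rcases h.invN wN ww with hm | ⟨β, hβ, rfl⟩
    · rcases h.invM hm ww with e | e | rfl | rfl
      · exact Or.inl e
      · exact Or.inr e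
      · exact absurd wA vA
      · exact absurd wA (h.toCx.nA1 vA h.toCx.zA)
    · exact absurd wA (h.toCx.nA2 (h.BA hβ) h.tA)
  by_cases uN : u ∈ h.N
  · exact hu u uS uN uA uu
  exfalso
  rcases st.s4 u uS with e | e
  · exact h.toCx.IIa st.s1 (fun s hs n hn => by
      simpa using mul_mem (h.MN (h.BM (st.fN hs hn))) hn) hu uS uA uN uu h.aS h.aa
      (mul_inv_eq_iff_eq_mul.1 e).symm
  · exact st.IIb aA uS uA uN uu e

end Bd

end H17.Sa
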