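import Cfsg.Agent.H17.Sa4

set_option autoImplicit false
set_option linter.style.haveILetI false
set_option linter.unusedSectionVars false

open Subgroup H12

namespace H17.Sa

universe u
variable {G : Type u} [Group G] [Finite G]

namespace Bd
variable {A S : Subgroup G} {t z r a b c : G} {h : Bd A S t z r a b c} (st : h.St) (aA : a ∈ A)
include st aA

theorem St.MT {m : G} (hm : m ∈ h.M) : m ∈ S ⊓ A :=
  ⟨h.MS hm, (ext2_le (K := A) (zpowers_le.2 h.bA) aA) hm⟩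

theorem St.NM {n : G} (hn : n ∈ h.N) (nA : n ∈ A) : n ∈ h.M := by
  rcases hn with hn | ⟨m, hm, rfl⟩
  · exact hn
  · exact absurd nA (h.toCx.nA2 (st.MT aA hm).2 h.tA)

theorem St.two {p q : G} (hp : p ∈ S ⊓ A) (hq : q ∈ S ⊓ A) (pM : p ∉ h.M) (qM : q ∉ h.M) :
    p * q ∈ h.M :=
  st.NM aA (st.s1 p hp.1 q hq.1 (fun e => pM (st.NM aA e hp.2)) fun e => qM (st.NM aA e hq.2))
    (mul_mem hp.2 hq.2)

theorem St.sqT {p : G} (hp : p ∈ S ⊓ A) : p * p ∈ h.M := by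
  by_cases pM : p ∈ h.M
  · exact mul_mem pM pM
  · exact st.two aA hp hp pM pM

theorem St.cT : ∀ p ∈ S ⊓ A, ∀ q ∈ S ⊓ A, p * q * p⁻¹ * q⁻¹ ∈ zpowers (b * b) :=
  comm2 (M := h.M) (fun _ hp _ hq pM qM => st.two aA hq (inv_mem hp) qM (by rwa [inv_mem_iff]))
    fun _ hs _ hm => st.f1M hs.1 hm

theorem St.I1 (g : G) (e : g * (c * a) * g⁻¹ = z) : False := by
  obtain ⟨g, -, e, hP⟩ := ext (P := h.M) h.syl h.zc (mem_top g) e (h.toCx.pg.to_le h.MS) le_top
    fun p hp => h.Mc hp h.vM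
  have hT : ∀ m ∈ h.M, g * m * g⁻¹ ∈ S ⊓ A := fun m hm =>
    ⟨hP m hm, h.nA.conj_mem _ (st.MT aA hm).2 g⟩
  have sq : ∀ m, g * m * g⁻¹ * (g * m * g⁻¹) = g * (m * m) * g⁻¹ := fun m => by group
  have xT := hT a h.aM
  have xx := sq a
  rw [h.aa] at xx
  have hz : g * z * g⁻¹ = c * a ∨ g * z * g⁻¹ = c * a * z := by
    rcases h.invM (xx ▸ st.sqT aA xT) (cj2 g h.zz) with e1 | e1 | e1
    · exact absurd (by simpa using e1) h.z1
    · have : c * a = z := by simpa using e.trans e1.symm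
      exact absurd (this ▸ h.zB) h.vB
    · exact e1
  have zB : g * z * g⁻¹ ∉ zpowers b := fun m => by
    rcases hz with e1 | e1 <;> rw [e1] at m
    · exact h.vB m
    · exact h.vB (by simpa using mul_mem m (inv_mem h.zB))
  have xM : g * a * g⁻¹ ∉ h.M := fun m => zB (xx ▸ sq_le (h.sqM m))
  have cB : c ∉ zpowers (b * b) := fun m => by
    obtain ⟨δ, hδ, e1⟩ := sq_root m
    have := h.sqM (st.sqT aA (hT δ (h.BM hδ)))
    rw [sq, ← e1, sq, h.c2z] at this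
    exact zB (sq_le this)
  have Bc : zpowers b ≤ zpowers c := zpowers_le.2 (h.genB h.cB cB)
  have zt : g * z * g⁻¹ * t * (g * z * g⁻¹)⁻¹ = z * t := by
    have e1 : c * a * t * (c * a)⁻¹ = z * t := by
      calc c * a * t * (c * a)⁻¹ = c * a * (t * (c * a) * t⁻¹) * t := by
            rw [inv_eq_of_mul_eq_one_left h.vv]; group
        _ = _ := by rw [h.tv, ← mul_assoc, h.vv, one_mul]
    rcases hz with e2 | e2 <;> rw [e2]
    · exact e1
    · rw [← e1, mul_assoc _ z, ← h.zc t h.tS]; group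
  generalize g * a * g⁻¹ = x at *
  generalize g * z * g⁻¹ = z' at *
  obtain ⟨β, hβ, hβ', e1⟩ := st.s2 x xT.1 fun m => xM (st.NM aA m xT.2)
  have e2 : x * β * x⁻¹ * β = z := by
    have : x * β * x⁻¹ * β * t = z * t :=
      calc x * β * x⁻¹ * β * t = x * β * x⁻¹ * (β * t) := by group
        _ = x * (β * t) * x⁻¹ := by nth_rewrite 1 [← e1]; group
        _ = x * x * t * (x * x)⁻¹ := by rw [← e1]; group
        _ = _ := by rw [xx, zt]
    simpa using this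
  have e3 : β * β = z := by
    have m := sq_mem (Bc hβ)
    rw [h.c2z] at m
    have m2 := sq_mem m
    rw [h.zz, zpowers_one_eq_bot, mem_bot] at m2
    refine (h.invB (mul_mem hβ hβ) m2).resolve_left fun e => ?_
    rcases h.invB hβ e with e | e
    · exact hβ' (e ▸ one_mem _)
    · exact hβ' (e ▸ h.zB2)
  have xβ : x * β = β * x := by
    rw [← e3, mul_left_inj] at e2
    exact mul_inv_eq_iff_eq_mul.1 e2
  have xc : x * c = c * x := com_zp xβ (zpowers_le.2 (h.genB hβ hβ') h.cB)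
  obtain ⟨γ, hγ, ea⟩ : ∃ γ ∈ zpowers b, a = γ * (x * x) := by
    rcases hz with e | e <;> rw [xx, e]
    · exact ⟨c⁻¹, inv_mem h.cB, by group⟩
    · exact ⟨z * c⁻¹, mul_mem h.zB (inv_mem h.cB), by
        rw [mul_assoc, ← mul_assoc c⁻¹, inv_mul_cancel_left, h.zc a h.aS, ← mul_assoc, h.zz,
          one_mul]⟩
  have nf : ∀ m ∈ h.M, ∃ i j : ℕ, m = x ^ i * c ^ j := by
    rintro m (hm | ⟨δ, hδ, rfl⟩)
    · obtain ⟨j, rfl⟩ := mem_powers_iff_mem_zpowers.2 (Bc hm)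
      exact ⟨0, j, by simp⟩
    · obtain ⟨j, e⟩ := mem_powers_iff_mem_zpowers.2 (Bc (mul_mem hδ hγ))
      refine ⟨2, j, ?_⟩
      rw [ea, ← mul_assoc, ← e, ← pow_two]
      exact ((Commute.pow_pow xc 2 j).symm).eq
  refine brauer h.perf h.toCx.sylT xT (st.MT aA (h.BM h.cB)) xc ?_ ?_ ?_ ?_ fun p hp => ?_
  · rw [show 4 = 2 * 2 from rfl, pow_mul, pow_two x, xx, pow_two]
    rcases hz with e | e <;> rw [e]
    · exact h.vv
    · rw [mul_assoc (c * a) z, ← mul_assoc z, ← h.zc _ (h.MS h.vM), mul_assoc (c * a) z z, h.zz,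
        mul_one, h.vv]
  · rw [show 4 = 2 * 2 from rfl, pow_mul, pow_two c, h.c2z, pow_two, h.zz]
  · rw [pow_two, h.c2z]; exact h.z1
  · rw [pow_two, xx]; exact fun m => zB (zpowers_le.2 h.cB m)
  · by_cases pM : p ∈ h.M
    · exact nf p pM
    obtain ⟨i, j, e⟩ := nf _ (st.two aA hp (inv_mem xT) pM (by rwa [inv_mem_iff]))
    refine ⟨i + 1, j, ?_⟩
    rw [mul_inv_eq_iff_eq_mul] at e
    rw [e, pow_succ, mul_assoc, mul_assoc, (Commute.pow_right xc j).eq]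

theorem St.cv {g : G} (m : g * (c * a) * g⁻¹ ∈ h.M) :
    g * (c * a) * g⁻¹ = c * a ∨ g * (c * a) * g⁻¹ = c * a * z := by
  rcases h.invM m (cj2 g h.vv) with e | e | e
  · exact absurd ((show c * a = 1 by simpa using e) ▸ one_mem _) h.vB
  · exact (st.I1 aA g e).elim
  · exact e

theorem St.cv2 {g : G} (m : g * (c * a) * g⁻¹ ∈ h.M) :
    g * (c * a) * g⁻¹ * (c * a) ∈ zpowers (b * b) := by
  rcases st.cv aA m with e | e <;> rw [e]
  · rw [h.vv]; exact one_mem _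
  · rw [mul_assoc, ← h.zc _ (h.MS h.vM), ← mul_assoc, h.vv, one_mul]; exact h.zB2

theorem St.I2a {u : G} (uT : u ∈ S ⊓ A) (uM : u ∉ h.M) (uu : u * u = 1) (ua : u * a = a * u) :
    False := by
  have uN : u ∉ h.N := fun m => uM (st.NM aA m uT.2)
  have iB : ∀ β ∈ zpowers b, u * β = β⁻¹ * u := fun β hβ => st.invU uT.1 uN uu hβ
  have q : a * u * (a * u) = z := by
    rw [mul_assoc, ← mul_assoc u, ua, mul_assoc, uu, mul_one, h.aa]
  let K := ext2 (zpowers b) (a * u) (fun β hβ => by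
    rw [mul_assoc a, iB β hβ, ← mul_assoc, h.aB (inv_mem hβ), mul_assoc β⁻¹, mul_inv_cancel_right]
    exact inv_mem hβ) (q ▸ h.zB)
  obtain ⟨g, -, m, hg⟩ := tr1 (K := K) h.perf h.toCx.sylT
    (fun p hp q hq => le_ext2 (sq_le (st.cT aA p hp q hq))) (st.MT aA h.vM) h.vv (by
      rintro (m | ⟨β, hβ, e⟩)
      · exact h.vB m
      · refine uM ?_
        have := mul_mem (inv_mem (mul_mem (h.BM hβ) h.aM)) h.vM
        rw [e] at this
        simpa [mul_assoc] using this)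
  by_cases wM : g * (c * a) * g⁻¹ ∈ h.M
  · exact hg (le_ext2 (sq_le (st.cv2 aA wM)))
  have ww := cj2 g h.vv
  have e : g * (c * a) * g⁻¹ = g * (c * a) * g⁻¹ * u * u := by rw [mul_assoc _ u, uu, mul_one]
  rcases st.two aA m uT wM uM with hβ | ⟨β, hβ, e1⟩
  · refine hg (Or.inr ⟨_, mul_mem hβ (inv_mem h.cB), ?_⟩)
    generalize g * (c * a) * g⁻¹ = w at *
    rw [← ua, mul_assoc (w * u), ← mul_assoc c⁻¹, ← iB c h.cB]
    nth_rewrite 1 [e]; group
  · rw [e, e1] at ww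
    refine h.z1 ?_
    calc z = β * (a * β⁻¹) * (u * (a * u)) := by
          rw [h.aB (inv_mem hβ), mul_inv_cancel_left, ← mul_assoc, q]
      _ = β * a * (β⁻¹ * u) * (a * u) := by group
      _ = 1 := by rw [← iB β hβ, ← ww]; group

theorem St.I2b {u g₀ : G} (uT : u ∈ S ⊓ A) (uM : u ∉ h.M) (uu : u * u = 1)
    (ua : u * a * u⁻¹ = a * z) (g₀A : g₀ ∈ A) (e₀ : g₀ * (c * a) * g₀⁻¹ = u) : False := by
  haveI := Fact.mk Nat.prime_two
  have uN : u ∉ h.N := fun m => uM (st.NM aA m uT.2)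
  have iM : ∀ m ∈ h.M, u * m = m⁻¹ * u := fun m hm => st.invM uT.1 uN uu ua hm
  have vv := h.vv
  have vM := h.vM
  have vB := h.vB
  have tv := h.tv
  have I1 := st.I1 aA
  have cT := st.cT aA
  have av : a = c⁻¹ * (c * a) := by group
  generalize hv : c * a = v at vv vM vB tv I1 e₀ av
  have vT := st.MT aA vM
  have uv : u * v = v * u := by rw [iM v vM, inv_eq_of_mul_eq_one_left vv]
  have dec : ∀ p ∈ S ⊓ A, p ∉ h.M → ∃ m ∈ h.M, p = m * u := fun p hp pM =>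
    ⟨_, st.two aA hp uT pM uM, by rw [mul_assoc, uu, mul_one]⟩
  have vc : ∀ p ∈ S ⊓ A, p * v = v * p := fun p hp => by
    by_cases pM : p ∈ h.M
    · exact h.Mc pM vM
    obtain ⟨m, hm, rfl⟩ := dec p hp pM
    rw [mul_assoc, uv, ← mul_assoc, h.Mc hm vM, mul_assoc]
  have zv : z * v = v * z := (h.zc v vT.1).symm
  have nX : ∀ g ∈ A, g * v * g⁻¹ ≠ v * z := fun g gA e => by
    obtain ⟨g, gA, e, hP⟩ := ext (P := S ⊓ A) h.toCx.sylT (fun s hs => by
      rw [← mul_assoc, vc s hs, mul_assoc, h.zc s hs.1, mul_assoc]) gA e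
      (h.toCx.pg.to_le inf_le_left) inf_le_right vc
    have m := hP c (st.MT aA (h.BM h.cB))
    have e1 : g * c * g⁻¹ * (g * c * g⁻¹) = g * z * g⁻¹ := by rw [← h.c2z]; group
    have e2 : g * z * g⁻¹ = z := by
      refine (h.invB ?_ (cj2 g h.zz)).resolve_left (by simpa using h.z1)
      rw [← e1]
      by_cases pM : g * c * g⁻¹ ∈ h.M
      · exact sq_le (h.sqM pM)
      obtain ⟨k, hk, e3⟩ := dec _ m pM
      rw [e3, mul_assoc, ← mul_assoc u, iM k hk, mul_assoc, uu, mul_one, mul_inv_cancel]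
      exact one_mem _
    have c2 : Commute (g * g) v := by
      rw [Commute, SemiconjBy, ← mul_inv_eq_iff_eq_mul]
      calc g * g * v * (g * g)⁻¹ = g * (g * v * g⁻¹) * g⁻¹ := by group
        _ = g * (v * z) * g⁻¹ := by rw [e]
        _ = g * v * g⁻¹ * (g * z * g⁻¹) := by group
        _ = v := by rw [e, e2, mul_assoc, h.zz, mul_one]
    have gN : g ∈ normalizer ((S ⊓ A : Subgroup G) : Set G) := mem_normalizer_fintype hP
    have hle : S ⊓ A ≤ A ⊓ normalizer ((S ⊓ A : Subgroup G) : Set G) :=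
      le_inf inf_le_right le_normalizer
    have od := (h.toCx.sylT.of_le hle inf_le_left).not_dvd
    haveI := (normal_subgroupOf_iff_le_normalizer hle).2 inf_le_right
    have pw : g ^ (S ⊓ A).relIndex (A ⊓ normalizer ((S ⊓ A : Subgroup G) : Set G)) ∈ S ⊓ A :=
      pow_index_mem (H := (S ⊓ A).subgroupOf (A ⊓ normalizer ((S ⊓ A : Subgroup G) : Set G)))
        ⟨g, gA, gN⟩
    obtain ⟨j, hj⟩ := Nat.odd_iff.2 (Nat.two_dvd_ne_zero.1 od)
    rw [hj, pow_succ, pow_mul, pow_two] at pw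
    have c3 : Commute ((g * g) ^ j * g) v := vc _ pw
    have c4 : Commute g v := by simpa using (c2.pow_left j).inv_left.mul_left c3
    rw [c4.eq, mul_inv_cancel_right] at e
    exact h.z1 (by simpa using e)
  have Xc : ∀ w, (∃ g ∈ A, g * v * g⁻¹ = w) → ∀ p ∈ A, ∃ g ∈ A, g * v * g⁻¹ = p * w * p⁻¹ := by
    rintro _ ⟨g, gA, rfl⟩ p pA
    exact ⟨p * g, mul_mem pA gA, by group⟩
  have cB : ∀ δ ∈ zpowers b, ∀ m ∈ h.M, δ * (m * u) * δ⁻¹ = δ * δ * (m * u) := fun δ hδ m hm => by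
    rw [mul_assoc, mul_assoc m, iM _ (h.BM (inv_mem hδ)), inv_inv, ← mul_assoc m,
      h.Mc hm (h.BM hδ)]; group
  have Xu : ∃ g ∈ A, g * v * g⁻¹ = u := ⟨g₀, g₀A, e₀⟩
  have noE : ¬ ∃ g ∈ A, g * v * g⁻¹ = v * u := fun Xv => by
    obtain ⟨g, gA, e, hP⟩ := ext (P := (S ⊓ A) ⊓ centralizer ({u} : Set G)) (w := u) (g := g₀⁻¹)
      h.toCx.sylT vc (inv_mem g₀A) (by rw [← e₀]; group)
      (h.toCx.pg.to_le (inf_le_left.trans inf_le_left)) (inf_le_left.trans inf_le_right)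
      fun p hp => mem_centralizer_singleton_iff.1 hp.2
    have key : ∀ e ∈ h.M, e * e = 1 → e ≠ 1 → (∃ g ∈ A, g * v * g⁻¹ = e * u) →
        g * e * g⁻¹ ∈ S ⊓ A ∧ g * e * g⁻¹ ∉ h.M := fun k hk kk k1 X => by
      refine ⟨hP k ⟨st.MT aA hk, mem_centralizer_singleton_iff.2 (by
        rw [iM k hk, inv_eq_of_mul_eq_one_left kk])⟩, fun m => ?_⟩
      obtain ⟨g', g'A, e'⟩ := Xc _ X g gA
      have e2 : g * (k * u) * g⁻¹ = g * k * g⁻¹ * v := by rw [← e]; group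
      rcases h.invM m (cj2 g kk) with e1 | e1 | e1 | e1
      · exact k1 (by simpa using e1)
      · exact nX g' g'A (by rw [e', e2, e1, zv])
      · rw [hv, ← e] at e1
        exact uM ((show k = u by simpa using e1) ▸ hk)
      · exact I1 g' (by rw [e', e2, e1, hv, mul_assoc, zv, ← mul_assoc, vv, one_mul])
    have zM := h.BM h.zB
    have cA := h.BA h.cB
    have k1 := key z zM h.zz h.z1 (by
      have := Xc _ Xu c cA
      rwa [← one_mul u, cB c h.cB 1 (one_mem _), h.c2z, one_mul] at this)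
    have k2 := key v vM vv (fun e => vB (e ▸ one_mem _)) Xv
    have k3 := key (z * v) (mul_mem zM vM)
      (by rw [mul_assoc, ← mul_assoc v, ← zv, mul_assoc, vv, mul_one, h.zz])
      (fun e => vB (by
        rw [eq_inv_of_mul_eq_one_right e]; exact inv_mem h.zB)) (by
      have := Xc _ Xv c cA
      rwa [cB c h.cB v vM, h.c2z, ← mul_assoc] at this)
    refine k3.2 ?_
    have := st.two aA k1.1 k2.1 k1.2 k2.2
    convert this using 1; group
  have bM := h.BM (mem_zpowers b)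
  have q1 : b * v * (b * v) = b * b := by
    rw [mul_assoc, ← mul_assoc v, ← h.Mc bM vM, mul_assoc, vv, mul_one]
  let K1 := ext2 (zpowers (b * b)) (b * v) (fun β hβ => by
    rw [h.Mc (mul_mem bM vM) (h.BM (sq_le hβ)), mul_inv_cancel_right]; exact hβ)
    (q1 ▸ mem_zpowers _)
  have K1M : K1 ≤ h.M := ext2_le (fun β hβ => h.BM (sq_le hβ)) (mul_mem bM vM)
  let K := ext2 K1 (v * u) (fun k hk => by
    rw [mul_assoc v, iM k (K1M hk), ← mul_assoc, h.Mc vM (inv_mem (K1M hk)), mul_assoc k⁻¹,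
      mul_inv_cancel_right]
    exact inv_mem hk) (by
      rw [mul_assoc, ← mul_assoc u, uv, mul_assoc, uu, mul_one, vv]; exact one_mem _)
  obtain ⟨g, gA, m, hg⟩ := tr1 (K := K) h.perf h.toCx.sylT
    (fun p hp q hq => le_ext2 (le_ext2 (cT p hp q hq))) vT vv (by
      rintro ((m | ⟨β, hβ, e⟩) | ⟨k, hk, e⟩)
      · exact vB (sq_le m)
      · rw [← mul_assoc, right_eq_mul, mul_eq_one_iff_eq_inv] at e
        exact h.bN (by simpa [e] using inv_mem hβ)
      · refine uM ?_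
        have := mul_mem (inv_mem (mul_mem (K1M hk) vM)) vM
        nth_rewrite 2 [e] at this
        simpa [mul_assoc] using this)
  by_cases wM : g * v * g⁻¹ ∈ h.M
  · subst hv
    exact hg (le_ext2 (le_ext2 (st.cv2 aA wM)))
  obtain ⟨k, hk | ⟨β, hβ, rfl⟩, e⟩ := dec _ m wM
  · by_cases b2 : k ∈ zpowers (b * b)
    · exact hg (Or.inr ⟨k, le_ext2 b2, by rw [e, mul_assoc, uv]⟩)
    obtain ⟨γ, hγ, hγ', e1⟩ := st.tut uT.1 uN uu
    obtain ⟨δ, hδ, e2⟩ := sq_root (par2 hγ hγ' hk b2)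
    obtain ⟨g', g'A, e3⟩ := Xc _ ⟨g, gA, e⟩ δ (h.BA hδ)
    rw [cB δ hδ k (h.BM hk), ← e2, mul_assoc γ, inv_mul_cancel_left, ← e1, ← e₀] at e3
    refine nX ((t * g₀ * t⁻¹)⁻¹ * g') (mul_mem (inv_mem (h.nA.conj_mem _ g₀A t)) g'A) ?_
    calc (t * g₀ * t⁻¹)⁻¹ * g' * v * ((t * g₀ * t⁻¹)⁻¹ * g')⁻¹
        = (t * g₀ * t⁻¹)⁻¹ * (g' * v * g'⁻¹) * (t * g₀ * t⁻¹) := by group
      _ = _ := by rw [e3, ← tv]; group
  · have hb := mul_mem hβ (inv_mem h.cB)
    have e1 : g * v * g⁻¹ = β * c⁻¹ * (v * u) := by rw [e, ← hv]; group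
    by_cases b2 : β * c⁻¹ ∈ zpowers (b * b)
    · obtain ⟨δ, hδ, e2⟩ := sq_root b2
      have := Xc _ ⟨g, gA, e1⟩ δ⁻¹ (h.BA (inv_mem hδ))
      rw [e2, ← cB δ hδ v vM] at this
      exact noE (by simpa [mul_assoc] using this)
    · refine hg (Or.inr ⟨β * c⁻¹ * b⁻¹ * (b * v),
        Or.inr ⟨_, par2 hb b2 (mem_zpowers b) h.bN, rfl⟩, ?_⟩)
      rw [e1, mul_assoc _ (v * u), mul_assoc v, uv]; group

theorem St.I : False := by
  obtain ⟨g, gA, m, hg⟩ := tr1 h.perf h.toCx.sylT (st.cT aA) (st.MT aA h.vM) h.vv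
    fun m => h.vB (sq_le m)
  have wM : g * (c * a) * g⁻¹ ∉ h.M := fun e => hg (st.cv2 aA e)
  rcases st.s4 _ m.1 with e | e
  · exact st.I2a aA m wM (cj2 g h.vv) (mul_inv_eq_iff_eq_mul.1 e)
  · exact st.I2b aA m wM (cj2 g h.vv) e gA rfl

end Bd

theorem Cx.main {A S : Subgroup G} {t z r : G} (h : Cx A S t z r) {u : G} (uS : u ∈ S)
    (uA : u ∈ A) (uu : u * u = 1) : u = 1 ∨ u = z := by
  set C := S ⊓ centralizer ({t} : Set G) with hC
  have mC : ∀ {g}, g ∈ S → g * t = t * g → g ∈ C := fun gS gt =>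
    ⟨gS, mem_centralizer_singleton_iff.2 gt⟩
  have Ct : ∀ {g}, g ∈ C → g * t = t * g := fun m => mem_centralizer_singleton_iff.1 m.2
  by_cases uC : u ∈ C
  · exact h.h0 uS uA uu (Ct uC)
  have tz : ∀ x ∈ S, x * t * x⁻¹ ∈ C → x ∉ C → x * t * x⁻¹ = z * t := fun x xS m xC => by
    have ss := h.cc (y := x)
    have := h.h0 (mul_mem m.1 h.tS) (h.i2 _ _ (h.cA x h.tA) h.tA)
      (by rw [mul_assoc _ t, ← mul_assoc t, ← Ct m, mul_assoc _ t t, h.tt, mul_one, ss])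
      (by rw [← mul_assoc t, ← Ct m])
    rcases this with e | e
    · refine absurd (mC xS ?_) xC
      rw [mul_eq_one_iff_eq_inv, h.ti, mul_inv_eq_iff_eq_mul] at e
      exact e
    · rw [← e, mul_assoc _ t t, h.tt, mul_one]
  obtain ⟨x, xS, xC, xn, xx⟩ := grow h.pg (inf_le_left : C ≤ S) fun e => uC (e uS)
  have xt := tz x xS (xn t (mC h.tS rfl)) xC
  obtain ⟨a, aC, aa, ar, ax⟩ : ∃ a ∈ C, a * a = z ∧ (a = r ∨ a = r * t) ∧ a * x = x * a := by
    have rC := mC h.rS h.rt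
    have m := xn r rC
    have c := h.c2 m.1 (Ct m) h.rS h.rt
    have := h.h0 (mul_mem m.1 (inv_mem h.rS)) (mul_mem (h.nA.conj_mem _ h.rA x) (inv_mem h.rA)) (by
      calc x * r * x⁻¹ * r⁻¹ * (x * r * x⁻¹ * r⁻¹)
          = x * r * x⁻¹ * (r⁻¹ * (x * r * x⁻¹ * r) * r⁻¹) * r⁻¹ := by group
        _ = x * (r * r) * x⁻¹ * (r * r)⁻¹ := by rw [c]; group
        _ = 1 := by rw [h.rr, h.zc x xS]; group) (Ct (mul_mem m (inv_mem rC)))
    rcases this with e | e
    · exact ⟨r, rC, h.rr, Or.inl rfl, (mul_inv_eq_iff_eq_mul.1 (mul_inv_eq_one.1 e)).symm⟩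
    · refine ⟨r * t, mul_mem rC (mC h.tS rfl), ?_, Or.inr rfl, ?_⟩
      · rw [mul_assoc, ← mul_assoc t, ← h.rt, mul_assoc, h.tt, mul_one, h.rr]
      · refine (mul_inv_eq_iff_eq_mul.1 ?_).symm
        calc x * (r * t) * x⁻¹ = x * r * x⁻¹ * r⁻¹ * r * (x * t * x⁻¹) := by group
          _ = r * (z * z) * t := by rw [e, xt, ← h.zc r h.rS]; group
          _ = _ := by rw [h.zz, mul_one]
  by_cases hb : ∃ b ∈ S, b ∈ A ∧ t * b = b⁻¹ * t ∧ a * b = b * a ∧ b * b = z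
  · obtain ⟨b, bS, bA, tb, ab, bb⟩ := hb
    obtain ⟨b, c, h', st⟩ := Bd.exSt (b := b) (c := b)
      ⟨h, aC.1, aa, Ct aC, ar, bS, bA, tb, ab, mem_zpowers b, bb⟩
    by_cases aA : a ∈ A
    · exact (st.I aA).elim
    · exact st.II aA uS uA uu
  exfalso
  let K := ext2 C x xn xx
  have KS : K ≤ S := ext2_le inf_le_left xS
  have aK : ∀ k ∈ K, a * k = k * a := by
    rintro k (hk | ⟨k, hk, rfl⟩)
    · exact h.c2 aC.1 (Ct aC) hk.1 (Ct hk)
    · rw [← mul_assoc, h.c2 aC.1 (Ct aC) hk.1 (Ct hk), mul_assoc, ax, mul_assoc]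
  have SK : S ≤ K := by
    by_contra hc
    obtain ⟨y, yS, yK, yn, -⟩ := grow h.pg KS hc
    have tK : t ∈ K := le_ext2 (mC h.tS rfl)
    have sK := yn t tK
    have ss := h.cc (y := y)
    by_cases sC : y * t * y⁻¹ ∈ C
    · have e := tz y yS sC fun e => yK (le_ext2 e)
      have : x⁻¹ * y ∈ K := le_ext2 (mC (mul_mem (inv_mem xS) yS) (by
        calc x⁻¹ * y * t = x⁻¹ * (y * t * y⁻¹) * y := by group
          _ = _ := by rw [e, ← xt]; group))
      exact yK (by simpa using mul_mem (self_ext2 : x ∈ K) this)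
    · obtain ⟨k, hk, e⟩ := sK.resolve_left sC
      have sA := h.cA y h.tA
      generalize y * t * y⁻¹ = s at *
      have si : s⁻¹ = s := inv_eq_of_mul_eq_one_left ss
      refine hb ⟨s * t, mul_mem (KS sK) h.tS, h.i2 _ _ sA h.tA,
        by rw [mul_inv_rev, si, h.ti, mul_assoc], aK _ (mul_mem sK tK), ?_⟩
      calc s * t * (s * t) = s * t * s⁻¹ * t := by rw [si]; group
        _ = k * (x * t * x⁻¹) * k⁻¹ * t := by rw [e]; group
        _ = z * (t * t) := by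
          rw [xt, ← mul_assoc k, h.zc k hk.1, mul_assoc z, Ct hk]; group
        _ = z := by rw [h.tt, mul_one]
  refine h.IIa (N := C) (fun p hp q hq pN qN => ?_) (fun s hs n hn => ?_)
    (fun w wS wC wA ww => h.h0 wS wA ww (Ct wC)) uS uA uC uu aC.1 aa (aK u (SK uS))
  · obtain ⟨k, hk, rfl⟩ := (SK hp).resolve_left pN
    obtain ⟨l, hl, rfl⟩ := (SK hq).resolve_left qN
    have := mul_mem (mul_mem hk (xn l hl)) xx
    convert this using 1; group
  · rcases SK hs with e | ⟨k, hk, rfl⟩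
    · exact mul_mem (mul_mem e hn) (inv_mem e)
    · have := mul_mem (mul_mem hk (xn n hn)) (inv_mem hk)
      convert this using 1; group

end H17.Sa
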