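import Cfsg.Agent.H17.Sa5
import Cfsg.Agent.H9.Basic

set_option autoImplicit false
set_option linter.style.haveILetI false
set_option linter.unusedSectionVars false

open Subgroup H12

namespace H17.Sa

universe u
variable {G : Type u} [Group G] [Finite G]

theorem inv4 {r u : G} (hr : orderOf r = 4) (hu : u ∈ zpowers r) (uu : u * u = 1) :
    u = 1 ∨ u = r * r := by
  classical
  rw [mem_zpowers_iff_mem_range_orderOf, hr, Finset.mem_image] at hu
  obtain ⟨i, hi, rfl⟩ := hu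
  rw [Finset.mem_range] at hi
  rw [← pow_add, ← orderOf_dvd_iff_pow_eq_one, hr] at uu
  interval_cases i
  · simp
  · norm_num at uu
  · right; exact pow_two r
  · norm_num at uu

theorem cen {S N : Subgroup G} (hS : IsPGroup 2 S) (hN : ∀ s ∈ S, ∀ n ∈ N, s * n * s⁻¹ ∈ N)
    {r : G} (rS : r ∈ S) (rN : r ∈ N) (r1 : r ≠ 1) :
    ∃ w ∈ S, w ∈ N ∧ w * w = 1 ∧ w ≠ 1 ∧ ∀ s ∈ S, s * w = w * s := by
  haveI := Fact.mk Nat.prime_two
  haveI : (N.subgroupOf S).Normal := ⟨fun n hn g => hN g g.2 n hn⟩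
  obtain ⟨x, hx, hc, ho⟩ := H9.exists_mem_center_orderOf_eq hS (M := N.subgroupOf S) fun e => by
    have : (⟨r, rS⟩ : S) ∈ N.subgroupOf S := rN
    rw [e, mem_bot] at this
    exact r1 (congrArg Subtype.val this)
  refine ⟨x, x.2, hx, ?_, fun e => ?_, fun s hs =>
    congrArg Subtype.val (mem_center_iff.1 hc ⟨s, hs⟩)⟩
  · have := pow_orderOf_eq_one x
    rw [ho, pow_two] at this
    exact congrArg Subtype.val this
  · rw [show x = 1 from Subtype.ext e, orderOf_one] at ho
    norm_num at ho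

theorem pg4 {r t : G} (r4 : r ^ 4 = 1) (t4 : t ^ 4 = 1) (c : t * r = r * t) {hn hx} :
    IsPGroup 2 (ext2 (zpowers r) t hn hx) := by
  have : ∀ ρ ∈ zpowers r, ρ ^ 4 = 1 := by
    rintro _ ⟨k, rfl⟩
    rw [← zpow_natCast, ← zpow_mul, mul_comm, zpow_mul, zpow_natCast, r4, one_zpow]
  rintro ⟨g, hg | ⟨ρ, hρ, rfl⟩⟩
  · exact ⟨2, Subtype.ext (this g hg)⟩
  · refine ⟨2, Subtype.ext ?_⟩
    change (ρ * t) ^ 4 = 1
    rw [Commute.mul_pow (com_zp c hρ).symm, this ρ hρ, t4, one_mul]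

section
variable {A : Subgroup G} {t : G}
  (hC : ∀ R : Sylow 2 ↥(A ⊓ centralizer ({t} : Set G)), IsCyclic R ∧ Nat.card R = 4)
include hC

theorem L1 {P : Subgroup G} (hP : IsPGroup 2 P) (le : P ≤ A ⊓ centralizer ({t} : Set G)) :
    ∃ r, orderOf r = 4 ∧ P ≤ zpowers r ∧ SylIn 2 (zpowers r) (A ⊓ centralizer ({t} : Set G)) := by
  haveI := Fact.mk Nat.prime_two
  obtain ⟨T, hT, PT⟩ := exists_sylIn_ge hP le
  obtain ⟨⟨g, hg⟩, h4⟩ := hC hT.toSylow
  have o : orderOf (g.1.1 : G) = 4 := by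
    rw [orderOf_coe, orderOf_coe, ← h4]
    exact orderOf_eq_card_of_forall_mem_zpowers hg
  have e : zpowers (g.1.1 : G) = T := eq_of_le_of_card_ge (zpowers_le.2 g.2) (by
    rw [Nat.card_zpowers, o, ← h4]
    exact (Nat.card_congr (subgroupOfEquivOfLe hT.le).toEquiv).ge)
  exact ⟨_, o, PT.trans e.ge, (congrArg (SylIn 2 · _) e).mpr hT⟩

theorem L2 {u w : G} (uA : u ∈ A) (wA : w ∈ A) (ut : u * t = t * u) (wt : w * t = t * w)
    (uu : u * u = 1) (ww : w * w = 1) (w1 : w ≠ 1) (c : w * u = u * w) : u = 1 ∨ u = w := by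
  have p4 : ∀ g : G, g * g = 1 → g ^ 4 = 1 := fun g h => by
    rw [show 4 = 2 * 2 from rfl, pow_mul, pow_two g, h, one_pow]
  obtain ⟨r, o, le, -⟩ := L1 hC (pg4 (p4 u uu) (p4 w ww) c
    (hn := fun h hh => by rw [com_zp c hh, mul_inv_cancel_right]; exact hh)
    (hx := ww ▸ one_mem _))
    (ext2_le (zpowers_le.2 ⟨uA, mem_centralizer_singleton_iff.2 ut⟩)
      ⟨wA, mem_centralizer_singleton_iff.2 wt⟩)
  rw [(inv4 o (le self_ext2) ww).resolve_left w1]
  exact inv4 o (le (le_ext2 (mem_zpowers u))) uu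

theorem uniq (hA : commutator A = ⊤) (tt : t * t = 1) (t1 : t ≠ 1)
    (tn : ∀ g ∈ A, t * g * t⁻¹ ∈ A) :
    ∃ T z, SylIn 2 T A ∧ z ∈ A ∧ z * z = 1 ∧ z ≠ 1 ∧ ∀ u ∈ T, u * u = 1 → u = 1 ∨ u = z := by
  haveI := Fact.mk Nat.prime_two
  have t4 : t ^ 4 = 1 := by rw [show 4 = 2 * 2 from rfl, pow_mul, pow_two t, tt, one_pow]
  by_cases tA : t ∈ A
  · obtain ⟨T, hT, tT⟩ := exists_sylIn_ge (R := zpowers t) (H := A) (IsPGroup.of_card (p := 2) (n := 1)
      (by rw [Nat.card_zpowers, orderOf_eq_prime (p := 2) (by rw [pow_two, tt]) t1]; rfl))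
      (zpowers_le.2 tA)
    have tT' := tT (mem_zpowers t)
    obtain ⟨w, wT, -, ww, w1, wc⟩ := cen hT.pgrp (N := ⊤) (fun _ _ _ _ => trivial) tT' trivial t1
    have e := (L2 hC (hT.le wT) tA (wc t tT').symm rfl ww tt t1 (wc t tT')).resolve_left w1
    subst e
    exact ⟨T, w, hT, tA, tt, t1, fun u uT uu =>
      L2 hC (hT.le uT) tA (wc u uT) rfl uu tt t1 (wc u uT).symm⟩
  obtain ⟨r, o, -, hr⟩ := L1 hC (P := ⊥) IsPGroup.of_bot bot_le
  have rA : r ∈ A := (hr.le (mem_zpowers r)).1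
  have rt : r * t = t * r := mem_centralizer_singleton_iff.1 (hr.le (mem_zpowers r)).2
  have r4 : r ^ 4 = 1 := o ▸ pow_orderOf_eq_one r
  have zz : r * r * (r * r) = 1 := by rw [← r4]; simp only [pow_succ, pow_zero]; group
  have z1 : r * r ≠ 1 := fun e => by
    rw [← pow_two, ← orderOf_dvd_iff_pow_eq_one, o] at e; norm_num at e
  let H := ext2 A t tn (tt ▸ one_mem _)
  have AH : A ≤ H := fun _ => le_ext2
  let t' : H := ⟨t, self_ext2⟩
  let r' : H := ⟨r, AH rA⟩
  have nA : (A.subgroupOf H).Normal := ⟨by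
    rintro n hn ⟨g, hg | ⟨k, hk, rfl⟩⟩
    · exact mul_mem (mul_mem hg hn) (inv_mem hg)
    · have := mul_mem (mul_mem hk (tn n hn)) (inv_mem hk)
      change k * t * n * (k * t)⁻¹ ∈ A
      convert this using 1; group⟩
  obtain ⟨S, hS, le⟩ := exists_sylIn_ge (H := ⊤) (pg4 (r := r') (t := t') (Subtype.ext r4)
    (Subtype.ext t4) (Subtype.ext rt.symm)
    (hn := fun h hh => by
      rw [com_zp (Subtype.ext rt.symm : t' * r' = r' * t') hh, mul_inv_cancel_right]; exact hh)
    (hx := (Subtype.ext tt : t' * t' = 1) ▸ one_mem _)) le_top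
  have rS : r' ∈ S := le (le_ext2 (mem_zpowers _))
  have tS : t' ∈ S := le self_ext2
  have zc : ∀ s ∈ S, s * (r' * r') = r' * r' * s := by
    obtain ⟨w, wS, wA, ww, w1, wc⟩ := cen hS.pgrp (N := A.subgroupOf H)
      (fun s _ n hn => nA.conj_mem n hn s) rS rA fun e => z1 (by
        rw [show r = 1 from congrArg Subtype.val e, one_mul])
    have := (L2 hC wA (mul_mem rA rA) (congrArg Subtype.val (wc t' tS).symm)
      (by rw [mul_assoc, rt, ← mul_assoc, rt, mul_assoc]) (congrArg Subtype.val ww) zz z1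
      (congrArg Subtype.val (wc _ (mul_mem rS rS)))).resolve_left fun e => w1 (Subtype.ext e)
    rw [← show w = r' * r' from Subtype.ext this]
    exact wc
  have cx : Cx (A.subgroupOf H) S t' (r' * r') r' :=
    { nA := nA
      perf := by
        have e := (subgroupOfEquivOfLe AH).symm
        rw [_root_.commutator_def, ← map_top_of_surjective e.toMonoidHom e.surjective,
          ← map_commutator, ← _root_.commutator_def, hA]
      i2 := by
        rintro ⟨p, hp | ⟨k, hk, rfl⟩⟩ ⟨q, hq | ⟨l, hl, rfl⟩⟩ h1 h2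
        · exact absurd hp h1
        · exact absurd hp h1
        · exact absurd hq h2
        · have := mul_mem hk (tn l hl)
          change k * t * (l * t) ∈ A
          rw [inv_eq_of_mul_eq_one_left tt] at this
          convert this using 1; group
      syl := hS
      tt := Subtype.ext tt
      tA := tA
      tS := tS
      rS := rS
      rA := rA
      rr := rfl
      zz := Subtype.ext zz
      z1 := fun e => z1 (congrArg Subtype.val e)
      rt := Subtype.ext rt
      zc := zc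
      hC := fun s sS sA st => by
        have := hr.eq_of_le (R := (S ⊓ (A ⊓ centralizer ({t} : Set G)).subgroupOf H).map H.subtype)
          ((hS.pgrp.to_le inf_le_left).map _) (by rintro _ ⟨g, hg, rfl⟩; exact hg.2)
          (zpowers_le.2 ⟨r', ⟨rS, hr.le (mem_zpowers r)⟩, rfl⟩)
        obtain ⟨k, hk⟩ : (s : G) ∈ zpowers r := this ▸ ⟨s, ⟨sS, sA,
          mem_centralizer_singleton_iff.2 (congrArg Subtype.val st)⟩, rfl⟩
        exact ⟨k, Subtype.ext hk⟩
      h1 := fun g u m uS uA uu c => by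
        have bk : ∀ w : H, w * (g * t' * g⁻¹) = g * t' * g⁻¹ * w →
            g⁻¹ * w * g⁻¹⁻¹ * t' = t' * (g⁻¹ * w * g⁻¹⁻¹) := fun w c =>
          calc g⁻¹ * w * g⁻¹⁻¹ * t' = g⁻¹ * (w * (g * t' * g⁻¹)) * g := by group
            _ = _ := by rw [c]; group
        have := L2 hC (nA.conj_mem u uA g⁻¹) (nA.conj_mem (r' * r') (mul_mem rA rA) g⁻¹)
          (congrArg Subtype.val (bk u c)) (congrArg Subtype.val (bk _ (zc _ m).symm))
          (congrArg Subtype.val (cj2 g⁻¹ uu))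
          (congrArg Subtype.val (cj2 g⁻¹ (Subtype.ext zz : r' * r' * (r' * r') = 1)))
          (fun e => z1 (conj_eq_one_iff.1 e)) (congrArg Subtype.val (by
            calc g⁻¹ * (r' * r') * g⁻¹⁻¹ * (g⁻¹ * u * g⁻¹⁻¹) = g⁻¹ * (r' * r' * u) * g := by group
              _ = g⁻¹ * u * g⁻¹⁻¹ * (g⁻¹ * (r' * r') * g⁻¹⁻¹) := by rw [← zc u uS]; group))
        rcases this with e | e
        · left; exact Subtype.ext (conj_eq_one_iff.1 e)
        · right; apply Subtype.ext; simpa using e }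
  have hT := cx.sylT.map H.subtype
  rw [subgroupOf_map_subtype, inf_eq_left.2 AH] at hT
  refine ⟨_, r * r, hT, mul_mem rA rA, zz, z1, ?_⟩
  rintro _ ⟨u, hu, rfl⟩ uu
  rcases cx.main hu.1 hu.2 (Subtype.ext uu) with e | e
  · left; exact congrArg Subtype.val e
  · right; exact congrArg Subtype.val e

theorem final (hA : Cfsg.layer A = ⊤) (ht : orderOf t = 2) (htA : t ∈ normalizer (A : Set G)) :
    Cfsg.PRankLE 2 1 A ∧ ¬ Cfsg.PRankLE 2 0 A := by
  haveI := Fact.mk Nat.prime_two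
  have perf : commutator A = ⊤ := by
    rw [eq_top_iff, ← hA]
    refine sSup_le fun K hK => ?_
    have := hK.2.1.commutator_eq_top
    rw [← K.range_subtype, MonoidHom.range_eq_map, ← this, _root_.commutator_def, map_commutator]
    exact commutator_mono le_top le_top
  obtain ⟨T, z, hT, zA, zz, z1, hu⟩ := uniq hC perf (by rw [← pow_two, ← ht, pow_orderOf_eq_one])
    (fun e => by rw [e, orderOf_one] at ht; norm_num at ht)
    fun g hg => (mem_normalizer_iff.1 htA g).1 hg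
  refine ⟨fun E _ h2 => ?_, fun h => ?_⟩
  · have pE : IsPGroup 2 E := fun g => ⟨1, Subtype.ext (h2 g g.2)⟩
    obtain ⟨x, -, hx⟩ := hT.exists_cj_le (pE.map A.subtype) (map_subtype_le E)
    rw [← card_map_of_injective A.subtype_injective,
      ← card_map_of_injective (f := (MulAut.conj x).toMonoidHom) (MulAut.conj x).injective]
    refine (Nat.card_coe_set_eq _).le.trans ((Set.ncard_le_ncard (t := {1, z}) ?_).trans ?_)
    · rintro _ ⟨_, ⟨g, hg, rfl⟩, rfl⟩
      refine hu _ (hx ⟨_, ⟨g, hg, rfl⟩, rfl⟩) (cj2 x ?_)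
      rw [← pow_two]; exact congrArg Subtype.val (h2 g hg)
    · rw [Set.ncard_pair z1.symm]; rfl
  · have o : orderOf (⟨z, zA⟩ : A) = 2 :=
      orderOf_eq_prime (Subtype.ext (by simpa [pow_two] using zz))
        fun e => z1 (congrArg Subtype.val e)
    have := h (zpowers ⟨z, zA⟩) inferInstance fun a ha => by
      rw [← orderOf_dvd_iff_pow_eq_one, ← o]; exact orderOf_dvd_of_mem_zpowers ha
    rw [Nat.card_zpowers, o] at this
    norm_num at this

end

end H17.Sa
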