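import Cfsg.Agent.H17.Kv
import Cfsg.Agent.H7.MinAct
import Cfsg.Agent.H1.Prim
import Cfsg.Agent.H3.Transfer2
import Cfsg.Agent.H3.Critical
import Cfsg.Agent.H16.QNil

/-! The normal Sylow subgroup of a minimal non-nilpotent group. -/

set_option autoImplicit false
set_option linter.unusedSectionVars false

open Subgroup Cfsg H1 H16
open scoped commutatorElement

namespace H17.Sm

structure SE {G : Type*} [Group G] (p : ℕ) (S : Subgroup G) : Prop where
  der : ∀ x ∈ S, ∀ y ∈ S, ⁅x, y⁆ ∈ C[S]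
  exp : ∀ z ∈ S, z ∈ C[S] → z ^ p = 1
  full : ∀ v ∈ S, v ∉ C[S] → ∀ z ∈ S, z ∈ C[S] → ∃ x ∈ S, ⁅v, x⁆ = z
  fin : p ≤ 3 → Nat.card (S ⊓ C[S] : Subgroup G) = p → ∀ w ∈ S, w ∉ C[S] → w ^ p = 1 →
    (∀ x ∈ S, ∀ y ∈ S, x * w = w * x → y * w = w * y → x * y = y * x) → False

theorem card_cen {G : Type*} [Group G] (S : Subgroup G) :
    Nat.card (S ⊓ C[S] : Subgroup G) = Nat.card (center S) := by
  rw [← card_map_of_injective (K := center S) S.subtype_injective]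
  congr 2
  ext x
  simp only [mem_inf, mem_map, mem_center_iff, mem_cent, coe_subtype, Subtype.exists, Subtype.forall]
  exact ⟨fun ⟨h1, h2⟩ => ⟨x, h1, fun a ha => Subtype.ext (h2 a ha), rfl⟩,
    by rintro ⟨a, ha, h, rfl⟩; exact ⟨ha, fun b hb => congrArg Subtype.val (h b hb)⟩⟩

theorem SE.equiv {G H : Type*} [Group G] [Group H] {p : ℕ} {S : Subgroup G} {T : Subgroup H}
    (h : SE p S) (e : T ≃* S) : SE p T := by
  have cm : ∀ x y : T, (x : H) * y = y * x ↔ (e x : G) * e y = e y * e x := fun x y => by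
    rw [← coe_mul, ← coe_mul, ← coe_mul, ← coe_mul, Subtype.coe_inj, Subtype.coe_inj, ← map_mul,
      ← map_mul, e.injective.eq_iff]
  have cc : ∀ x : T, (x : H) ∈ C[T] ↔ (e x : G) ∈ C[S] := fun x => by
    rw [mem_cent, mem_cent]
    refine ⟨fun h1 y hy => ?_, fun h1 y hy => (cm ⟨y, hy⟩ x).2 (h1 _ (e _).2)⟩
    have := (cm (e.symm ⟨y, hy⟩) x).1 (h1 _ (e.symm _).2)
    simpa using this
  have pw : ∀ x : T, (x : H) ^ p = 1 ↔ (e x : G) ^ p = 1 := fun x => by
    rw [← coe_pow, ← coe_pow, ← map_pow, OneMemClass.coe_eq_one, OneMemClass.coe_eq_one,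
      map_eq_one_iff _ e.injective]
  refine ⟨fun x hx y hy => (cc ⁅(⟨x, hx⟩ : T), (⟨y, hy⟩ : T)⁆).2 ?_, fun z hz hc => (pw ⟨z, hz⟩).2
    (h.exp _ (e _).2 ((cc ⟨z, hz⟩).1 hc)), fun v hv hn z hz hc => ?_, fun h3 hZ w hw hn hp hc => ?_⟩
  · rw [map_commutatorElement]; exact h.der _ (e _).2 _ (e _).2
  · obtain ⟨x, hx, ex⟩ := h.full _ (e ⟨v, hv⟩).2 (fun h => hn ((cc ⟨v, hv⟩).2 h)) _ (e ⟨z, hz⟩).2
      ((cc ⟨z, hz⟩).1 hc)
    refine ⟨e.symm ⟨x, hx⟩, (e.symm _).2, ?_⟩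
    have : ⁅(⟨v, hv⟩ : T), e.symm ⟨x, hx⟩⁆ = ⟨z, hz⟩ := e.injective (Subtype.ext (by
      rw [map_commutatorElement, e.apply_symm_apply]; exact ex))
    exact congrArg Subtype.val this
  · refine h.fin h3 ?_ _ (e ⟨w, hw⟩).2 (fun h => hn ((cc ⟨w, hw⟩).2 h)) ((pw ⟨w, hw⟩).1 hp)
      fun x hx y hy h1 h2 => ?_
    · rw [card_cen, ← hZ, card_cen]; exact (Nat.card_congr (Subgroup.centerCongr e).toEquiv).symm
    · have := (cm (e.symm ⟨x, hx⟩) (e.symm ⟨y, hy⟩)).1 (hc _ (e.symm _).2 _ (e.symm _).2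
        ((cm _ ⟨w, hw⟩).2 (by simpa using h1)) ((cm _ ⟨w, hw⟩).2 (by simpa using h2)))
      simpa using this

variable {G : Type*} [Group G] [Finite G] {p q : ℕ} [hp : Fact p.Prime] {P : Subgroup G} {g : G}

theorem se_of (hP : IsPGroup p P) (hq : q.Prime) (hqp : q ≠ p) (hA : IsPGroup q (zpowers g))
    (hg : g ∈ N[P]) (hgq : g ^ q ∈ C[P]) (hnt : ⁅P, zpowers g⁆ ≠ ⊥)
    (hmin : ∀ U : Subgroup G, U < P → zpowers g ≤ N[U] → ⁅U, zpowers g⁆ = ⊥)
    (hna : ¬ IsMulCommutative P) : SE p P := by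
  have : Fact q.Prime := ⟨hq⟩
  have hg' := zpowers_le.2 hg
  obtain ⟨-, h2, h3, h4, h5, -⟩ := H7.minimal_action hP hg' le_rfl (le_norm _)
    (by
      obtain ⟨k, e⟩ := IsPGroup.iff_card.1 hA
      rw [e]; exact ((Nat.coprime_primes hq hp.out).2 hqp).pow_left k) hnt hmin
  have h5 := h5.resolve_left hna
  rw [← h5] at h2 h3
  set Z := P ⊓ C[P] with hZ
  have com : ∀ x ∈ P, ∀ y ∈ P, ⁅x, y⁆ ∈ Z := fun x hx y hy => h5 ▸ commutator_mem_commutator hx hy
  have cm : ∀ a ∈ P, ∀ x ∈ P, ∀ y ∈ P, Commute a ⁅x, y⁆ := fun a ha x hx y hy =>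
    mem_cent.1 (com x hx y hy).2 a ha
  have pZ : ∀ x ∈ P, x ^ p ∈ Z := fun x hx => h3 ▸ ⟨_, H3.pow_mem_frattini hP ⟨x, hx⟩, rfl⟩
  have zg : ∀ z ∈ Z, ∀ a ∈ zpowers g, a * z * a⁻¹ = z := fun z hz a ha => by
    rw [← h2] at hz; rw [mem_cent.1 hz.2 a ha]; simp
  have irr : ∀ U, Z ≤ U → U ≤ P → g ∈ N[U] → U = Z ∨ U = P := fun U h1 h1' hn => by
    rcases h1'.eq_or_lt with e | e
    · exact Or.inr e
    · exact Or.inl (le_antisymm (h2 ▸ le_inf h1' (comm_eq_bot.1 (hmin U e (zpowers_le.2 hn)))) h1)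
  have exp : ∀ z ∈ Z, z ^ p = 1 := by
    let W : Subgroup G :=
      { carrier := {z | z ∈ Z ∧ z ^ p = 1}
        one_mem' := ⟨one_mem _, one_pow _⟩
        mul_mem' := fun {a b} ha hb => ⟨mul_mem ha.1 hb.1, by
          rw [Commute.mul_pow (mem_cent.1 hb.1.2 a ha.1.1), ha.2, hb.2, one_mul]⟩
        inv_mem' := fun {a} ha => ⟨inv_mem ha.1, by rw [inv_pow, ha.2, inv_one]⟩ }
    have : ⁅P, P⁆ ≤ W := commutator_le.2 fun x hx y hy => ⟨com x hx y hy, by
      rw [← H9.commutator_pow_left (cm x hx x hx y hy)]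
      exact commutatorElement_eq_one_iff_mul_comm.2 (mem_cent.1 (pZ x hx).2 y hy).symm⟩
    exact fun z hz => (this (h5 ▸ hz)).2
  refine ⟨fun x hx y hy => (com x hx y hy).2, fun z h1 h2 => exp z (mem_inf.2 ⟨h1, h2⟩),
    fun v hv hn z z1 z2 => ?_, fun h3 cZ w hw hn wp hc => ?_⟩
  · let M : Subgroup G :=
      { carrier := {z | ∃ x ∈ P, ⁅v, x⁆ = z}
        one_mem' := ⟨1, one_mem _, by simp⟩
        mul_mem' := by
          rintro _ _ ⟨a, ha, rfl⟩ ⟨b, hb, rfl⟩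
          exact ⟨a * b, mul_mem ha hb, H9.commutator_mul_right_of_commute (cm a ha v hv b hb)⟩
        inv_mem' := by
          rintro _ ⟨a, ha, rfl⟩
          exact ⟨a⁻¹, inv_mem ha, by simpa using H9.commutator_zpow_right (cm a ha v hv a ha) (-1)⟩ }
    let K : Subgroup G :=
      { carrier := {u | u ∈ P ∧ ∀ x ∈ P, ⁅u, x⁆ ∈ M}
        one_mem' := ⟨one_mem _, fun x _ => by simp⟩
        mul_mem' := fun {a b} ha hb => ⟨mul_mem ha.1 hb.1, fun x hx => by
          rw [H9.commutator_mul_left_of_commute (cm a ha.1 b hb.1 x hx)]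
          exact mul_mem (hb.2 x hx) (ha.2 x hx)⟩
        inv_mem' := fun {a} ha => ⟨inv_mem ha.1, fun x hx => by
          have := H9.commutator_zpow_left (cm a ha.1 a ha.1 x hx) (-1)
          simp only [zpow_neg_one] at this
          rw [this]; exact inv_mem (ha.2 x hx)⟩ }
    rcases irr K (fun z hz => ⟨hz.1, fun x hx => by
      rw [commutatorElement_eq_one_iff_mul_comm.2 (mem_cent.1 hz.2 x hx).symm]; exact one_mem _⟩)
      (fun _ h => h.1) (mem_norm_of_cj_le (cj_le_forall.2 fun u hu => ⟨conj_mem hg hu.1, fun x hx => by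
        have e : ⁅g * u * g⁻¹, x⁆ = g * ⁅u, g⁻¹ * x * g⁆ * g⁻¹ := by
          simp only [commutatorElement_def]; group
        rw [e, zg _ (com u hu.1 _ (conj_mem' hg hx)) g (mem_zpowers g)]
        exact hu.2 _ (conj_mem' hg hx)⟩)) with e | e
    · exact absurd (show v ∈ Z from e ▸ (⟨hv, fun x hx => ⟨x, hx, rfl⟩⟩ : v ∈ K)).2 hn
    · have : ⁅P, P⁆ ≤ M := commutator_le.2 fun x hx y hy => (show x ∈ K from e ▸ hx).2 y hy
      exact this (h5 ▸ mem_inf.2 ⟨z1, z2⟩)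
  have gZ : g ∈ N[Z] := zpowers_le.1 (norm_inf hg' (norm_cent hg'))
  have nZ : ∀ x ∈ P, x ∉ Z → g * x * g⁻¹ ∉ Z := fun x _ h1 h2 => h1 (by
    simpa [mul_assoc] using conj_mem' gZ h2)
  have wZ : w ∉ Z := fun h => hn h.2
  set w' := g * w * g⁻¹ with hw'
  have w'P : w' ∈ P := conj_mem hg hw
  set R := P ⊓ C1[w] with hR
  have ZR : Z < R := lt_of_le_of_ne (fun z hz => mem_inf.2 ⟨hz.1, cent_le_cent1 hw hz.2⟩)
    fun e => wZ (e ▸ mem_inf.2 ⟨hw, cent1_self w⟩)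
  have RP : R < P := lt_of_le_of_ne inf_le_left fun e => hn (le_cent1.1 (e ▸ inf_le_right))
  have cR : R ≤ C[R] := fun x hx => mem_cent.2 fun y hy =>
    hc y hy.1 x hx.1 (mem_cent1.1 hy.2) (mem_cent1.1 hx.2)
  have c1 := Kv.card_le_cent (W := P) (Y := Z) (c := w) fun x hx => com x hx w hw
  have c2 := Kv.card_le_cent (W := R) (Y := Z) (c := w') fun x hx => com x hx.1 w' w'P
  rw [cZ] at c1 c2
  obtain ⟨b, eb⟩ := IsPGroup.iff_card.1 hP
  obtain ⟨a, -, ea⟩ := pg_card_cases hp.out eb RP.le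
  have l1 := card_lt RP
  have l2 := card_lt ZR
  rw [ea, eb] at c1 l1
  rw [ea, cZ] at l2
  rw [← pow_succ', Nat.pow_le_pow_iff_right hp.out.one_lt] at c1
  rw [Nat.pow_lt_pow_iff_right hp.out.one_lt] at l1
  have ab : b = a + 1 := by omega
  have R' : R :^ g = P ⊓ C1[w'] := by rw [hR, cj_inf, cj_norm hg, ← cent1_cj]
  have RR : R ⊔ R :^ g = P := by
    refine (H9.eq_or_eq_of_card_eq_mul (p := p) le_sup_left (sup_le RP.le (R' ▸ inf_le_left))
      (by rw [ea, eb, ab, pow_succ'])).resolve_left fun e => ?_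
    rcases irr R ZR.le RP.le (mem_norm_of_cj_le (le_sup_right.trans e.le)) with e | e
    exacts [ZR.ne e.symm, RP.ne e]
  have RZ : R ⊓ C1[w'] ≤ Z := fun x hx => mem_inf.2 ⟨hx.1.1, by
    rw [← RR, cent_sup]
    refine mem_inf.2 ⟨cR hx.1, ?_⟩
    exact cent_cj_le cR g (R' ▸ mem_inf.2 ⟨hx.1.1, hx.2⟩)⟩
  have c3 := c2.trans (Nat.mul_le_mul_left _ (card_le RZ))
  rw [cZ, ea, ← sq, Nat.pow_le_pow_iff_right hp.out.one_lt] at c3
  have a2 : 1 < a := (Nat.pow_lt_pow_iff_right hp.out.one_lt).1 (by rwa [pow_one])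
  have b3 : b = 3 := by omega
  rw [b3] at eb
  have nZ' : ∀ u ∈ P, u ∈ N[Z] := fun u hu => cent_le_norm _ (cent_symm inf_le_right hu)
  have inv : ∀ u ∈ P, u ∉ Z → g * u * g⁻¹ ∈ Z ⊔ zpowers u → False := fun u hu h1 h2 => by
    have c := H9.card_sup_zpowers hp.out (nZ' u hu) h1 (pZ u hu)
    rcases irr (Z ⊔ zpowers u) le_sup_left (sup_le inf_le_left (zpowers_le.2 hu))
      (mem_norm_of_cj_le (by
        rw [cj_sup, cj_norm gZ, ← zpowers_cj]; exact sup_le le_sup_left (zpowers_le.2 h2))) with e | e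
    · exact h1 (e ▸ mem_sup_right (mem_zpowers u))
    · rw [e, eb, cZ, ← sq] at c
      exact absurd (Nat.pow_right_injective hp.out.two_le c) (by norm_num)
  have sw : ∀ x ∈ P, ∀ y ∈ P, ∀ n ∈ Z, y * (n * x) ∈ Z ⊔ zpowers (x * y) := fun x hx y hy n hn => by
    have : y * (n * x) = n * ⁅y, x⁆ * (x * y) := by
      rw [← mul_assoc, mem_cent.1 hn.2 y hy]; simp only [commutatorElement_def]; group
    rw [this]
    exact mul_mem (mem_sup_left (mul_mem hn (com y hy x hx))) (mem_sup_right (mem_zpowers _))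
  have uZ : w * w' ∉ Z := fun h => inv w hw wZ (by
    have : w' = w⁻¹ * (w * w') := by group
    rw [← hw', this]; exact mul_mem (inv_mem (mem_sup_right (mem_zpowers w))) (mem_sup_left h))
  have last : ∀ n ∈ Z, g * w' * g⁻¹ = n * w → False := fun n hn e =>
    inv _ (mul_mem hw w'P) uZ (by
      have : g * (w * w') * g⁻¹ = w' * (n * w) := by rw [← e, hw']; group
      rw [this]; exact sw w hw w' w'P n hn)
  have md := H3.card_modEq_card_inf_centralizer hA hg'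
  rw [h2, cZ, eb] at md
  have h2' := hp.out.two_le
  interval_cases p
  · have w'Z := nZ w hw wZ
    have n1 : w' ∉ Z ⊔ zpowers w := inv w hw wZ
    have d1 := H9.card_sup_zpowers hp.out (nZ' w hw) wZ (pZ w hw)
    have l : Z ⊔ zpowers w ≤ P := sup_le inf_le_left (zpowers_le.2 hw)
    have nn : w' ∈ N[Z ⊔ zpowers w] :=
      norm_of_der_le (h5.ge.trans le_sup_left) l w'P
    have d2 := H9.card_sup_zpowers hp.out nn n1 (mem_sup_left (pZ w' w'P))
    have eP : Z ⊔ zpowers w ⊔ zpowers w' = P :=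
      eq_of_le_of_card (sup_le l (zpowers_le.2 w'P)) (by rw [d2, d1, cZ, eb]; norm_num)
    have m := conj_mem hg w'P
    rw [← eP] at m
    obtain ⟨_, m1, j, ej⟩ := (H9.mem_sup_zpowers_nat nn).1 m
    obtain ⟨n, hn', i, rfl⟩ := (H9.mem_sup_zpowers_nat (nZ' w hw)).1 m1
    have w'2 : w' ^ 2 = 1 := by rw [hw', conj_pow, wp]; simp
    rw [pow_eq_pow_mod i wp, pow_eq_pow_mod j w'2] at ej
    rcases Nat.mod_two_eq_zero_or_one i with hi | hi <;> rcases Nat.mod_two_eq_zero_or_one j with hj | hj <;>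
      rw [hi, hj] at ej <;> simp only [pow_zero, pow_one, mul_one] at ej
    · exact nZ w' w'P w'Z (ej ▸ hn')
    · exact inv w' w'P w'Z (ej ▸ mul_mem (mem_sup_left hn') (mem_sup_right (mem_zpowers _)))
    · exact last n hn' ej
    · have e1 : (g * w' * g⁻¹) ^ 2 = 1 := by rw [conj_pow, w'2]; simp
      rw [ej, mul_assoc, Commute.mul_pow (mem_cent.1 hn'.2 _ (mul_mem hw w'P)).symm, exp n hn',
        one_mul] at e1
      refine w'Z (RZ (mem_inf.2 ⟨mem_inf.2 ⟨w'P, mem_cent1.2 ?_⟩, cent1_self _⟩))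
      rw [sq] at e1 wp w'2
      calc w' * w = w * (w * w' * (w * w')) * w' := by
            rw [show w * (w * w' * (w * w')) * w' = (w * w) * w' * w * (w' * w') by group, wp, w'2]; group
        _ = _ := by rw [e1, mul_one]
  · have : q ∣ 24 := by simpa using (Nat.modEq_iff_dvd' (by norm_num)).1 md.symm
    have q2 : q = 2 := by
      have := Nat.le_of_dvd (by norm_num) this
      interval_cases q <;> first | omega | (exfalso; revert hq; norm_num)
    subst q2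
    refine last 1 (one_mem _) ?_
    have := mem_cent.1 hgq w hw
    rw [hw', one_mul]
    calc _ = g ^ 2 * w * (g ^ 2)⁻¹ := by rw [sq]; group
      _ = w := by rw [← this]; group

theorem se_schmidt {X : Type*} [Group X] [Finite X] (hX : IsMinimalNonNilpotent X) (P : Sylow p X)
    (hna : ¬ IsMulCommutative (P : Subgroup X)) : SE p (P : Subgroup X) := by
  obtain ⟨q, r, hq, hr, hqr, A, Q, g, eA, hQ, hs, hg⟩ := H1.minimal_non_nilpotent hX.1 hX.2
  have : Fact q.Prime := ⟨hq⟩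
  have : Fact r.Prime := ⟨hr⟩
  have sA := sy_top_of_sylow A
  have sP := sy_top_of_sylow P
  have sQ := sy_top_of_sylow Q
  have nQ : ∀ U : Subgroup X, U ≤ N[(Q : Subgroup X)] := fun U => by
    rw [normalizer_eq_top_iff.2 hQ]; exact le_top
  have pr : p = r := by
    by_contra hne
    by_cases e : p = q
    · subst e
      obtain ⟨x, -, ex⟩ := sy_conj sA sP
      exact hna (ex ▸ (comm_cj x).2 (comm_of_cyclic (eA ▸ cyclic_zpowers g)))
    have hd := card_sup_dvd (H := (A : Subgroup X)) (K := (Q : Subgroup X)) (Or.inl (nQ _))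
    rw [hs] at hd
    obtain ⟨a, ea⟩ := IsPGroup.iff_card.1 A.isPGroup'
    obtain ⟨b, eb⟩ := IsPGroup.iff_card.1 Q.isPGroup'
    obtain ⟨c, ec⟩ := IsPGroup.iff_card.1 P.isPGroup'
    have := (card_dvd (le_top : (P : Subgroup X) ≤ ⊤)).trans hd
    rw [ea, eb, ec] at this
    rcases c with _ | c
    · exact hna ((eq_bot_of_card_eq _ ec) ▸ comm_bot)
    · rcases (Nat.Prime.dvd_mul hp.out).1 ((dvd_pow_self p (by omega)).trans this) with h | h
      · exact e ((Nat.prime_dvd_prime_iff_eq hp.out hq).1 (hp.out.dvd_of_dvd_pow h))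
      · exact hne ((Nat.prime_dvd_prime_iff_eq hp.out hr).1 (hp.out.dvd_of_dvd_pow h))
  subst pr
  have eP : (P : Subgroup X) = Q := hl_eq_of_normal sQ (nQ _) sP
  rw [eP] at hna ⊢
  have hA : IsPGroup q (zpowers g) := eA ▸ A.isPGroup'
  have cop : ∀ U V : Subgroup X, U ≤ Q → V ≤ zpowers g → (Nat.card U).Coprime (Nat.card V) :=
    fun U V h1 h2 => IsPGroup.coprime_card_of_ne p q hqr.symm _ _ (Q.isPGroup'.to_le h1) (hA.to_le h2)
  refine se_of Q.isPGroup' hq hqr hA (nQ ⊤ trivial) ?_ (fun e => hg (cent_symm (comm_eq_bot.1 e)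
    (mem_zpowers g))) (fun U hU hn => ?_) hna
  · have l : zpowers (g ^ q) ≤ zpowers g := zpowers_le.2 (pow_mem (mem_zpowers g) q)
    have hne : (Q : Subgroup X) ⊔ zpowers (g ^ q) ≠ ⊤ := fun e => by
      have h1 := hl_sup_right (π := {q}) (nQ (zpowers (g ^ q))) (H15.Cfsg.IsPiSubgroup.mono (hl_pi sQ) (by
        intro s hs; simp at hs ⊢; omega)) (pg_iff.2 (hA.to_le l))
      rw [e] at h1
      have h2 := hl_card_eq h1 sA
      rw [eA, card_zpowers, card_zpowers] at h2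
      obtain ⟨k, ek⟩ := IsPGroup.iff_card.1 hA
      rw [card_zpowers] at ek
      rcases k with _ | k
      · exact hg (by rw [orderOf_eq_one_iff.1 ek]; exact one_mem _)
      · rw [orderOf_pow_of_dvd hq.ne_zero (ek ▸ dvd_pow_self q (by omega))] at h2
        have := Nat.div_lt_self (orderOf_pos g) hq.one_lt
        omega
    exact cent_symm (nil_cent (hX.2 _ hne) le_sup_left le_sup_right (cop _ _ le_rfl l)) (mem_zpowers _)
  · have hne : U ⊔ zpowers g ≠ ⊤ := fun e => by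
      have h1 := hl_sup_left (π := {p}) hn (pg_iff.2 (Q.isPGroup'.to_le hU.le))
        (H15.Cfsg.IsPiSubgroup.mono (pg_iff.2 hA) (by intro s hs; simp at hs ⊢; omega))
      rw [e] at h1
      exact hU.ne (hl_eq_of_le h1 sQ hU.le)
    exact comm_eq_bot.2 (nil_cent (hX.2 _ hne) le_sup_left le_sup_right (cop _ _ hU.le le_rfl))

end H17.Sm
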