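import Cfsg.Agent.H17.Sm1
import Cfsg.Agent.H4.Fact
import Cfsg.Agent.S0625
import Cfsg.Agent.S3734
import Cfsg.Agent.H6.QG
import Cfsg.Agent.H16.Rank
import Cfsg.Agent.H9.GY

set_option autoImplicit false
set_option linter.unusedSectionVars false

open Subgroup Cfsg H1 H16
open scoped commutatorElement

namespace H17.Sm

variable {G : Type*} [Group G] [Finite G] {p : ℕ} [hp : Fact p.Prime]

theorem le_core_of_normal (hc : C[pCore p G] ≤ pCore p G) {S Z : Subgroup G} [Z.Normal]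
    (h1 : ⁅S, pCore p G⁆ ≤ Z) (h2 : S ≤ C[Z]) : S ≤ pCore p G := by
  let K := H9.centMod Z (pCore p G : Set G) ⊓ C[Z]
  have : K.Normal := ⟨fun x hx g => mem_inf.2 ⟨fun t ht => by
    have e : ⁅g * x * g⁻¹, t⁆ = g * ⁅x, g⁻¹ * t * g⁆ * g⁻¹ := by simp only [commutatorElement_def]; group
    rw [e]
    exact Normal.conj_mem inferInstance _ (hx.1 _ (Normal.conj_mem' inferInstance _ ht g)) g,
    Normal.conj_mem inferInstance _ hx.2 g⟩⟩
  refine le_trans (le_inf (H9.commutator_le_iff_le_centMod.1 h1) h2) (H1.le_pCore (N := K) ?_)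
  refine IsPGroup.iff_card.2 ⟨_, Nat.eq_prime_pow_of_unique_prime_dvd Nat.card_pos.ne' fun {r} hr hd => ?_⟩
  by_contra hne
  obtain ⟨y, hy, oy⟩ := exists_orderOf hr hd
  obtain ⟨k, ek⟩ := IsPGroup.iff_card.1 (H1.isPGroup_pCore (G := G) p)
  have c : (Nat.card (zpowers y)).Coprime (Nat.card (pCore p G)) := by
    rw [H16.card_zpowers, oy, ek]; exact ((Nat.coprime_primes hr hp.out).2 hne).pow_right k
  have := cop_cent_of_comm_cent (le_normalizer_of_normal.trans' le_top) c (by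
    rw [commutator_comm]
    exact (H9.commutator_le_iff_le_centMod.2 (zpowers_le.2 hy.1)).trans (cent_symm (zpowers_le.2 hy.2)))
  have := (H16.orderOf_dvd_card (hc (this (mem_zpowers y))))
  rw [oy, ek] at this
  exact hne ((Nat.prime_dvd_prime_iff_eq hr hp.out).1 (hr.dvd_of_dvd_pow this))

theorem card_Z (hG : IsPSolvable p G) {S V : Subgroup G} [V.Normal] (hS : IsPGroup p S) (h : SE p S)
    (hV : EA[p] V) (VS : V ≤ S) (ZV : S ⊓ C[S] ≤ V) (h0 : pCore p (G ⧸ C[V]) = ⊥) (hn : ¬ S ≤ C[V]) :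
    Nat.card (S ⊓ C[S] : Subgroup G) ≤ p := by
  set f := QuotientGroup.mk' C[V] with hf
  have ker : ∀ x, f x = 1 ↔ x ∈ C[V] := fun x => QuotientGroup.eq_one_iff x
  have VC : V ≤ C[V] := comm_iff.1 hV.1
  have SS : ⁅S, S⁆ ≤ S ⊓ C[S] := commutator_le.2 fun x hx y hy =>
    mem_inf.2 ⟨der_le S (commutator_mem_commutator hx hy), h.der x hx y hy⟩
  have nV : ∀ U : Subgroup G, U ≤ N[V] := fun U => le_normalizer_of_normal.trans' le_top
  have mb : ∀ U : Subgroup G, U.map f = ⊥ ↔ U ≤ C[V] := fun U => by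
    rw [Subgroup.map_eq_bot_iff, hf, QuotientGroup.ker_mk']
  have ab : IsMulCommutative (S.map f) := der_eq_bot.1 (by
    rw [← map_commutator, mb]; exact SS.trans (ZV.trans VC))
  set K := pPrimeCore p (G ⧸ C[V])
  have cK : (Nat.card K).Coprime p := H1.coprime_card_pPrimeCore p
  have cop := (H1.IsPGroup.coprime_card (hS.map f) cK)
  have k1 : ⁅K, S.map f⁆ ≠ ⊥ := fun e => hn ((mb S).1 (by
    have := (cent_symm (comm_eq_bot.1 e)).trans (H1.IsPSolvable.centralizer_pPrimeCore_le (H1.IsPSolvable.quotient hG C[V]) h0)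
    rw [← inf_eq_left.2 this]; exact inf_bot_of_coprime cop))
  obtain ⟨B', ⟨hB', a', ha', eB⟩, hE⟩ : ∃ B', (B' ≤ S.map f ∧ ∃ a ∈ S.map f, B' ⊔ zpowers a = S.map f) ∧
      ⁅K ⊓ C[B'], S.map f⁆ ≠ ⊥ := by
    by_contra hc
    push Not at hc
    refine k1 ?_
    rw [← (Cfsg.Agent.S3734.result (S.map f) K ab (le_normalizer_of_normal.trans' le_top) cop).2]
    exact iSup₂_eq_bot.2 fun B hB => hc B hB
  obtain ⟨a, ha, rfl⟩ := ha'
  set D := (K ⊓ C[B']).comap f
  set B := S ⊓ B'.comap f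
  set E := ⁅D, S⁆
  have sj : Function.Surjective f := QuotientGroup.mk'_surjective _
  have mD : D.map f = K ⊓ C[B'] := map_comap_eq_self_of_surjective sj _
  have mE : E.map f = ⁅K ⊓ C[B'], S.map f⁆ := by rw [map_commutator, mD]
  have mB : B.map f = B' := le_antisymm (map_le_iff_le_comap.2 inf_le_right) fun y hy => by
    obtain ⟨x, hx, rfl⟩ := hB' hy
    exact ⟨x, mem_inf.2 ⟨hx, hy⟩, rfl⟩
  have cE : ∀ W : Subgroup G, D ≤ N[W] → W ≤ C[S] → E ≤ C[W] := fun W h1 h2 =>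
    (commutator_mono le_rfl (cent_symm h2)).trans (H16.comm_le_right (norm_cent h1))
  have VB : ⁅V, B⁆ ≤ C[S] := (commutator_mono VS inf_le_left).trans (SS.trans inf_le_right)
  have DVB : D ≤ N[⁅V, B⁆] := le_norm_iff_cj.2 fun d hd => by
    rw [cj_comm, cj_norm (nV ⊤ trivial)]
    refine (commutator_mono le_rfl (show B :^ d ≤ B ⊔ C[V] from cj_le_forall.2 fun b hb => ?_)).trans
      (comm_sup_le le_rfl (by rw [comm_eq_bot.2 (cent_symm le_rfl)]; exact bot_le)
        (normalizer_commutator_ge_right _ _)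
        (norm_of_cent (cent_anti (H16.comm_le_left (nV _)))))
    have : d * b * d⁻¹ = b * (b⁻¹ * d * b * d⁻¹) := by group
    rw [this]
    refine mul_mem (mem_sup_left hb) (mem_sup_right ((ker _).1 ?_))
    have := mem_cent.1 (show f d ∈ C[B'] from hd.2) (f b) hb.2
    simp only [map_mul, map_inv]
    rw [mul_assoc (f b)⁻¹, ← this]; group
  have t1 : ⁅⁅V, B⁆, E⁆ = ⊥ := comm_eq_bot.2 (cent_symm (cE _ DVB VB))
  have t2 : ⁅⁅B, E⁆, V⁆ = ⊥ := comm_eq_bot.2 ((mb _).1 (by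
    rw [map_commutator, mB, mE]
    exact comm_eq_bot.2 (cent_symm (H16.comm_le inf_le_right (comm_cent ab le_rfl hB')))))
  have t3 : ⁅⁅E, V⁆, B⁆ = ⊥ := commutator_commutator_eq_bot_of_rotate t1 t2
  have UV : ⁅E, V⁆ ≤ V := H16.comm_le_right (nV _)
  obtain ⟨v, hv, vn⟩ : ∃ v ∈ ⁅E, V⁆, v ∉ C[S] := by
    by_contra hc
    push Not at hc
    have q := cE _ (norm_comm (normalizer_commutator_ge_left _ _) (nV _)) hc
    refine hE (mE ▸ (mb E).2 fun e he => ?_)
    have e1 : e ^ p ∈ C[V] := mem_cent.2 fun w hw => (commutatorElement_eq_one_iff_mul_comm.1 (by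
      have m := commutator_mem_commutator he hw
      rw [H9.commutator_pow_left (mem_cent.1 (q he) _ m).symm]
      exact hV.2 _ (UV m))).symm
    have e2 : f e ∈ K := by
      have : f e ∈ ⁅K ⊓ C[B'], S.map f⁆ := mE ▸ mem_map_of_mem f he
      exact ((commutator_mono inf_le_left le_rfl).trans (commutator_le_left _ _)) this
    have e3 : e ^ Nat.card K ∈ C[V] := (ker _).1 (by
      rw [map_pow]; exact congrArg Subtype.val (pow_card_eq_one' (x := (⟨f e, e2⟩ : K))))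
    exact H9.mem_of_pow_mem_of_coprime e3 e1 cK
  have vS := VS (UV hv)
  have : S ⊓ C[S] ≤ zpowers ⁅v, a⁆ := fun z hz => by
    obtain ⟨x, hx, rfl⟩ := h.full v vS vn z hz.1 hz.2
    have m : f x ∈ B' ⊔ zpowers (f a) := eB ▸ mem_map_of_mem f hx
    obtain ⟨n, hn', k, ek⟩ := (H9.mem_sup_zpowers_nat (comm_norm ab le_rfl hB' (mem_map_of_mem f ha))).1 m
    have hb : x * (a ^ k)⁻¹ ∈ B := mem_inf.2 ⟨mul_mem hx (inv_mem (pow_mem ha k)), by
      rw [mem_comap, map_mul, map_inv, map_pow, ek]; simpa using hn'⟩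
    have e : x = x * (a ^ k)⁻¹ * a ^ k := by group
    rw [e, H9.commutator_mul_right_of_commute (mem_cent.1 (h.der v vS _ (pow_mem ha k)) _ hb.1),
      commutatorElement_eq_one_iff_mul_comm.2 (mem_cent.1 (comm_eq_bot.1 t3 hv) _ hb).symm, one_mul,
      H9.commutator_pow_right (mem_cent.1 (h.der v vS a ha) a ha)]
    exact pow_mem (mem_zpowers _) k
  refine (card_le this).trans ?_
  rw [H16.card_zpowers]
  exact Nat.le_of_dvd hp.out.pos (orderOf_dvd_of_pow_eq_one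
    (h.exp _ (der_le S (commutator_mem_commutator vS ha)) (h.der v vS a ha)))

theorem core (hG : IsPSolvable p G) (h0 : pPrimeCore p G = ⊥) (P : Sylow p G)
    (h : IsMulCommutative (P : Subgroup G) ∨ SE p (P : Subgroup G)) : (P : Subgroup G) ≤ pCore p G := by
  have hc := H1.IsPSolvable.centralizer_pCore_le hG h0
  have TS := H1.pCore_le_sylow P
  rcases h with h | h
  · exact (comm_cent h le_rfl TS).trans hc
  have sS := sy_top_of_sylow P
  have hV := H4.elemAb_zV hc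
  have VT : H4.zV p G ≤ pCore p G := (H4.zV_le_omega hc).trans ((om_le _ _).trans inf_le_left)
  have eo : ∀ Q : Sylow p G, ∃ g, (Q : Subgroup G) = (P : Subgroup G) :^ g ∧
      Om[p] ((Q : Subgroup G) ⊓ C[(Q : Subgroup G)]) = ((P : Subgroup G) ⊓ C[(P : Subgroup G)]) :^ g := by
    intro Q
    obtain ⟨g, -, e⟩ := sy_conj sS (sy_top_of_sylow Q)
    refine ⟨g, e.symm, ?_⟩
    rw [← e, cent_cj, ← cj_inf, ← om_cj, om_of_ea ⟨comm_center _, fun z hz => h.exp z hz.1 hz.2⟩]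
  have ZV : (P : Subgroup G) ⊓ C[(P : Subgroup G)] ≤ H4.zV p G :=
    (le_om ⟨comm_center _, fun z hz => h.exp z hz.1 hz.2⟩ le_rfl).trans (H4.le_zV P)
  have hz := H4.pCore_quotient_zV (G := G) (p := p)
  have hst := fun h5 => (Cfsg.Agent.S0625.result h5 hG).1 _ hV
  set V := H4.zV p G with hVd
  set S := (P : Subgroup G)
  set Z := S ⊓ C[S] with hZ
  have SS : ⁅S, S⁆ ≤ Z := commutator_le.2 fun x hx y hy =>
    mem_inf.2 ⟨der_le S (commutator_mem_commutator hx hy), h.der x hx y hy⟩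
  have VS := VT.trans TS
  by_cases hn : S ≤ C[V]
  · have e : Z = V := le_antisymm ZV (le_inf VS (cent_symm hn))
    exact le_core_of_normal hc (Z := V) (e ▸ (commutator_mono le_rfl TS).trans SS) hn
  exfalso
  by_cases h5 : 5 ≤ p
  · refine hn fun a ha => (QuotientGroup.eq_one_iff a).1 ?_
    have := hst h5 a (comm_eq_bot.2 ((commutator_mono VS (zpowers_le.2 ha)).trans (SS.trans
      (inf_le_right.trans (cent_anti (zpowers_le.2 ha))))))
    rwa [hz] at this
  have h3 : p ≤ 3 := by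
    by_contra h4
    have : p = 4 := by omega
    exact absurd hp.out (by rw [this]; norm_num)
  have c1 := card_Z hG P.isPGroup' h hV VS ZV hz hn
  have cZ : Nat.card Z = p := by
    obtain ⟨k, ek⟩ := IsPGroup.iff_card.1 (P.isPGroup'.to_le (inf_le_left : Z ≤ S))
    have : Z ≠ ⊥ := pg_inf_cent_ne_bot hp.out (hl_pi sS) (hl_pi sS) (le_norm _)
      (by intro e; exact hn (e ▸ bot_le))
    rcases k with _ | k
    · exact absurd (eq_bot_of_card_eq _ ek) this
    · exact le_antisymm c1 (ek ▸ Nat.le_self_pow (by omega) p)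
  obtain ⟨g, hg⟩ : ∃ g, ¬ Z :^ g ≤ Z ∧ Z :^ g ≤ V := by
    by_contra hcon
    push Not at hcon
    refine hn (cent_symm (le_trans ?_ (inf_le_right : Z ≤ C[S])))
    refine iSup_le fun Q => ?_
    obtain ⟨g, -, e⟩ := eo Q
    rw [e]
    by_contra hh
    exact hcon g hh (e ▸ H4.le_zV Q)
  obtain ⟨hg, gV⟩ := hg
  have pZ2 : (Nat.card (Z :^ g)).Prime := by rw [card_cj, cZ]; exact hp.out
  have ZZ : Z :^ g ⊓ Z = ⊥ := inf_bot_of_prime pZ2 hg
  obtain ⟨w, hw, wn⟩ := SetLike.not_le_iff_exists.1 hg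
  have w1 : w ≠ 1 := by rintro rfl; exact wn (one_mem _)
  have nV : ∀ U : Subgroup G, U ≤ N[V] := fun U => le_normalizer_of_normal.trans' le_top
  set Y := Z ⊔ Z :^ g
  have YV : Y ≤ V := sup_le ZV gV
  have n1 : S ≤ N[Y] := norm_of_comm_le (((commutator_mono (YV.trans VS) le_rfl).trans SS).trans le_sup_left)
  have n2 : S :^ g ≤ N[Y] := norm_of_comm_le (le_trans (commutator_mono (YV.trans
    ((cj_norm (nV ⊤ trivial)).symm.le.trans (cj_mono g VS))) le_rfl)
    (by rw [← cj_comm]; exact (cj_mono g SS).trans le_sup_right))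
  have s1 : Sy[p] (S ⊓ C[Y]) C[Y] := hl_inf sS le_top (norm_cent n1)
  have s2 : Sy[p] (S :^ g ⊓ C[Y]) C[Y] := hl_inf (hl_cj_top sS g) le_top (norm_cent n2)
  obtain ⟨c, hcY, ec⟩ := sy_conj s1 s2
  have d1 : ⁅S ⊓ C[Y], S ⊓ C[Y]⁆ ≤ Z := (der_mono inf_le_left).trans SS
  have d2 : ⁅S ⊓ C[Y], S ⊓ C[Y]⁆ ≤ Z :^ g := by
    rw [← cj_cent (cent_anti (d1.trans le_sup_left) hcY), cj_comm, ec]
    exact (der_mono inf_le_left).trans (by rw [← cj_comm]; exact cj_mono g SS)
  have ab := comm_iff.1 (der_eq_bot.1 (eq_bot_iff.2 (ZZ ▸ le_inf d2 d1)))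
  have mR : ∀ x ∈ S, x * w = w * x → x ∈ S ⊓ C[Y] := fun x hx e => mem_inf.2 ⟨hx, by
    rw [cent_sup, ← cent1_eq_of_prime pZ2 hw w1]
    exact mem_inf.2 ⟨cent_symm inf_le_right hx, mem_cent1.2 e⟩⟩
  exact h.fin h3 cZ w (VS (gV hw)) (fun hh => wn (mem_inf.2 ⟨VS (gV hw), hh⟩)) (hV.2 w (gV hw))
    fun x hx y hy e1 e2 => mem_cent.1 (ab (mR y hy e2)) x (mR x hx e1)

theorem main (hG : IsPSolvable p G) (P : Sylow p G)
    (h : IsMulCommutative (P : Subgroup G) ∨ SE p (P : Subgroup G)) : PLengthLE p 1 G := by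
  rw [← H1.pLengthLE_quotient_pPrimeCore_iff]
  obtain ⟨e⟩ := H6.sylow_equiv_map_mk P (pPrimeCore p G) (H1.coprime_card_pPrimeCore p)
  have := core (H1.IsPSolvable.quotient hG _) (H1.pPrimeCore_quotient_pPrimeCore p) _
    (h.imp (fun h => ⟨⟨fun a b => e.symm.injective (by
      rw [map_mul, map_mul]; exact h.is_comm.comm _ _)⟩⟩) fun h => h.equiv e.symm)
  refine H9.pLengthLE_one_of_index (Nat.Coprime.coprime_dvd_left (index_dvd_of_le this) ?_)
  exact ((Nat.Prime.coprime_iff_not_dvd hp.out).2 (Sylow.not_dvd_index _)).symm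

end H17.Sm
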