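import Cfsg.Agent.S2796
import Cfsg.Agent.H5.GF
import Cfsg.Agent.H17.Be1
import Cfsg.Agent.S0243
import Cfsg.Agent.S0280

/-! Simple groups of order prime to `3` are Suzuki groups. -/

set_option autoImplicit false

open Cfsg Subgroup H5.Gd
open scoped MatrixGroups

namespace H17.T3

universe u

theorem three_dvd_cube (q : ℕ) : 3 ∣ (q ^ 2 - 1) * q := by
  rcases Nat.eq_zero_or_pos q with rfl | h
  · simp
  obtain ⟨r, rfl⟩ : ∃ r, q = r + 1 := ⟨q - 1, by omega⟩
  rw [show (r + 1) ^ 2 - 1 = r * (r + 2) by rw [Nat.sub_eq_of_eq_add]; ring]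
  have : r % 3 = 0 ∨ r % 3 = 1 ∨ r % 3 = 2 := by omega
  apply Nat.dvd_of_mod_eq_zero
  rcases this with e | e | e <;> simp [Nat.mul_mod, Nat.add_mod, e]

theorem three_dvd_psl2 (F : Type*) [Field F] [Fintype F] : 3 ∣ Nat.card PSL(2, F) := by
  have h := Agent.S0243.result (F := F) rfl 2 le_rfl
  have h1 : 1 < Fintype.card F := Fintype.one_lt_card
  set q := Fintype.card F
  rw [Fin.prod_univ_two] at h
  simp only [Fin.val_zero, Fin.val_one, pow_zero, pow_one] at h
  have e : q ^ 2 - q = q * (q - 1) := by rw [Nat.mul_sub, mul_one, sq]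
  rw [e, mul_left_comm, ← mul_assoc (q ^ 2 - 1), mul_comm _ (q - 1)] at h
  have h2 := Nat.eq_of_mul_eq_mul_left (by omega) h
  have h3 := three_dvd_cube q
  rw [← h2] at h3
  refine (Nat.Coprime.dvd_mul_left ?_).1 h3
  exact Nat.Coprime.coprime_dvd_right (Nat.gcd_dvd_left _ _) (by norm_num)

theorem three_dvd_psu3 {F : Type*} [Field F] [Fintype F] {q : ℕ} (hF : Fintype.card F = q ^ 2) :
    3 ∣ Nat.card (PSU 3 F q) := by
  have h := Agent.S0280.result hF 3 (by norm_num)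
  simp only [Finset.prod_range_succ, Finset.prod_range_zero] at h
  norm_num at h
  rw [mul_left_comm, mul_assoc (q + 1), mul_left_comm (q ^ 3)] at h
  have h2 := Nat.eq_of_mul_eq_mul_left (by omega) h
  by_cases h3 : 3 ∣ q + 1
  · rw [Nat.gcd_eq_left h3] at h2
    have a : 3 ∣ q ^ 2 - 1 := h3.trans (by
      rcases Nat.eq_zero_or_pos q with rfl | h
      · simp
      · exact ⟨q - 1, by simpa using Nat.sq_sub_sq q 1⟩)
    have b : 3 ∣ q ^ 3 + 1 := h3.trans (by simpa using Odd.nat_add_dvd_pow_add_pow q 1 (by decide : Odd 3))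
    have c : 3 * 3 ∣ 3 * Nat.card (PSU 3 F q) := h2 ▸ (mul_dvd_mul a b).mul_left _
    exact Nat.dvd_of_mul_dvd_mul_left (by norm_num) c
  · rw [(Nat.Prime.coprime_iff_not_dvd Nat.prime_three).2 h3, one_mul] at h2
    rw [h2]
    obtain ⟨k, hk⟩ := three_dvd_cube q
    exact ⟨k * q ^ 2 * (q ^ 3 + 1), by
      calc _ = (q ^ 2 - 1) * q * q ^ 2 * (q ^ 3 + 1) := by ring
        _ = _ := by rw [hk]; ring⟩

theorem TD.three {X : Type u} [Group X] (h : TD X) : 3 ∣ Nat.card X := by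
  obtain ⟨-, F, _, _, -, -, ⟨e⟩⟩ := h
  rw [Nat.card_congr e.toEquiv]
  exact three_dvd_psl2 F

theorem card_sec_dvd {G : Type*} [Group G] (K : Subgroup G) (N : Subgroup K) :
    Nat.card (K ⧸ N) ∣ Nat.card G :=
  (card_quotient_dvd_card N).trans (card_subgroup_dvd_card K)

theorem card_lt_of_char2 {Y : Type*} [Group Y] [Finite Y]
    (hC : centralizer (pCore 2 Y : Set Y) ≤ pCore 2 Y) (H : Subgroup Y) (N : Subgroup H) [N.Normal]
    (hs : IsSimpleGroup (H ⧸ N)) (hn : ¬ IsMulCommutative (H ⧸ N)) : Nat.card (H ⧸ N) < Nat.card Y := by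
  refine lt_of_le_of_ne (Nat.le_of_dvd Nat.card_pos (card_sec_dvd H N)) fun e => ?_
  have h1 : Nat.card (H ⧸ N) ≤ Nat.card H := Nat.le_of_dvd Nat.card_pos (card_quotient_dvd_card N)
  have h2 : Nat.card H ≤ Nat.card Y := Nat.le_of_dvd Nat.card_pos (card_subgroup_dvd_card H)
  have hH : H = ⊤ := eq_top_of_card_eq H (by omega)
  subst hH
  let f : Y →* (⊤ : Subgroup Y) ⧸ N := (QuotientGroup.mk' N).comp topEquiv.symm.toMonoidHom
  have hf : Function.Surjective f := (QuotientGroup.mk'_surjective N).comp topEquiv.symm.surjective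
  have hb : Function.Bijective f := (Nat.bijective_iff_surjective_and_card f).2 ⟨hf, e.symm⟩
  let φ := MulEquiv.ofBijective f hb
  have hY : IsSimpleGroup Y := φ.isSimpleGroup
  have hn' : ¬ IsMulCommutative Y := fun h => hn ⟨⟨fun a b => by
    obtain ⟨a, rfl⟩ := hf a
    obtain ⟨b, rfl⟩ := hf b
    rw [← map_mul, ← map_mul, h.1.1 a b]⟩⟩
  have : Fact (Nat.Prime 2) := ⟨Nat.prime_two⟩
  rcases hY.eq_bot_or_eq_top_of_normal (pCore 2 Y) inferInstance with e1 | e1
  · rw [e1] at hC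
    exact hn' ⟨⟨fun a b => by
      have : a ∈ (⊥ : Subgroup Y) := hC fun x hx => by simp [show x = 1 from hx]
      simp [mem_bot.1 this]⟩⟩
  · have hp : IsPGroup 2 Y := (H1.isPGroup_pCore (p := 2) (G := Y)).of_equiv
      ((MulEquiv.subgroupCongr e1).trans topEquiv)
    have := hp.isNilpotent
    exact hn' (IsSimpleGroup.comm_iff_isSolvable.2 inferInstance |> fun h => ⟨⟨h⟩⟩)

theorem sz_aux (n : ℕ) : ∀ (G : Type u) [Group G] [Finite G], Nat.card G = n → IsSimpleGroup G →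
    ¬ IsMulCommutative G → ¬ 3 ∣ Nat.card G → Lie.IsoSuzuki G := by
  induction n using Nat.strong_induction_on with
  | _ n ih =>
  intro G _ _ hc hs hn h3
  have : Fact (Nat.Prime 2) := ⟨Nat.prime_two⟩
  obtain ⟨S⟩ : Nonempty (Sylow 2 G) := inferInstance
  obtain ⟨h1, h2, h4, -⟩ := Agent.S2796.result (G := G) (by
    rintro ⟨K, R, _, ⟨e⟩⟩
    refine h3 (Dvd.dvd.trans ?_ (card_sec_dvd K (R.subgroupOf K)))
    rw [Nat.card_congr e.toEquiv, Nat.card_perm]
    simp [Nat.factorial]) (fun K R _ hC H _ N _ a b => Or.inl (ih _ (by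
      have := card_lt_of_char2 hC H N a b
      have := Nat.le_of_dvd Nat.card_pos (card_sec_dvd K (R.subgroupOf K))
      omega) _ rfl a b fun d => h3 (d.trans ((card_sec_dvd H N).trans (card_sec_dvd K _))))) S _ rfl _ rfl
  have hS : (S : Subgroup G) ≠ ⊥ := fun e => by
    have h5 := S.not_dvd_index
    rw [e, index_bot] at h5
    have := H6.isSolvable_of_odd_card (H := (⊤ : Subgroup G))
      (by rw [card_top]; exact Nat.odd_iff.2 (by omega))
    have : Group.IsSolvable G := Group.isSolvable_of_surjective (f := (⊤ : Subgroup G).subtype) fun x => ⟨⟨x, trivial⟩, rfl⟩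
    exact hn ⟨⟨IsSimpleGroup.comm_iff_isSolvable.2 this⟩⟩
  erw [H10.ZO_def, H10.ncl_eq_map ((H10.ZO_le_JT _).trans (H10.le_NN_self _))] at h1 h2 h4
  have hA := sc_of_sylow (H10.isSylowIn_top S) h1 h2 fun a ha g _ hg => h4.2 a ha g hg
  obtain ⟨-, h | h | h⟩ := thmS G hs hn _ (fun e => H10.ZO_ne_bot S.isPGroup' hS
    (eq_bot_iff.2 (e ▸ H10.le_ncl _ _))) hA
  · obtain ⟨⟨M, hM⟩, -⟩ := h
    rcases (Be.bender_simple hM hn).1 with ⟨F, _, _, m, -, -, ⟨e⟩⟩ | h | ⟨F, _, _, m, -, hF, ⟨e⟩⟩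
    · exact (h3 (Nat.card_congr e.toEquiv ▸ three_dvd_psl2 F)).elim
    · exact h
    · exact (h3 (Nat.card_congr e.toEquiv ▸ three_dvd_psu3 hF)).elim
  · exact (h3 (TD.three h)).elim
  · obtain ⟨V, -, hV, h8, -, h⟩ := h
    obtain ⟨t, ht⟩ := exists_prime_orderOf_dvd_card' (G := G) 2
      (Dvd.dvd.trans (by rw [h8]; norm_num) (card_subgroup_dvd_card V))
    obtain ⟨E, L, -, -, -, -, -, h⟩ := h t ht
    exact (h3 ((TD.three h).trans (card_subgroup_dvd_card L))).elim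

/-- A nonabelian simple group of order prime to `3` is a Suzuki group. -/
theorem isoSuzuki {G : Type u} [Group G] [Finite G] (hs : IsSimpleGroup G) (hn : ¬ IsMulCommutative G)
    (h3 : ¬ 3 ∣ Nat.card G) : Lie.IsoSuzuki G := sz_aux _ G rfl hs hn h3

end H17.T3
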