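import Cfsg.Agent.H17.T3b
import Cfsg.Agent.H5.Std
import Cfsg.Agent.H15.TB
import Cfsg.Agent.H2.BG34

/-! Groups of order prime to `3` with an automorphism of order `3` fixing no involution. -/

set_option autoImplicit false
set_option linter.unusedSectionVars false

open Cfsg Subgroup H1 H16 H5
open scoped commutatorElement

namespace H17.T3

universe u

variable {X : Type u} [Group X] [Finite X] {K L A : Subgroup X} {s t : X}

/-- a `p`-group stabilizing a class of a `p'`-group fixes an element of it -/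
theorem fix_of_class {p : ℕ} (hp : p.Prime) (hA : Pg[p] A) (hn : A ≤ N[L]) (hL : ¬ p ∣ Nat.card L)
    (h : ∀ a ∈ A, ∃ l ∈ L, a * t * a⁻¹ = l * t * l⁻¹) : ∃ g ∈ L ⊔ A, g * t * g⁻¹ ∈ C[A] := by
  have := Fact.mk hp
  have h1 : L ⊔ ((L ⊔ A) ⊓ C1[t]) = L ⊔ A := le_antisymm (sup_le le_sup_left inf_le_left)
    (sup_le le_sup_left fun a ha => by
      obtain ⟨l, hl, e⟩ := h a ha
      rw [← mul_inv_cancel_left l a]
      refine mul_mem_sup hl (mem_inf.2 ⟨mul_mem (inv_mem (mem_sup_left hl)) (mem_sup_right ha), mem_cent1.2 ?_⟩)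
      calc _ = l⁻¹ * (a * t * a⁻¹) * a := by group
        _ = _ := by rw [e]; group)
  obtain ⟨P, hP⟩ := sy_exists p ((L ⊔ A) ⊓ C1[t])
  obtain ⟨g, hg, h2⟩ := sy_le_conj (hl_of_idx hP inf_le_left (by
    have := relIndex_sup_r (H := (L ⊔ A) ⊓ C1[t]) (Or.inl (inf_le_left.trans (sup_le (le_norm L) hn)))
    rw [h1] at this
    rw [this, isPiNat_compl_singleton_iff hp]
    exact ((Nat.Prime.coprime_iff_not_dvd hp).2 fun e => hL (e.trans (relIndex_dvd_card _ _))).symm))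
    le_sup_right hA
  refine ⟨g, hg, le_cent1.1 ?_⟩
  rw [cent1_cj]
  exact h2.trans (cj_mono g (hP.1.trans inf_le_right))

theorem exists_invol (hs : IsSimpleGroup L) (hn : ¬ IsMulCommutative L) (h3 : ¬ 3 ∣ Nat.card L) :
    ∃ t ∈ L, t ≠ 1 ∧ t * t = 1 ∧ ∀ u ∈ L, u ≠ 1 → u * u = 1 → ∃ l ∈ L, u = l * t * l⁻¹ := by
  obtain ⟨F, _, _, m, ⟨M⟩⟩ := exists_model (isoSuzuki hs hn h3)
  refine ⟨(M.u 0 1 : L), SetLike.coe_mem _, by simp [M.u_eq_one_iff], congrArg Subtype.val (M.u_zero_sq 1),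
    fun u hu h1 h2 => ?_⟩
  obtain ⟨k, e⟩ := M.exists_conj_u_zero_one (x := ⟨u, hu⟩) (Subtype.ext h2) fun e => h1 (congrArg Subtype.val e)
  exact ⟨k, k.2, congrArg Subtype.val e⟩

structure Th (K : Subgroup X) (s : X) : Prop where
  n : s ∈ N[K]
  p : s ^ 3 = 1
  t : ¬ 3 ∣ Nat.card K
  o : Odd (Nat.card (K ⊓ C[zpowers s] : Subgroup X))

theorem pg_three (h : s ^ 3 = 1) : Pg[3] (zpowers s) := fun q hq hd =>
  (Nat.prime_dvd_prime_iff_eq hq Nat.prime_three).1
    (hd.trans (by rw [card_zpowers]; exact orderOf_dvd_of_pow_eq_one h))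

theorem Th.cop (h : Th K s) (hL : L ≤ K) : (Nat.card (zpowers s)).Coprime (Nat.card L) :=
  IsPiNat.coprime (pg_three h.p) ((isPiNat_compl_singleton_iff Nat.prime_three).2
    ((Nat.Prime.coprime_iff_not_dvd Nat.prime_three).2 fun e => h.t (e.trans (card_dvd hL))).symm)

theorem sol_zp (s : X) : Group.IsSolvable (zpowers s) := sol_of_comm (comm_of_cyclic (cyclic_zpowers s))

theorem Th.map (h : Th K s) {Y : Type u} [Group Y] [Finite Y] (f : X →* Y) : Th (K.map f) (f s) where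
  n := le_normalizer_map f ⟨s, h.n, rfl⟩
  p := by rw [← map_pow, h.p, map_one]
  t e := h.t (e.trans (card_map_dvd _ _))
  o := by
    rw [← MonoidHom.map_zpowers, ← map_inf_centralizer_of_coprime f (zpowers_le.2 h.n) (h.cop le_rfl)
      (Or.inl (sol_zp s))]
    exact h.o.of_dvd_nat (card_map_dvd _ _)

theorem Th.eq_one (h : Th K s) (ht : t ∈ K) (h2 : t * t = 1) (hc : t ∈ C[zpowers s]) : t = 1 :=
  H8.eq_one_of_pi (π := {2}) (card_zpowers t ▸ pg_invol h2) ((isPiNat_compl_singleton_iff Nat.prime_two).2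
    (Nat.coprime_two_right.2 (h.o.of_dvd_nat (orderOf_dvd_card (mem_inf.2 ⟨ht, hc⟩)))))

theorem Th.not_comp (h : Th K s) (hL : CompOf L K) (hz : L ⊓ C[L] = ⊥) : False := by
  obtain ⟨a, b⟩ := isSimpleGroup_of_qs hL.qs hz
  have h3 : ¬ 3 ∣ Nat.card L := fun e => h.t (e.trans (card_dvd hL.le))
  obtain ⟨t, h1, h2, h4, h5⟩ := exists_invol a b h3
  have sq : ∀ g : X, g * t * g⁻¹ * (g * t * g⁻¹) = 1 := fun g => by
    calc _ = g * (t * t) * g⁻¹ := by group
      _ = 1 := by rw [h4]; group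
  by_cases hn : s ∈ N[L]
  · have hn' := zpowers_le.2 hn
    obtain ⟨g, hg, e⟩ := fix_of_class (t := t) Nat.prime_three (pg_three h.p) hn' h3 fun x hx =>
      h5 _ (conj_mem (hn' hx) h1) (by rwa [Ne, H16.conj_eq_one_iff]) (sq x)
    exact h2 (H16.conj_eq_one_iff.1 (h.eq_one (hL.le (conj_mem (sup_le (le_norm L) hn' hg) h1)) (sq g) e))
  have e3 : s * s * s = 1 := by rw [← h.p, pow_three']
  have c1 := hL.cj_of_mem h.n
  have c2 := hL.cj_of_mem (mul_mem h.n h.n)
  have n1 : L ≠ H5.cj s L := fun e => hn (H5.cj_eq_self_iff.1 e.symm)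
  have n2 : L ≠ H5.cj (s * s) L := fun e => hn (by
    have := H5.cj_eq_self_iff.1 e.symm
    have := mul_mem this this
    rwa [← mul_assoc, e3, one_mul] at this)
  have n3 : H5.cj s L ≠ H5.cj (s * s) L := fun e => n1 (H5.cj_injective s (by rwa [← H5.cj_mul]))
  have m1 : s * t * s⁻¹ ∈ H5.cj s L := conj_mem_cj h1
  have m2 : s * s * t * (s * s)⁻¹ ∈ H5.cj (s * s) L := conj_mem_cj h1
  have k1 := commutator_eq_bot_iff'.1 (hL.commutator_eq_bot c1 n1) m1
  have k2 := commutator_eq_bot_iff'.1 (hL.commutator_eq_bot c2 n2) m2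
  have k3 := commutator_eq_bot_iff'.1 (c1.commutator_eq_bot c2 n3) m2 _ m1
  have s1 := sq s
  have s2 := sq (s * s)
  have e4 : s * (s * s * t * (s * s)⁻¹) * s⁻¹ = t := by
    calc _ = (s * s * s) * t * (s * s * s)⁻¹ := by group
      _ = _ := by rw [e3]; group
  have e5 : s * (s * t * s⁻¹) * s⁻¹ = s * s * t * (s * s)⁻¹ := by group
  have mK1 := c1.le m1
  have mK2 := c2.le m2
  generalize s * s * t * (s * s)⁻¹ = t₂ at *
  obtain ⟨t₁, e7⟩ : ∃ t₁, s * t * s⁻¹ = t₁ := ⟨_, rfl⟩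
  rw [e7] at k1 k3 s1 e5 mK1
  have := h.eq_one (t := t * (t₁ * t₂)) (mul_mem (hL.le h1) (mul_mem mK1 mK2)) (by
    calc _ = t * ((t₁ * t₂) * t) * (t₁ * t₂) := by group
      _ = t * t * (t₁ * (t₂ * t₁) * t₂) := by rw [← mul_mem k1 k2 t h1]; group
      _ = _ := by rw [← k3, h4, one_mul, ← mul_assoc, s1, one_mul, s2]) (by
    rw [cent_zpowers, mem_cent1, eq_comm, ← mul_inv_eq_iff_eq_mul]
    calc _ = (s * t * s⁻¹) * (s * t₁ * s⁻¹) * (s * t₂ * s⁻¹) := by group
      _ = _ := by rw [e7, e5, e4, mul_mem k1 k2 t h1])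
  exact h2 (eq_one_of_mem_bot hz (mem_inf.2 ⟨h1, by
    rw [eq_inv_of_mul_eq_one_left this]; exact inv_mem (mul_mem k1 k2)⟩))

theorem Th.solv (n : ℕ) : ∀ (X : Type u) [Group X] [Finite X] (K : Subgroup X) [K.Normal] (s : X),
    Nat.card K = n → Th K s → Group.IsSolvable K := by
  induction n using Nat.strong_induction_on with
  | _ n ih =>
  intro X _ _ K _ s hc h
  by_cases hF : fitOf K = ⊥
  · by_cases h0 : K = ⊥
    · rw [h0]; infer_instance
    obtain ⟨L, hL, -⟩ := exists_compOf_le (SN.refl K) (by rw [hF, inf_bot_eq]; exact bot_le)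
      (by rwa [hF, le_bot_iff])
    exact (h.not_comp hL (eq_bot_of_le hF hL.sn.zOf_le_fitOf)).elim
  have : (fitOf K).Normal := inferInstance
  have e := card_dvd_card_map_mul (QuotientGroup.mk' (fitOf K)) K
  rw [QuotientGroup.ker_mk', inf_of_le_right (fitOf_le K)] at e
  have := Subgroup.Normal.map ‹K.Normal› _ (QuotientGroup.mk'_surjective (fitOf K))
  refine isSolvable_of_map (QuotientGroup.mk' (fitOf K)) (ih _ ?_ _ _ _ rfl (h.map _)) (by
    rw [QuotientGroup.ker_mk', inf_of_le_right (fitOf_le K)]; exact isSolvable_fitOf K)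
  rw [← hc, e]
  exact lt_mul_of_one_lt_right Nat.card_pos ((one_lt_card_iff_ne_bot _).2 hF)

theorem Th.comm_le [K.Normal] (h : Th K s) (hO : oppOf 2 K = ⊥) : ⁅K, zpowers s⁆ ≤ opOf 2 K := by
  have := Fact.mk Nat.prime_two
  have := Fact.mk Nat.prime_three
  have hs := Th.solv _ X K s rfl h
  by_cases h1 : s = 1
  · rw [h1, zpowers_one_eq_bot, commutator_bot_right]; exact bot_le
  have hR : (Nat.card (zpowers s)).Prime := by
    rw [card_zpowers, orderOf_eq_prime h.p h1]; exact Nat.prime_three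
  have hn := zpowers_le.2 h.n
  let f := QuotientGroup.mk' (opOf 2 K)
  have hf : Function.Surjective f := QuotientGroup.mk'_surjective _
  have hk : f.ker = opOf 2 K := QuotientGroup.ker_mk' _
  have h' := h.map f
  have := Subgroup.Normal.map ‹K.Normal› _ hf
  have hQ : IsPGroup 2 (opOf 2 K) := (isPGroup_pCore 2).map _
  have h2 : opOf 2 (K.map f) = ⊥ := by
    rw [← map_opOf_of_isPGroup_ker f 2 K (by rw [hk]; exact hQ.to_inf_right), Subgroup.map_eq_bot_iff, hk]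
  have h3 : Pi[{2}ᶜ] (fitOf (K.map f)) := (isPiNat_compl_singleton_iff Nat.prime_two).2
    (coprime_of_le (coprime_card_oppOf 2 _) ((fitOf_le_opOf_sup_oppOf 2 _).trans (by rw [h2, bot_sup_eq])))
  have h4 : (fitOf (K.map f)).comap f ≤ K := (comap_mono (fitOf_le _)).trans (by
    rw [comap_map_eq, hk, sup_of_le_left (opOf_le 2 K)])
  obtain ⟨H, h5, h6⟩ := hl_inv {2}ᶜ (sol_of_le hs h4) (A := zpowers s) le_normalizer_of_normal (h.cop h4)
  have h7 := hl_eq_self (map_comap_eq_self_of_surjective hf (fitOf (K.map f)) ▸ H1.IsPiHallOf.map h5 f) h3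
  have h8 := H2.bg3_4' (V := opOf 2 K) h6 hR (h.cop (h5.1.trans h4)).symm
    (Nat.coprime_two_right.1 ((isPiNat_compl_singleton_iff Nat.prime_two).1 (hl_pi h5)))
    (sol_of_le hs (opOf_le 2 K)) le_normalizer_of_normal le_normalizer_of_normal
    (IsPiNat.coprime (pg_iff.2 hQ) (hl_pi h5)) (h.cop (opOf_le 2 K)).symm (by
      rw [← inf_eq_bot_of_isPGroup_of_coprime (p := 2) hQ (Nat.coprime_two_right.2 h.o), ← inf_assoc,
        inf_of_le_left (opOf_le 2 K)])
  have h9 : ⁅H, zpowers s⁆ ≤ f.ker := by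
    rw [hk, ← fitOf_eq_opOf hO]
    exact (le_inf ((comm_le_left h6).trans (h5.1.trans h4)) (by rwa [fitOf_eq_opOf hO])).trans
      (inf_centralizer_fitOf_le_of_solvable hs)
  rw [← Subgroup.map_eq_bot_iff, map_commutator, h7, MonoidHom.map_zpowers] at h9
  have h10 := H15.cent_of_cent_fitting (isSolvable_map f hs) (zpowers_le.2 h'.n) (h'.cop le_rfl)
    (commutator_eq_bot_iff'.1 h9)
  rwa [← commutator_eq_bot_iff', ← MonoidHom.map_zpowers, ← map_commutator, Subgroup.map_eq_bot_iff, hk] at h10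

theorem Th.pow_mem [K.Normal] (h : Th K s) {x : X} (hx : x ∈ ⁅K, zpowers s⁆) : ∃ k, x ^ 2 ^ k ∈ oppOf 2 K := by
  let f := QuotientGroup.mk' (oppOf 2 K)
  have hk : f.ker = oppOf 2 K := QuotientGroup.ker_mk' _
  have := Subgroup.Normal.map ‹K.Normal› _ (QuotientGroup.mk'_surjective (oppOf 2 K))
  have h1 := (h.map f).comm_le (by
    rw [← map_oppOf_of_coprime_ker f 2 K (by rw [hk]; exact coprime_of_le (coprime_card_oppOf 2 K) inf_le_right),
      Subgroup.map_eq_bot_iff, hk])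
  rw [← MonoidHom.map_zpowers, ← map_commutator] at h1
  obtain ⟨k, e⟩ := ((isPGroup_pCore 2).map _ : IsPGroup 2 (opOf 2 (K.map f))) ⟨_, h1 ⟨x, hx, rfl⟩⟩
  exact ⟨k, hk ▸ (by simpa using congrArg Subtype.val e : f (x ^ 2 ^ k) = 1)⟩

end H17.T3
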