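import Cfsg.Agent.H17.T3c
import Cfsg.Agent.H26.SzAut
import Cfsg.Agent.H26.SzSub2
import Cfsg.Agent.H26.SzMult
import Cfsg.Agent.H5.Balance3

/-! Automorphisms of order `3` of Suzuki groups. -/

set_option autoImplicit false
set_option linter.unusedSectionVars false

open Cfsg Subgroup H1 H16 H5 H26
open scoped commutatorElement

namespace H17.T3

universe u

variable {X : Type u} [Group X] {F : Type*} [Field F] [Fintype F] {m : ℕ}

/-- field automorphisms as a homomorphism -/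
noncomputable def fa (M : SzModel X F m) : (F ≃+* F) →* MulAut X :=
  MonoidHom.mk' M.fieldAut fun τ τ' => MulEquiv.toMonoidHom_injective (M.hom_ext
    (fun a b => by simp [M.fieldAut_u]) (fun s => by
      simp only [MulEquiv.coe_toMonoidHom, MulAut.mul_apply, M.fieldAut_h]; rfl)
    (by simp [M.fieldAut_w]))

theorem fa_apply (M : SzModel X F m) (τ : F ≃+* F) : fa M τ = M.fieldAut τ := rfl

theorem fa_inj (M : SzModel X F m) : Function.Injective (fa M) := fun τ τ' h =>
  M.fieldAut_inj (g := 1) (by rw [map_one, mul_one]; exact h.symm)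

theorem inn_sup (M : SzModel X F m) : (MulAut.conj : X →* MulAut X).range ⊔ (fa M).range = ⊤ := by
  rw [eq_top_iff]
  intro α _
  obtain ⟨g, τ, rfl⟩ := M.exists_aut_eq α
  exact mul_mem_sup ⟨g, rfl⟩ ⟨τ, rfl⟩

theorem aut_conj (M : SzModel X F m) {p : ℕ} (hp : p.Prime) (hd : ¬ p ∣ Nat.card X) {α : MulAut X}
    (h : α ^ p = 1) : ∃ β τ, τ ^ p = 1 ∧ α = β * fa M τ * β⁻¹ := by
  have := M.finite
  have := Fact.mk hp
  obtain ⟨P, hP⟩ := sy_exists p (fa M).range
  obtain ⟨g, -, h2⟩ := sy_le_conj (U := zpowers α) (hl_of_idx hP le_top (by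
    have := relIndex_sup_r (H := (fa M).range) (K := (MulAut.conj : X →* MulAut X).range)
      (Or.inl le_normalizer_of_normal)
    rw [inn_sup] at this
    rw [this, isPiNat_compl_singleton_iff hp]
    exact ((Nat.Prime.coprime_iff_not_dvd hp).2 fun e => hd (e.trans ((relIndex_dvd_card _ _).trans
      (card_range_dvd _)))).symm)) le_top fun q hq e =>
    (Nat.prime_dvd_prime_iff_eq hq hp).1 (e.trans (by rw [card_zpowers]; exact orderOf_dvd_of_pow_eq_one h))
  obtain ⟨τ, e⟩ := hP.1 (H16.mem_cj.1 (h2 (mem_zpowers α)))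
  refine ⟨g, τ, fa_inj M ?_, by rw [e]; group⟩
  rw [map_pow, e, map_one]
  have := conj_pow (a := g⁻¹) (b := α) (i := p)
  rw [inv_inv] at this
  rw [this, h, mul_one, inv_mul_cancel]

theorem card_eight (M : SzModel X F m) {α : MulAut X} (h : α ^ 3 = 1) (hd : ¬ 3 ∣ Nat.card X)
    (hs : Group.IsSolvable ((MulAut.conj : X →* MulAut X).range ⊓ C[zpowers α] : Subgroup _)) :
    Fintype.card F = 8 := by
  have := M.finite
  obtain ⟨β, τ, h1, rfl⟩ := aut_conj M Nat.prime_three hd h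
  let E := FixedPoints.subfield (zpowers τ) F
  have hE : ∀ a ∈ E, τ a = a := fun a ha => ha ⟨τ, mem_zpowers τ⟩
  have h2 : M.sub E ≤ (fa M τ).toMonoidHom.eqLocus (MonoidHom.id X) := M.sub_le
    (fun a ha b hb => by
      change M.fieldAut τ _ = _
      rw [M.fieldAut_u, hE a ha, hE b hb]; rfl)
    (fun s hs => by
      change M.fieldAut τ _ = _
      rw [M.fieldAut_h]
      exact congrArg M.h (Units.ext (hE s hs))) (M.fieldAut_w τ)
  have h3 : Nat.card E ≤ 2 := by
    by_contra hc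
    refine M.not_solvable_sub (not_le.1 hc) (isSolvable_of_map (MulAut.conj.comp β.toMonoidHom)
      (sol_of_le hs ?_) ?_)
    · rintro _ ⟨x, hx, rfl⟩
      refine mem_inf.2 ⟨⟨_, rfl⟩, ?_⟩
      rw [cent_zpowers, mem_cent1]
      ext y
      have : fa M τ x = x := h2 hx
      simp [this]
    · refine sol_of_comm (comm_iff.2 fun x hx => mem_cent.2 fun y _ => β.injective ?_)
      have := DFunLike.congr_fun (MonoidHom.mem_ker.1 (mem_inf.1 hx).2) (β y)
      rw [map_mul, map_mul, eq_comm, ← mul_inv_eq_iff_eq_mul]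
      exact this
  have : Fintype (zpowers τ) := Fintype.ofFinite _
  have h4 := FixedPoints.finrank_le_card (zpowers τ) F
  have h5 : Fintype.card (zpowers τ) ≤ 3 := by
    rw [← Nat.card_eq_fintype_card, card_zpowers]
    exact orderOf_le_of_pow_eq_one (by norm_num) h1
  have h6 := Module.natCard_eq_pow_finrank (K := E) (V := F)
  have h7 := M.eight_le_card
  rw [← Nat.card_eq_fintype_card] at h7 ⊢
  refine le_antisymm ?_ h7
  rw [h6]
  exact (Nat.pow_le_pow_left h3 _).trans (Nat.pow_le_pow_right (by norm_num) (h4.trans h5))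

/-- the Schur multiplier of a Suzuki group has no odd part -/
theorem eq_one_of_stem [Finite X] {Y : Type*} [Group Y] (M : SzModel Y F m) (π : X →* Y)
    (hc : π.ker ≤ center X) (hX : commutator X = ⊤) {z : X} (hz : z ∈ center X) {p : ℕ} (hp : p.Prime)
    (h2 : p ≠ 2) (ho : z ^ p = 1) : z = 1 := by
  have := Fact.mk hp
  have hn : (zpowers z).Normal := ⟨fun a ha g => by
    rwa [mem_center_iff.1 (zpowers_le.2 hz ha) g, mul_inv_cancel_right]⟩
  obtain ⟨P, hP, h1⟩ := sy_exists_ge (U := zpowers z) (p := p) le_top fun q hq e =>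
    (Nat.prime_dvd_prime_iff_eq hq hp).1 (e.trans (by rw [card_zpowers]; exact orderOf_dvd_of_pow_eq_one ho))
  have h3 := M.isCyclic_of_odd_pgroup h2 ((sy_pg hP).map π)
  have h4 : IsMulCommutative P := (π.subgroupMap P).isMulCommutative_of_isCyclic_of_ker_le_center
    fun x hx => mem_center_iff.2 fun y => Subtype.ext (mem_center_iff.1 (hc (congrArg Subtype.val hx)) y)
  have h5 := pow_index_mem_commutator P hz (hX ▸ mem_top z)
  rw [der_eq_bot.2 h4, mem_bot] at h5
  have h6 := sy_not_dvd hP hp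
  rw [relIndex_top_right] at h6
  exact orderOf_eq_one_iff.1 (Nat.eq_one_of_dvd_coprimes ((Nat.Prime.coprime_iff_not_dvd hp).2 h6)
    (orderOf_dvd_of_pow_eq_one ho) (orderOf_dvd_of_pow_eq_one h5))

theorem norm_of_solv [Finite X] {K L : Subgroup X} {s : X} (hL : CompOf L K) (hs : s ∈ N[K]) (h3 : s ^ 3 = 1)
    (h : Group.IsSolvable C1[s]) : s ∈ N[L] := by
  by_contra hn
  have e3 : s * s * s = 1 := by rw [← h3, pow_three']
  have c1 := hL.cj_of_mem hs
  have c2 := hL.cj_of_mem (mul_mem hs hs)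
  have n1 : L ≠ H5.cj s L := fun e => hn (H5.cj_eq_self_iff.1 e.symm)
  have n2 : L ≠ H5.cj (s * s) L := fun e => hn (by
    have := H5.cj_eq_self_iff.1 e.symm
    have := mul_mem this this
    rwa [← mul_assoc, e3, one_mul] at this)
  have n3 : H5.cj s L ≠ H5.cj (s * s) L := fun e => n1 (H5.cj_injective s (by rwa [← H5.cj_mul]))
  have k1 : ∀ t ∈ L, s * t * s⁻¹ ∈ C[L] := fun t ht =>
    commutator_eq_bot_iff'.1 (hL.commutator_eq_bot c1 n1) (conj_mem_cj ht)
  have k2 : ∀ t ∈ L, s * s * t * (s * s)⁻¹ ∈ C[L] := fun t ht =>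
    commutator_eq_bot_iff'.1 (hL.commutator_eq_bot c2 n2) (conj_mem_cj ht)
  have k3 : ∀ t ∈ L, ∀ t' ∈ L, _ := fun t ht t' ht' =>
    commutator_eq_bot_iff'.1 (c1.commutator_eq_bot c2 n3) (conj_mem_cj ht) _ (conj_mem_cj ht')
  let f : L →* X := MonoidHom.mk' (fun t => t * (s * t * s⁻¹ * (s * s * t * (s * s)⁻¹))) fun a b => by
    have e1 := mul_mem (k1 a a.2) (k2 a a.2) b b.2
    have e2 := k3 a a.2 b b.2
    calc _ = a * (b * (s * a * s⁻¹ * (s * b * s⁻¹ * (s * s * a * (s * s)⁻¹)) * (s * s * b * (s * s)⁻¹))) := by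
          simp only [coe_mul]; group
      _ = a * (b * (s * a * s⁻¹ * (s * s * a * (s * s)⁻¹))) * (s * b * s⁻¹ * (s * s * b * (s * s)⁻¹)) := by
          rw [e2]; group
      _ = _ := by rw [e1]; group
  suffices Group.IsSolvable (⊤ : Subgroup L) from
    qs_not_solvable hL.qs (Group.isSolvable_of_surjective (f := (⊤ : Subgroup L).subtype) fun x => ⟨⟨x, trivial⟩, rfl⟩)
  refine isSolvable_of_map f (sol_of_le h ?_) ?_
  · rintro _ ⟨t, -, rfl⟩
    rw [mem_cent1, eq_comm, ← mul_inv_eq_iff_eq_mul]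
    calc _ = (s * t * s⁻¹ * (s * s * t * (s * s)⁻¹)) * (s * s * s * t * (s * s * s)⁻¹) := by
          simp only [f, MonoidHom.mk'_apply]; group
      _ = _ := by rw [e3, one_mul, inv_one, mul_one, ← mul_mem (k1 t t.2) (k2 t t.2) t t.2]; rfl
  · refine sol_of_comm (comm_iff.2 fun x hx => mem_cent.2 fun y _ => Subtype.ext ?_)
    have e : (x : X) * _ = 1 := MonoidHom.mem_ker.1 (mem_inf.1 hx).2
    rw [coe_mul, coe_mul, eq_inv_of_mul_eq_one_left e]
    exact inv_mem (mul_mem (k1 x x.2) (k2 x x.2)) y y.2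

theorem comp_three [Finite X] {K : Subgroup X} (hK : CompOf K ⊤) (h3 : ¬ 3 ∣ Nat.card K) {y : X} (hy : y ^ 3 = 1)
    (hs : Group.IsSolvable C1[y]) :
    (∃ (F : Type) (_ : Field F) (_ : Fintype F), Fintype.card F = 8 ∧ Nonempty (K ⧸ center K ≃* Lie.Sz F 4)) ∧
      y ∈ N[K] ∧ (pCore 2 X = ⊥ → IsSimpleGroup K) := by
  have hn := norm_of_solv hK (by rw [norm_top]; trivial) hy hs
  have hd : ¬ 3 ∣ Nat.card (K ⧸ center K) := fun e => h3 (e.trans (card_quotient_dvd_card _))
  obtain ⟨F, _, _, m, h1, h2, ⟨e⟩⟩ := isoSuzuki hK.qs.2 (by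
    have := hK.qs.1; have := hK.qs.2; exact Group.IsPerfect.not_isMulCommutative _) hd
  let M := (Sz.lieModel h1 h2).ofEquiv e
  refine ⟨?_, hn, fun h0 => (isSimpleGroup_of_qs hK.qs (by
    by_contra hz
    obtain ⟨p, hp, h4⟩ := exists_prime_dvd hz
    obtain ⟨z, h5, h6⟩ := exists_orderOf hp h4
    have h7 : z ≠ 1 := by rintro rfl; exact hp.one_lt.ne (by simpa using h6)
    by_cases h2 : p = 2
    · subst h2
      have := Fact.mk hp
      refine h7 (eq_one_of_mem_bot (H := opOf 2 ⊤) (by rw [opOf_top, h0]) (SN.le_opOf (N := zpowers z)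
        ((SN.of_normal (zpowers_le.2 h5.1) (norm_of_cent' (zpowers_le.2 h5.2))).trans hK.sn)
        (pg_iff.1 (pg_invol (by rw [← sq, ← h6, pow_orderOf_eq_one]))) (mem_zpowers z)))
    exact h7 (congrArg Subtype.val (eq_one_of_stem M (QuotientGroup.mk' (center K)) (by rw [QuotientGroup.ker_mk'])
      hK.qs.1.1 (z := ⟨z, h5.1⟩) (mem_center_iff.2 fun g => Subtype.ext (h5.2 g g.2)) hp h2
      (Subtype.ext (by rw [← h6]; exact pow_orderOf_eq_one z)))))).1⟩
  have hA := isAutomizer_quot hK.perfect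
  let y' : N[K] := ⟨y, hn⟩
  have hy' : y' ^ 3 = 1 := Subtype.ext hy
  have h4 := map_inf_centralizer_of_coprime ((autModCenter K).comp K.normalizerMonoidHom) (A := zpowers y')
    (K := K.subgroupOf N[K]) le_normalizer_of_normal (IsPiNat.coprime (pg_three hy')
      ((isPiNat_compl_singleton_iff Nat.prime_three).2 ((Nat.Prime.coprime_iff_not_dvd Nat.prime_three).2
        (by rwa [Nat.card_congr (subgroupOfEquivOfLe (le_norm K)).toEquiv])).symm)) (Or.inl (sol_zp y'))
  rw [hA.inn, MonoidHom.map_zpowers] at h4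
  have h5 := card_eight M (α := ((autModCenter K).comp K.normalizerMonoidHom) y') (by rw [← map_pow, hy', map_one]) hd (h4 ▸ H5.isSolvable_map _
    (isSolvable_of_map N[K].subtype (sol_of_le hs (by
      rintro _ ⟨x, hx, rfl⟩
      exact mem_cent1.2 (congrArg Subtype.val (hx.2 y' (mem_zpowers y')).symm)))
      (by rw [ker_subtype, inf_bot_eq]; infer_instance)))
  obtain rfl : m = 1 := by
    have := Nat.pow_right_injective (le_refl 2) (h2.symm.trans h5 : 2 ^ (2 * m + 1) = 2 ^ 3)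
    omega
  exact ⟨F, _, _, h5, ⟨e⟩⟩

end H17.T3
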